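import Cfsg.Agent.H947.Cv.Ree_mg_m3
import Mathlib
import Cfsg.Agent.H727.GW.Isom
import Cfsg.Agent.H946.ExcNum_m3
import Cfsg.Agent.H341.ThreeList_m3
import Cfsg.Agent.H179.OutMinusMain
import Cfsg.Agent.SmallSimple.EvenOrder
import Cfsg.Agent.H190.Cov.Two.Rad3c
import Cfsg.Agent.H351.F4Out.Elt
import Cfsg.Agent.H502.Cov.AltOdd_mg_m3
import Cfsg.Agent.H351.F4Out
import Cfsg.Agent.H628.Exc.Elem
import Cfsg.Agent.H129.CycRow
import Cfsg.Agent.H378.SmallTor_m3
import Cfsg.Agent.S1025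
import Cfsg.Agent.H278.Cov.Defs
import Cfsg.Agent.H563.KG.CycFix
import Cfsg.Agent.OrdDiv.Table
import Cfsg.Agent.S0000
import Cfsg.Agent.H56.Exc.Auto_m3
import Cfsg.Agent.H325.Same.ExcPairE_m3
import Cfsg.Agent.H989.Cov.Om12_m3
import Cfsg.Agent.ClassicalGeometry.AutPSL.SylowU
import Cfsg.Agent.H983.Cov.UThree
import Cfsg.Agent.H946.RadD4_m3
import Cfsg.Agent.S5836
import Cfsg.Agent.ChevalleyStructure.SparseAct
import Cfsg.Agent.S1059
import Cfsg.Agent.H946.KZ.SameF4
import Cfsg.Agent.H868.Dl.RuCls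
import Cfsg.Agent.H153.Cov.Fi23
import Cfsg.Agent.H4.JT.DegOdd_m3
import Cfsg.Agent.Lib.GoldschmidtFusion
import Cfsg.Agent.H105.Dp.Lin2
import Cfsg.Agent.S0126
import Cfsg.Agent.H264.FKS.Res_m3
import Cfsg.Agent.H105.SzSp8
import Cfsg.Agent.H105.SzU2_m3
import Cfsg.Agent.H105.SzO9
import Cfsg.Agent.H217.Odm.Real_m3
import Cfsg.Agent.H290.Cov.E8_m3
import Cfsg.Agent.S0293
import Cfsg.Agent.H725.Cov.HeFacts
import Cfsg.Agent.H49.SPSimple_m3
import Cfsg.Agent.SignalizersComponents.CoprimeGen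
import Cfsg.Agent.H934.OutAll
import Cfsg.Agent.ClassicalGeometry.PSL2Basic
import Cfsg.Agent.S0813
import Cfsg.Agent.H603.SporElim
import Cfsg.Agent.H278.ElFamA
import Cfsg.Agent.H638.G2Iso
import Cfsg.Agent.S0822
import Cfsg.Agent.H325.Cov.KE7e
import Cfsg.Agent.H406.Cov.Top_m3
import Cfsg.Agent.H460.FTypedAE_m3
import Cfsg.Agent.H965.XZ.Walk
import Cfsg.Agent.S0270
import Cfsg.Agent.H946.KZ.Gap
import Cfsg.Agent.H983.ElG.KOut
import Cfsg.Agent.H981.SCTh
import Cfsg.Agent.H303.MaxThThirteen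
import Cfsg.Agent.H257.El.Row.Th
import Cfsg.Agent.FastGrp
import Cfsg.Agent.Prune
set_option linter.all false

section
prune_inst 0x7f00000000000000000000000000000000000000000000000000000000000000000000000000000000000000000000000000000000000000000000000000000000000000000000000000000000000000003fffffffffffffffffffffffffffbeffbdffffffff

section
prune_inst 0xf0acf8abb82ddfdfff7e7fa698cffc19901fffa6dff943ffe061ff0b9f030209c5fb8d09e010fe0ed6c01410b87843f9ffeabfe26bd87ffffd1ff41ffbee1fe5f7b508519488340fbc0ff603f0778a7f000000000000000000000000000000000200000000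

-- part: H351/CovF4/FinalF
section
prune_inst 0xc0003004000002000000050640001e029e000000000880000820020006800c0000020060800000000022800400310000004400000040000004000400011801800080020020400100000098000000400000000000000000000000000000000000000000000
set_option linter.all false
open scoped Cfsg.Agent.FastGrp

-- part: H351/CovF4/Main1
section
/-!
# The simple normal subgroup and its name (helper351, for S2499)
-/

set_option autoImplicit false
set_option exponentiation.threshold 700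

namespace Cfsg.Agent.H351.CovF4

open Cfsg Cfsg.Agent.OrdDiv Cfsg.Agent.H436 Cfsg.Agent.H902 Cfsg.Agent.H902.Names Cfsg.Agent.H915.GN
  Cfsg.Agent.H290.ElReg Cfsg.Agent.H290.ElTab Cfsg.Agent.H290.ElCross Cfsg.Agent.H264.FKS Cfsg.Agent.H56.Exc
  Cfsg.Agent.H325.Loc Cfsg.Agent.H563.KG Cfsg.Agent.H264.GN

/-- the simple normal subgroup of a reduced group -/
theorem core1r (hcyc : CycFixSolv.{0}) {M E : ℕ} (hM : 1 < M)
    {T : Type} [Group T] [Finite T] (hbig : ∀ r, r.Prime → r ∣ M → Big T r M E)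
    {B : Subgroup T} {x : T} (hx : orderOf x = M)
    (hxB : x ∈ B) (hsep : ¬ Nat.card B ∣ E * M) (hred : Red ↥B (Pr (Fm1 M E))) :
    ∃ (S : Subgroup B) (_ : S.Normal) (_ : IsSimpleGroup S), ¬ IsMulCommutative S ∧ (⟨x, hxB⟩ : B) ∈ S ∧
      (∀ r, r.Prime → r ∣ M → Big S r M E) ∧ ∃ n k, S.index * n ∣ E ∧ Nat.card S = n * M * (1 + k * M) := by
  have hMB : M ∣ Nat.card B := by
    have h1 := orderOf_dvd_natCard (⟨x, hxB⟩ : B)
    rwa [Subgroup.orderOf_mk, hx] at h1
  have hrf : RFam ↥B (Fm1 M E) :=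
    { big := by
        rintro r m e ⟨h1, h2, rfl, rfl⟩
        exact (hbig r h1 h2).subgroup B
      dvd := by
        rintro r m e ⟨h1, h2, rfl, rfl⟩
        exact h2.trans hMB
      sep := by
        rintro r m e ⟨h1, h2, rfl, rfl⟩
        exact hsep }
  obtain ⟨r₀, hr₀, hr₀M⟩ := Nat.exists_prime_and_dvd (n := M) (by omega)
  obtain ⟨S, hSn, hSs, hSna, hS⟩ :=
    hrf.exists_full hcyc hred (r₁ := r₀) (m₁ := M) (e₁ := E) ⟨hr₀, hr₀M, rfl, rfl⟩
  have hall : ∀ r, r.Prime → r ∣ M → Big S r M E ∧ r ∣ Nat.card S ∧ ¬ r ∣ S.index ∧ S.index ∣ E * M :=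
    fun r h1 h2 => hS r M E ⟨h1, h2, rfl, rfl⟩
  have hcop : S.index.Coprime M := by
    by_contra hcon
    obtain ⟨r, hr, h1, h2⟩ := Nat.Prime.not_coprime_iff_dvd.1 hcon
    exact (hall r hr h2).2.2.1 h1
  have hxS : (⟨x, hxB⟩ : B) ∈ S := by
    refine mem_of_coprime (S.pow_index_mem _) (r := M) ?_ hcop
    have h1 : (⟨x, hxB⟩ : B) ^ M = 1 := by
      apply Subtype.ext
      show x ^ M = 1
      rw [← hx, pow_orderOf_eq_one]
    rw [h1]
    exact _root_.OneMemClass.one_mem _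
  have hSs' : IsSimpleGroup S := hSs
  exact ⟨S, hSn, hSs, hSna, hxS, fun r h1 h2 => (hall r h1 h2).1,
    count hM (fun r h1 h2 => (hbig r h1 h2).subgroup B) (x := ⟨x, hxB⟩) (by rw [Subgroup.orderOf_mk, hx]) S hxS⟩

/-- reducedness from good primes -/
theorem red_good (hcyc : CycFixSolv.{0}) {M E n p : ℕ} (hp : p.Prime) {F : Type} [Field F] [CharP F p]
    {T : Type} [Group T] [Finite T] (hrep : Fth n F T) (hbig : ∀ r, r.Prime → r ∣ M → Big T r M E)
    {r₀ : ℕ} (hr₀ : r₀.Prime) (hr₀M : r₀ ∣ M) (hpiso : PIso p r₀ T) {B : Subgroup T} (hMB : M ∣ Nat.card B)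
    (hgood : ∀ t : ℕ, t.Prime → t ≠ p → ¬ t ∣ M → t ∣ Nat.card B → _root_.Cfsg.Agent.H563.KG.Good B n t) : Red ↥B (Pr (Fm1 M E)) := by
  have := Fact.mk hp
  obtain ⟨τ, hτ⟩ := hrep.sub B.subtype B.subtype_injective
  have hr₀B : r₀ ∣ Nat.card B := hr₀M.trans hMB
  refine red_of hcyc hτ (fun A hA hAp => pcore_of_piso (hpiso.sub B) hr₀B A hA hAp)
    (pr_fm1.2 ⟨hr₀, hr₀M⟩) hr₀ hr₀B
    (fun x hx => ((hbig r₀ hr₀ hr₀M).subgroup B).cyc x hx) fun t ht htp htn htB => ?_
  rw [Fintype.card_fin]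
  exact hgood t ht htp (fun h => htn (pr_fm1.2 ⟨ht, h⟩)) htB

variable {F : Type} [Field F] [Fintype F]

/-- **The name of the simple normal subgroup.** -/
theorem main1 (tb : OrderTable.{0}) (hcyc : CycFixSolv.{0}) (hcf : CF) [CharP F 2] {e M f : ℕ} (hf : 1 ≤ f)
    (hF : Fintype.card F = 2 ^ f) {L : List (Art.Sh × ℕ × ℕ)} {L' : List ℕ} (hb : bndR 52 e = true)
    (hs : sv2 e L = true) (hbS : bndS e = true) (hsS : svS2 e L' = true) (he : Cls e) (he7 : 7 ≤ e)
    (hle : ∀ q, Even q → ncl e q ≤ 2701 → q ≤ 7) (hM : ncl e (2 ^ f) = M) (hn13 : 13 ≤ M)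
    (hn2 : 2 ≤ f → 105 < M ∧ 52 * f + 1 < M)
    (hbig : ∀ r, r.Prime → r ∣ M → Big ↥(Lie.chevF4.group F) r M e)
    {B : Subgroup ↥(Lie.chevF4.group F)} {x : ↥(Lie.chevF4.group F)} (hx : orderOf x = M)
    (hxB : x ∈ B) (hsep : ¬ Nat.card B ∣ e * M) (hred : Red ↥B (Pr (Fm1 M e))) :
    ∃ (S : Subgroup B) (_ : S.Normal) (_ : IsSimpleGroup S), ¬ IsMulCommutative S ∧ (⟨x, hxB⟩ : B) ∈ S ∧
      (∀ r, r.Prime → r ∣ M → Big S r M e) ∧ (∃ n k, S.index * n ∣ e ∧ Nat.card S = n * M * (1 + k * M)) ∧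
      Nat.card S ∣ num (.f4 (2 ^ f)) ∧
      ((∃ g, IsNamed g S ∧ HasChar 2 g) ∨ (f = 1 ∧ ((∃ g X l a, IsNamed g S ∧ IsLie g X l a ∧
        Art.Real X l a (Nat.card S) ∧ (X, l, a) ∈ L) ∨ Nat.card S ∈ L'))) := by
  have hob_ := core1r hcyc (by omega) hbig hx hxB hsep hred
  obtain ⟨S, hSn, hSs, hSna, hxS, hbS', n, k, hnk, hcard⟩ := hob_
  have hT := named_f4 (F := F) tb
  rw [hF] at hT
  have hdS : Nat.card S ∣ num (.f4 (2 ^ f)) := (Subgroup.card_subgroup_dvd_card S).trans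
    ((Subgroup.card_subgroup_dvd_card B).trans (by rw [← hT.eq]; exact Dvd.intro_left _ rfl))
  have hMS : M ∣ Nat.card S := by
    rw [hcard]
    exact (Dvd.intro_left _ rfl).mul_right _
  have hrep : Fth 52 F S := (fth_F4 (F := F)).sub (B.subtype.comp S.subtype)
    (B.subtype_injective.comp S.subtype_injective)
  refine ⟨S, hSn, hSs, hSna, hxS, hbS', ⟨n, k, hnk, hcard⟩, hdS, ?_⟩
  have hq2 : 1 ≤ 2 ^ f := Nat.one_le_two_pow
  subst hM
  exact name1 tb hb hs hbS hsS he he7 hle hf hn13 hn2 hSna (hcf S) hrep hMS hdS fun r hr x hx =>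
    (hbS' r hr.prime (dvd_ncl he hq2 hr)).cyc x hx

end Cfsg.Agent.H351.CovF4
end

-- part: H351/CovF4/Lin
section
/-!
# Elements of order 16 and `4 r` in small linear groups of characteristic 2 (helper351, for S2499)

* `pow_eq_one_of_finrank` : a 2-element in dimension `≤ 2 ^ b` has order dividing `2 ^ b`;
* `sq_eq_one_of_form` : in dimension 8, a 2-element of order dividing 4 commuting with an isometry of order `r`,
  `r` primitive of order 3, of a nondegenerate alternating form, is an involution.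
-/

set_option autoImplicit false

namespace Cfsg.Agent.H351.CovF4

open Module

section One

variable {K : Type*} [Field K] {V : Type*} [AddCommGroup V] [Module K V]

theorem sub_pow_end [CharP K 2] (A B : Module.End K V) (h : Commute A B) (n : ℕ) :
    (A - B) ^ 2 ^ n = A ^ 2 ^ n - B ^ 2 ^ n := by
  rcases subsingleton_or_nontrivial V with hV | hV
  · exact Subsingleton.elim _ _
  · have : CharP (Module.End K V) 2 := charP_of_injective_algebraMap (algebraMap K (Module.End K V)).injective 2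
    have : Fact (Nat.Prime 2) := ⟨Nat.prime_two⟩
    exact sub_pow_expChar_pow_of_commute 2 n h

theorem pow_eq_zero_of_finrank [FiniteDimensional K V] {N : Module.End K V} (hN : IsNilpotent N) :
    N ^ finrank K V = 0 := by
  have h1 := LinearMap.aeval_self_charpoly N
  rw [hN.charpoly_eq_X_pow_finrank] at h1
  simpa only [_root_.map_pow, _root_.Polynomial.aeval_X] using h1

theorem pow_eq_one_of_finrank [FiniteDimensional K V] [CharP K 2] {A : Module.End K V} {a b : ℕ}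
    (hA : A ^ 2 ^ a = 1) (hd : finrank K V ≤ 2 ^ b) : A ^ 2 ^ b = 1 := by
  have h1 : (A - 1) ^ 2 ^ a = 0 := by
    rw [sub_pow_end _ _ (Commute.one_right A), hA, one_pow, sub_self]
  have h2 := pow_eq_zero_of_finrank (N := A - 1) ⟨_, h1⟩
  have h3 : (A - 1) ^ 2 ^ b = 0 := pow_eq_zero_of_le hd h2
  rw [sub_pow_end _ _ (Commute.one_right A), one_pow] at h3
  exact sub_eq_zero.1 h3

/-- a nilpotent map shrinks invariant subspaces -/
theorem map_lt {N : Module.End K V} (hN : IsNilpotent N) {W : Submodule K V} (hW : ∀ w ∈ W, N w ∈ W) (hne : W ≠ ⊥) :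
    W.map N < W := by
  refine lt_of_le_of_ne (Submodule.map_le_iff_le_comap.2 hW) fun h => hne ?_
  obtain ⟨k, hk⟩ := hN
  have h1 : ∀ j, W.map (N ^ j) = W := by
    intro j
    induction j with
    | zero => rw [pow_zero]; exact Submodule.map_id W
    | succ j ih => rw [pow_succ, Module.End.mul_eq_comp, Submodule.map_comp, h, ih]
  have h2 := h1 k
  rw [hk, Submodule.map_zero] at h2
  exact h2.symm

/-- if all invariant subspaces of `W` have dimension divisible by `c` and `dim W = 2 c`, then `N ^ 2 = 0` on `W` -/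
theorem sq_zero [FiniteDimensional K V] {N : Module.End K V} (hN : IsNilpotent N) {c : ℕ} {W : Submodule K V}
    (hW : ∀ w ∈ W, N w ∈ W) (hd : finrank K W ≤ 2 * c) (h1 : c ∣ finrank K W) (h2 : c ∣ finrank K (W.map N))
    (h3 : c ∣ finrank K ((W.map N).map N)) {w : V} (hw : w ∈ W) : N (N w) = 0 := by
  have h4 : ∀ w ∈ W.map N, N w ∈ W.map N := by
    rintro _ ⟨x, hx, rfl⟩
    exact ⟨N x, hW x hx, rfl⟩
  have h5 : (W.map N).map N = ⊥ := by
    by_contra hne
    have hne1 : W.map N ≠ ⊥ := by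
      intro h
      rw [h, Submodule.map_bot] at hne
      exact hne rfl
    have hne0 : W ≠ ⊥ := by
      intro h
      rw [h, Submodule.map_bot] at hne1
      exact hne1 rfl
    have a1 := Submodule.finrank_lt_finrank_of_lt (map_lt hN hW hne0)
    have a2 := Submodule.finrank_lt_finrank_of_lt (map_lt hN h4 hne1)
    have a3 : 0 < finrank K ((W.map N).map N) := by
      rw [Nat.pos_iff_ne_zero]
      intro h
      exact hne (Submodule.finrank_eq_zero.1 h)
    obtain ⟨x, hx⟩ := h1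
    obtain ⟨y, hy⟩ := h2
    obtain ⟨z, hz⟩ := h3
    rw [hz] at a3
    rw [hy, hz] at a2
    rw [hx, hy] at a1
    rw [hx] at hd
    have hc : 0 < c := Nat.pos_of_ne_zero (by rintro rfl; simp at a3)
    have b1 := Nat.lt_of_mul_lt_mul_left a1
    have b2 := Nat.lt_of_mul_lt_mul_left a2
    have b3 : 0 < z := Nat.pos_of_mul_pos_left a3 |> fun h => by
      rcases Nat.eq_zero_or_pos z with h0 | h0
      · rw [h0, mul_zero] at a3
        exact absurd a3 (lt_irrefl _)
      · exact h0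
    have b4 : c * 3 ≤ c * x := Nat.mul_le_mul_left c (by omega)
    omega
  have h6 : N (N w) ∈ (W.map N).map N := ⟨N w, ⟨w, hw, rfl⟩, rfl⟩
  rw [h5] at h6
  exact h6

end One

section Free

variable {K : Type*} [Field K] [Finite K] {V : Type*} [AddCommGroup V] [Module K V] [FiniteDimensional K V]

open Cfsg.Agent.H436

/-- an invariant subspace without fixed vectors -/
theorem dvd_finrank {e r : ℕ} (hr : Prim (Nat.card K) e r) {g : V →ₗ[K] V} (hg : g ^ r = 1) {W : Submodule K V}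
    (hW : ∀ w ∈ W, g w ∈ W) (hfix : ∀ w ∈ W, g w = w → w = 0) : e ∣ finrank K W := by
  have hrp := hr.prime
  have := Fact.mk hrp
  have : Finite V := Module.finite_of_finite K
  have hW' : ∀ k : ℕ, ∀ w ∈ W, (g ^ k) w ∈ W := by
    intro k
    induction k with
    | zero => intro w hw; exact hw
    | succ k ih => intro w hw; rw [pow_succ', Module.End.mul_apply]; exact hW _ (ih w hw)
  have hr1 : ∀ v, (g ^ (r - 1)) (g v) = v := by
    intro v
    rw [← Module.End.mul_apply, ← pow_succ, Nat.sub_add_cancel hrp.one_le, hg]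
    rfl
  have hr2 : ∀ v, g ((g ^ (r - 1)) v) = v := by
    intro v
    rw [← Module.End.mul_apply, ← pow_succ', Nat.sub_add_cancel hrp.one_le, hg]
    rfl
  let σ : Equiv.Perm W :=
    { toFun := fun w => ⟨g w, hW w w.2⟩
      invFun := fun w => ⟨(g ^ (r - 1)) w, hW' _ w w.2⟩
      left_inv := fun w => Subtype.ext (hr1 w)
      right_inv := fun w => Subtype.ext (hr2 w) }
  have hσ : ∀ (k : ℕ) (w : W), (((σ ^ k) w : W) : V) = (g ^ k) w := by
    intro k
    induction k with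
    | zero => intro w; rfl
    | succ k ih =>
      intro w
      rw [pow_succ', pow_succ', Equiv.Perm.mul_apply, Module.End.mul_apply, ← ih]
      rfl
  have hσr : σ ^ r = 1 := by
    ext w
    rw [hσ, hg]
    rfl
  have hP : IsPGroup r (Subgroup.zpowers σ) := by
    by_cases h : σ = 1
    · refine IsPGroup.of_card (n := 0) ?_
      rw [Nat.card_zpowers, h, orderOf_one, pow_zero]
    · refine IsPGroup.of_card (n := 1) ?_
      rw [Nat.card_zpowers, pow_one]
      exact orderOf_eq_prime hσr h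
  have h1 := hP.card_modEq_card_fixedPoints W
  have h2 : MulAction.fixedPoints (Subgroup.zpowers σ) W = {0} := by
    ext w
    rw [MulAction.mem_fixedPoints, Set.mem_singleton_iff]
    constructor
    · intro h
      have h3 := h ⟨σ, Subgroup.mem_zpowers σ⟩
      have h4 : g w = w := congrArg Subtype.val h3
      exact Subtype.ext (hfix w w.2 h4)
    · rintro rfl ⟨τ, k, rfl⟩
      have h5 : σ • (0 : W) = 0 := Subtype.ext (map_zero g)
      exact smul_eq_self_of_mem_zpowers (y := σ) ⟨k, rfl⟩ h5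
  have h6 : Nat.card ↑({0} : Set W) = 1 := by
    rw [Nat.card_coe_set_eq, Set.ncard_singleton]
  rw [h2, h6, Module.natCard_eq_pow_finrank (K := K) (V := W)] at h1
  rw [← hr.dvd_iff]
  exact (Nat.modEq_iff_dvd' (Nat.one_le_pow _ _ Nat.card_pos)).1 h1.symm

/-- **No elements of order `4 r`.** -/
theorem sq_eq_one_of_form [CharP K 2] {r : ℕ} (hr : Prim (Nat.card K) 3 r) (hV : finrank K V = 8)
    (B : LinearMap.BilinForm K V) (hB : ∀ x, B x x = 0) (hnd : ∀ x, (∀ y, B x y = 0) → x = 0)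
    {g u : Module.End K V} (hgB : ∀ x y, B (g x) (g y) = B x y) (hgr : g ^ r = 1) (hg1 : g ≠ 1) (hu : u ^ 4 = 1)
    (hc : Commute g u) : u ^ 2 = 1 := by
  have hrp := hr.prime
  have hr2 : r ≠ 2 := by
    rintro rfl
    have := Fintype.ofFinite K
    obtain ⟨n, -, h⟩ := FiniteField.card K 2
    apply hr.not_dvd
    rw [Nat.card_eq_fintype_card, h]
    exact dvd_pow_self 2 n.pos.ne'
  have hr1 : ((r : ℕ) : K) = 1 := by
    obtain ⟨k, hk⟩ := hrp.odd_of_ne_two hr2
    rw [hk]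
    push_cast
    rw [show (2 : K) = 0 from CharTwo.two_eq_zero, zero_mul, zero_add]
  set N : Module.End K V := u - 1 with hNdef
  have hNg : ∀ v, N (g v) = g (N v) := by
    intro v
    have := congrArg (fun f : Module.End K V => f v) hc.eq
    simp only [Module.End.mul_apply] at this
    rw [hNdef, LinearMap.sub_apply, LinearMap.sub_apply, map_sub, this]
    rfl
  have hN4 : N ^ 4 = 0 := by
    have := sub_pow_end u 1 (Commute.one_right u) 2
    norm_num at this
    rw [hNdef, this, hu, sub_self]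
  have hNil : IsNilpotent N := ⟨4, hN4⟩
  -- the decomposition
  let e : Module.End K V := ∑ k ∈ Finset.range r, g ^ k
  have hea : ∀ v, e v = ∑ k ∈ Finset.range r, (g ^ k) v := fun v => by
    show (∑ k ∈ Finset.range r, g ^ k) v = _
    rw [LinearMap.sum_apply]
  have hshift : ∀ v, ∑ k ∈ Finset.range r, (g ^ (k + 1)) v = ∑ k ∈ Finset.range r, (g ^ k) v := by
    intro v
    have h2 := Finset.sum_range_succ' (fun k => (g ^ k) v) r
    have h3 := Finset.sum_range_succ (fun k => (g ^ k) v) r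
    rw [h3] at h2
    simp only [hgr, pow_zero] at h2
    exact (add_right_cancel h2).symm
  have hge : ∀ v, g (e v) = e v := by
    intro v
    rw [hea, map_sum, ← hshift v]
    refine Finset.sum_congr rfl fun k _ => ?_
    rw [pow_succ', Module.End.mul_apply]
  have heg : ∀ v, e (g v) = e v := by
    intro v
    rw [hea, hea, ← hshift v]
    refine Finset.sum_congr rfl fun k _ => ?_
    rw [pow_succ, Module.End.mul_apply]
  have hfk : ∀ v, g v = v → ∀ k : ℕ, (g ^ k) v = v := by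
    intro v hv k
    induction k with
    | zero => rfl
    | succ k ih => rw [pow_succ, Module.End.mul_apply, hv, ih]
  have hefix : ∀ v, g v = v → e v = v := by
    intro v hv
    rw [hea, Finset.sum_congr rfl fun k _ => hfk v hv k, Finset.sum_const, Finset.card_range,
      ← Nat.cast_smul_eq_nsmul K, hr1, one_smul]
  have hNe : ∀ v, N (e v) = e (N v) := by
    intro v
    have hk : ∀ k : ℕ, ∀ v, N ((g ^ k) v) = (g ^ k) (N v) := by
      intro k
      induction k with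
      | zero => intro v; rfl
      | succ k ih => intro v; rw [pow_succ', Module.End.mul_apply, Module.End.mul_apply, hNg, ih]
    rw [hea, hea, map_sum]
    exact Finset.sum_congr rfl fun k _ => hk k v
  let V0 : Submodule K V := LinearMap.ker (g - 1)
  let V1 : Submodule K V := LinearMap.ker e
  have hV0 : ∀ v, v ∈ V0 ↔ g v = v := fun v => by
    rw [LinearMap.mem_ker, LinearMap.sub_apply, sub_eq_zero]
    rfl
  have hV1 : ∀ v, v ∈ V1 ↔ e v = 0 := fun v => LinearMap.mem_ker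
  have hcompl : IsCompl V0 V1 := by
    constructor
    · rw [Submodule.disjoint_def]
      intro v h0 h1
      rw [← hefix v ((hV0 v).1 h0)]
      exact (hV1 v).1 h1
    · rw [codisjoint_iff, eq_top_iff]
      intro v _
      rw [Submodule.mem_sup]
      refine ⟨e v, (hV0 _).2 (hge v), v - e v, (hV1 _).2 ?_, by abel⟩
      rw [map_sub, hefix (e v) (hge v), sub_self]
  have hdim : finrank K V0 + finrank K V1 = 8 := by
    rw [← hV]
    exact Submodule.finrank_add_eq_of_isCompl hcompl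
  have hN0 : ∀ w ∈ V0, N w ∈ V0 := by
    intro w hw
    rw [hV0] at hw ⊢
    rw [← hNg, hw]
  have hN1 : ∀ w ∈ V1, N w ∈ V1 := by
    intro w hw
    rw [hV1] at hw ⊢
    rw [← hNe, hw, map_zero]
  have hg1' : ∀ w ∈ V1, g w ∈ V1 := by
    intro w hw
    rw [hV1] at hw ⊢
    rw [heg, hw]
  have hfree : ∀ w ∈ V1, g w = w → w = 0 := by
    intro w hw h
    rw [← hefix w h]
    exact (hV1 w).1 hw
  have h1 : 3 ∣ finrank K V1 := dvd_finrank hr hgr hg1' hfree
  have hle1 : V1.map N ≤ V1 := Submodule.map_le_iff_le_comap.2 hN1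
  have hgm : ∀ w ∈ V1.map N, g w ∈ V1.map N := by
    rintro _ ⟨x, hx, rfl⟩
    exact ⟨g x, hg1' x hx, hNg x⟩
  have h2 : 3 ∣ finrank K (V1.map N) := dvd_finrank hr hgr hgm fun w hw => hfree w (hle1 hw)
  have h3 : 3 ∣ finrank K ((V1.map N).map N) := by
    refine dvd_finrank hr hgr ?_ fun w hw => hfree w ?_
    · rintro _ ⟨x, hx, rfl⟩
      exact ⟨g x, hgm x hx, hNg x⟩
    · obtain ⟨x, hx, rfl⟩ := hw
      exact hN1 x (hle1 hx)
  -- the form
  have heven : Even (finrank K V0) := by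
    refine Cfsg.Agent.H727.GW.even_finrank _ V0 (B.restrict V0) (fun x => hB x) ?_ rfl
    intro x hx
    apply Subtype.ext
    apply hnd
    intro y
    have hxg : g (x : V) = x := (hV0 _).1 x.2
    have hk : ∀ k : ℕ, ∀ z, B x ((g ^ k) z) = B x z := by
      intro k
      induction k with
      | zero => intro z; rfl
      | succ k ih =>
        intro z
        rw [pow_succ', Module.End.mul_apply]
        conv_lhs => rw [← hxg]
        rw [hgB, ih]
    have hz : ∀ z, B x (e z) = B x z := by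
      intro z
      rw [hea, map_sum, Finset.sum_congr rfl fun k _ => hk k z, Finset.sum_const, Finset.card_range,
        nsmul_eq_mul, hr1, one_mul]
    rw [← hz]
    exact hx ⟨e y, (hV0 _).2 (hge y)⟩
  have hne : finrank K V1 ≠ 0 := by
    intro h
    apply hg1
    have hbot : V1 = ⊥ := Submodule.finrank_eq_zero.1 h
    ext v
    have h4 : v - e v ∈ V1 := (hV1 _).2 (by rw [map_sub, hefix (e v) (hge v), sub_self])
    rw [hbot, Submodule.mem_bot, sub_eq_zero] at h4
    rw [h4, hge]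
    rfl
  obtain ⟨d0, hd0⟩ := heven
  have h6 : finrank K V1 = 6 := by omega
  have h7 : finrank K V0 = 2 := by (clear * - hdim h6; omega)
  have hz1 : ∀ w ∈ V1, N (N w) = 0 := fun w hw => sq_zero hNil hN1 (c := 3) (by omega) h1 h2 h3 hw
  have hz0 : ∀ w ∈ V0, N (N w) = 0 := fun w hw =>
    sq_zero hNil hN0 (c := 1) (by omega) (one_dvd _) (one_dvd _) (one_dvd _) hw
  have hN2 : N ^ 2 = 0 := by
    ext v
    have h4 : v = e v + (v - e v) := by abel
    rw [pow_two, Module.End.mul_apply, h4, map_add, map_add, hz0 _ ((hV0 _).2 (hge v)),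
      hz1 _ ((hV1 _).2 (by rw [map_sub, hefix (e v) (hge v), sub_self])), add_zero]
    rfl
  have h8 := sub_pow_end u 1 (Commute.one_right u) 1
  norm_num at h8
  rw [← hNdef, hN2] at h8
  exact (sub_eq_zero.1 h8.symm)

end Free

end Cfsg.Agent.H351.CovF4
end

-- part: H351/CovF4/LinKill
section
/-!
# Elements of order 16 and `4 r` in groups of small Lie rank in characteristic 2 (helper351, for S2499)
-/

set_option autoImplicit false

namespace Cfsg.Agent.H351.CovF4

open Module Cfsg Cfsg.Agent.H436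

theorem exists_pow_order {G : Type*} [Group G] {a : G} {n : ℕ} (hn : n ∣ orderOf a) (h0 : orderOf a ≠ 0) :
    ∃ k, orderOf (a ^ k) = n := by
  obtain ⟨k, hk⟩ := hn
  have hk0 : k ≠ 0 := by rintro rfl; exact h0 (by rw [hk, mul_zero])
  refine ⟨k, ?_⟩
  rw [orderOf_pow_of_dvd hk0 (Dvd.intro_left _ hk.symm), hk, Nat.mul_div_cancel _ (Nat.pos_of_ne_zero hk0)]

section Abs

variable {K : Type*} [Field K] [CharP K 2] {V : Type*} [AddCommGroup V] [Module K V] [FiniteDimensional K V]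
  {L S : Type*} [Group L] [Finite L] [Group S]

/-- the exponent of a Sylow 2-subgroup -/
theorem not_dvd_of_end (ρ : L →* Module.End K V) (hρ : Function.Injective ρ) {b : ℕ} (hd : finrank K V ≤ 2 ^ b)
    (π : L →* S) (hπ : Function.Surjective π) (x : S) : ¬ 2 ^ (b + 1) ∣ orderOf x := by
  intro h
  obtain ⟨l, rfl⟩ := hπ x
  obtain ⟨k, hk⟩ := exists_pow_order (h.trans (orderOf_map_dvd π l)) (orderOf_pos l).ne'
  have h1 : (ρ (l ^ k)) ^ 2 ^ (b + 1) = 1 := by
    rw [← map_pow, ← hk, pow_orderOf_eq_one, map_one]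
  have h2 := pow_eq_one_of_finrank h1 hd
  rw [← map_pow] at h2
  have h3 : (l ^ k) ^ 2 ^ b = 1 := hρ (h2.trans (map_one ρ).symm)
  have h4 := orderOf_dvd_of_pow_eq_one h3
  rw [hk] at h4
  have h5 := Nat.le_of_dvd (by positivity) h4
  have h6 : 2 ^ b < 2 ^ (b + 1) := Nat.pow_lt_pow_right (by norm_num) (by omega)
  omega

/-- elements of order `4 r` -/
theorem not_dvd_of_form [Finite K] {r : ℕ} (hr : Prim (Nat.card K) 3 r) (hV : finrank K V = 8)
    (B : LinearMap.BilinForm K V) (hB : ∀ x, B x x = 0) (hnd : ∀ x, (∀ y, B x y = 0) → x = 0)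
    (ρ : L →* Module.End K V) (hρ : Function.Injective ρ) (hρB : ∀ l x y, B (ρ l x) (ρ l y) = B x y)
    (π : L →* S) (hπ : Function.Surjective π) (x : S) : ¬ 4 * r ∣ orderOf x := by
  intro h
  obtain ⟨l, rfl⟩ := hπ x
  have hl := h.trans (orderOf_map_dvd π l)
  obtain ⟨k, hk⟩ := exists_pow_order ((Dvd.intro _ rfl).trans hl) (orderOf_pos l).ne'
  obtain ⟨j, hj⟩ := exists_pow_order ((Dvd.intro_left _ rfl).trans hl) (orderOf_pos l).ne'
  have h1 : ρ (l ^ k) ^ 4 = 1 := by rw [← map_pow, ← hk, pow_orderOf_eq_one, map_one]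
  have h2 : ρ (l ^ j) ^ r = 1 := by rw [← map_pow, ← hj, pow_orderOf_eq_one, map_one]
  have h3 : ρ (l ^ j) ≠ 1 := by
    intro h3
    have h4 : l ^ j = 1 := hρ (h3.trans (map_one ρ).symm)
    rw [h4, orderOf_one] at hj
    exact hr.prime.one_lt.ne hj
  have h4 : Commute (ρ (l ^ j)) (ρ (l ^ k)) := by
    rw [map_pow, map_pow]
    exact (Commute.refl (ρ l)).pow_pow j k
  have h5 := sq_eq_one_of_form hr hV B hB hnd (hρB _) h2 h3 h1 h4
  rw [← map_pow] at h5
  have h6 := orderOf_dvd_of_pow_eq_one (hρ (h5.trans (map_one ρ).symm))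
  rw [hk] at h6
  exact absurd (Nat.le_of_dvd (by norm_num) h6) (by norm_num)

end Abs

/-! ### the groups -/

section Groups

variable {F : Type} [Field F]

theorem finrank_fun (ι : Type) [Fintype ι] : finrank F (ι → F) = Fintype.card ι := Module.finrank_fintype_fun_eq_card F

/-- matrices acting on columns -/
def mv (ι : Type) [Fintype ι] [DecidableEq ι] : Matrix ι ι F →* Module.End F (ι → F) where
  toFun := fun A => Matrix.toLin' A
  map_one' := Matrix.toLin'_one
  map_mul' := fun A B => Matrix.toLin'_mul A B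

theorem mv_injective (ι : Type) [Fintype ι] [DecidableEq ι] : Function.Injective (mv (F := F) ι) :=
  fun _ _ h => Matrix.toLin'.injective h

/-- the special linear group -/
def slMat (ι : Type) [Fintype ι] [DecidableEq ι] : Matrix.SpecialLinearGroup ι F →* Matrix ι ι F where
  toFun := fun A => (A : Matrix ι ι F)
  map_one' := rfl
  map_mul' := fun _ _ => rfl

theorem quot_surjective {L S : Type} [Group L] [Group S] (e : S ≃* L ⧸ Subgroup.center L) :
    Function.Surjective (e.symm.toMonoidHom.comp (QuotientGroup.mk' (Subgroup.center L))) :=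
  e.symm.surjective.comp (QuotientGroup.mk'_surjective _)

variable [Fintype F] [CharP F 2]

/-- `L₂(Q)` -/
theorem psl2_four {S : Type} [Group S] (e : S ≃* Matrix.ProjectiveSpecialLinearGroup (Fin 2) F) (x : S) :
    ¬ 4 ∣ orderOf x := by
  classical
  have h := not_dvd_of_end (S := S) ((mv (F := F) (Fin 2)).comp (slMat (Fin 2)))
    ((mv_injective (Fin 2)).comp fun A B h => Subtype.ext h) (b := 1) (by rw [finrank_fun]; rfl)
    _ (quot_surjective e) x
  exact h

/-- `PSp₂ₘ(Q)` -/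
theorem psp_pow {m b : ℕ} (hm : 2 * m ≤ 2 ^ b) {S : Type} [Group S] (e : S ≃* PSp m F) (x : S) :
    ¬ 2 ^ (b + 1) ∣ orderOf x := by
  classical
  exact not_dvd_of_end (S := S) ((mv (F := F) (Fin m ⊕ Fin m)).comp (Matrix.symplecticGroup (Fin m) F).subtype)
    ((mv_injective (Fin m ⊕ Fin m)).comp fun A B h => Subtype.ext h) (b := b)
    (by rw [finrank_fun, Fintype.card_sum, Fintype.card_fin]; omega)
    _ (quot_surjective e) x

/-- `Sz(Q)` -/
theorem sz_eight {S : Type} [Group S] {θ : ℕ} (e : S ≃* ↥(Lie.Sz F θ)) (x : S) : ¬ 8 ∣ orderOf x := by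
  classical
  have h := not_dvd_of_end (S := S) ((mv (F := F) (Fin 4)).comp ((Units.coeHom _).comp (Lie.Sz F θ).subtype))
    ((mv_injective (Fin 4)).comp fun A B h => Subtype.ext (Units.ext h)) (b := 2)
    (by rw [finrank_fun]; rfl) e.symm.toMonoidHom e.symm.surjective x
  exact h

/-- `PSp₈(Q)`, order `4 r` -/
theorem psp4_four {r : ℕ} (hr : Prim (Fintype.card F) 3 r) {S : Type} [Group S] (e : S ≃* PSp 4 F) (x : S) :
    ¬ 4 * r ∣ orderOf x := by
  classical
  rw [← Nat.card_eq_fintype_card] at hr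
  let J : Matrix (Fin 4 ⊕ Fin 4) (Fin 4 ⊕ Fin 4) F := Matrix.J (Fin 4) F
  have hJ : IsUnit J.det := Matrix.isUnit_det_J (Fin 4) F
  refine not_dvd_of_form (S := S) hr (by rw [finrank_fun]; rfl) (Matrix.toBilin' J) ?_ ?_
    ((mv (F := F) (Fin 4 ⊕ Fin 4)).comp (Matrix.symplecticGroup (Fin 4) F).subtype)
    ((mv_injective (Fin 4 ⊕ Fin 4)).comp fun A B h => Subtype.ext h) ?_
    _ (quot_surjective e) x
  · intro v
    rw [Matrix.toBilin'_apply']
    show v ⬝ᵥ (Matrix.fromBlocks 0 (-1) 1 0).mulVec v = 0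
    rw [Matrix.fromBlocks_mulVec]
    simp only [Matrix.zero_mulVec, zero_add, Matrix.one_mulVec, add_zero, Matrix.neg_mulVec]
    simp only [dotProduct, Fintype.sum_sum_type, Sum.elim_inl, Sum.elim_inr, Pi.neg_apply, Function.comp_apply, mul_neg,
      Finset.sum_neg_distrib]
    rw [neg_add_eq_zero]
    exact Finset.sum_congr rfl fun i _ => mul_comm _ _
  · intro v hv
    have h1 : Matrix.vecMul v J = 0 := by
      funext i
      have := hv (Pi.single i 1)
      rw [Matrix.toBilin'_apply', Matrix.dotProduct_mulVec] at this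
      simpa using this
    have h2 : Matrix.vecMul (Matrix.vecMul v J) J⁻¹ = v := by
      rw [Matrix.vecMul_vecMul, Matrix.mul_nonsing_inv _ hJ, Matrix.vecMul_one]
    rw [← h2, h1, Matrix.zero_vecMul]
  · intro l v w
    have hl := (SymplecticGroup.mem_iff').1 l.2
    show Matrix.toBilin' J (Matrix.toLin' (l : Matrix _ _ F) v) (Matrix.toLin' (l : Matrix _ _ F) w) = _
    rw [Matrix.toBilin'_apply', Matrix.toBilin'_apply', Matrix.toLin'_apply, Matrix.toLin'_apply,
      Matrix.dotProduct_mulVec, Matrix.vecMul_mulVec, Matrix.dotProduct_mulVec, Matrix.vecMul_vecMul,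
      ← Matrix.dotProduct_mulVec]
    exact congrArg (fun M : Matrix _ _ F => v ⬝ᵥ M.mulVec w) hl

end Groups

end Cfsg.Agent.H351.CovF4
end

-- part: H351/CovF4/OmKill
section
/-!
# Extensions of `PΩ₈⁻(q)` by a group of order 2, `q` even (helper351, for S2499)

`omega_kill` : `H` with a normal subgroup `S` of index dividing 2, `S` isomorphic to `PΩ₈⁻(q)`, `C_H(S) = 1`: `H` has no
elements of order divisible by 16 or by `4 r`, `r` primitive of order 3.
-/

set_option autoImplicit false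

namespace Cfsg.Agent.H351.CovF4

open QuadraticMap Cfsg.Agent.LieClassical.OrthCore Cfsg.Agent.LieClassical.OrthTrans
  Cfsg.Agent.LieClassical.OrthSimple Cfsg.Agent.ClassicalGeometry.OrthSemi
  Cfsg.Agent.ClassicalGeometry.OrthSemiCount Cfsg.Agent.ClassicalGeometry.OrthAut1
  Cfsg.Agent.ClassicalGeometry.OrthSemiForms Cfsg.Agent.LieClassical.OrthForms
  Cfsg.Agent.H989.OutOrth.Abstract Cfsg.Agent.H989.OutOrth.Basic Cfsg.Agent.H989.OutOrth.Forms
  Cfsg.Agent.H179.OutMinus Cfsg.Agent.H179.OutMinusMain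

variable {F : Type} [Field F] [Fintype F] {f : ℕ}

/-- the reflection induces an outer automorphism -/
theorem out_rf_ne (hf : 1 ≤ f) (hF : Fintype.card F = 2 ^ f) {m : ℕ} (hm : 4 ≤ m) {a b : F}
    (hab : ∀ z₁ z₂ : F, z₁ ^ 2 + a * z₁ * z₂ + b * z₂ ^ 2 = 0 → z₁ = 0 ∧ z₂ = 0)
    (hG : Good (minusForm (m - 1) F a b)) : ∃ (v : (Fin (m - 1) ⊕ Fin (m - 1)) ⊕ Fin 2 → F)
      (hv : minusForm (m - 1) F a b v ≠ 0), out _ (rf v hv) ≠ 1 := by
  have hp : Fact (Nat.Prime 2) := ⟨Nat.prime_two⟩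
  have hob_ := cards hf hF hm hab hG (by rw [if_pos rfl])
  obtain ⟨hD, -⟩ := hob_
  have hchar : CharP F 2 := charP_of_card hF
  have hsq : ∀ c : F, IsSquare c := fun c =>
    FiniteField.isSquare_of_char_two (ringChar.eq_iff.2 hchar) c
  set v := v0 a b (m - 1) with hvdef
  have hv : minusForm (m - 1) F a b v ≠ 0 := form_v0_ne hab (m - 1)
  have hall : ∀ (w) (hw : minusForm (m - 1) F a b w ≠ 0),
      out _ (rf w hw) = out _ (rf v hv) := by
    intro w hw
    have hob_ := hsq (minusForm (m - 1) F a b w / minusForm (m - 1) F a b v)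
    obtain ⟨s, hs⟩ := hob_
    exact (out_rf_of_square hG hv hw (s := s) (by rw [← hs, div_mul_cancel₀ _ hv])).symm
  refine ⟨v, hv, ?_⟩
  intro h
  classical
  have h5 : Nat.card (D hG) ≤ ({1} : Finset (Cfsg.Out (P (minusForm (m - 1) F a b)))).card := by
    refine card_le_finset _ fun d hd => ?_
    rw [Finset.mem_singleton]
    have hob_ := D_cases hG hv hall (δ0 := 1) (c0 := 1)
      ⟨one_ne_zero, fun _ _ => rfl, fun _ _ => rfl, fun _ => by rw [one_mul]; rfl⟩
      (fun c _ => Or.inl (hsq c)) hd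
    rcases hob_ with h6 | h6 | h6 | h6
    · exact h6
    · rw [h6, h]
    · rw [h6, map_one]
    · rw [h6, h, map_one, one_mul]
  rw [hD, Finset.card_singleton] at h5
  omega

/-- in a cyclic group there is at most one involution -/
theorem eq_of_cyclic {C : Type*} [Group C] [Finite C] [IsCyclic C] {x r : C} (hx : x * x = 1) (hr : r * r = 1)
    (hr1 : r ≠ 1) : x = 1 ∨ x = r := by
  classical
  have := Fintype.ofFinite C
  by_contra hcon
  rw [not_or] at hcon
  have h1 := IsCyclic.card_pow_eq_one_le (α := C) (n := 2) (by norm_num)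
  have h2 : ({1, r, x} : Finset C) ⊆ Finset.univ.filter fun a : C => a ^ 2 = 1 := by
    intro y hy
    rw [Finset.mem_filter]
    refine ⟨Finset.mem_univ _, ?_⟩
    simp only [Finset.mem_insert, Finset.mem_singleton] at hy
    rcases hy with rfl | rfl | rfl
    · exact one_pow 2
    · rw [pow_two]; exact hr
    · rw [pow_two]; exact hx
  have h3 := (Finset.card_le_card h2).trans h1
  have h4 : ({1, r, x} : Finset C).card = 3 := by
    rw [Finset.card_eq_three]
    exact ⟨1, r, x, hr1.symm, (Ne.symm hcon.1), (Ne.symm hcon.2), rfl⟩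
  omega

/-- an automorphism whose square is inner is induced by an isometry -/
theorem exists_isometry (hf : 1 ≤ f) (hF : Fintype.card F = 2 ^ f) {m : ℕ} (hm : 4 ≤ m) {a b : F}
    (hab : ∀ z₁ z₂ : F, z₁ ^ 2 + a * z₁ * z₂ + b * z₂ ^ 2 = 0 → z₁ = 0 ∧ z₂ = 0)
    (hG : Good (minusForm (m - 1) F a b)) {α : MulAut (P (minusForm (m - 1) F a b))}
    (hα : α * α ∈ Cfsg.Inn (P (minusForm (m - 1) F a b))) :
    ∃ g : O (minusForm (m - 1) F a b), Psi _ (ofO _ g) = α := by
  have hp : Fact (Nat.Prime 2) := ⟨Nat.prime_two⟩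
  have hob_ := out_rf_ne hf hF hm hab hG
  obtain ⟨v, hv, hr1⟩ := hob_
  have hob_ := char_two (p := 2) rfl hf hF hm hab hG
  obtain ⟨hcyc, hcard⟩ := hob_
  have hfin : Finite (Cfsg.Out (P (minusForm (m - 1) F a b))) :=
    Nat.finite_of_card_ne_zero (by rw [hcard]; omega)
  have hr : out (minusForm (m - 1) F a b) (rf v hv) * out _ (rf v hv) = 1 := by
    ((conv => enter [@2]; rw [← map_mul]); (conv => enter [@2, @6]; rw [rf_mul_self]); simp only [map_one])
  let x : Cfsg.Out (P (minusForm (m - 1) F a b)) := QuotientGroup.mk' (Cfsg.Inn _) α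
  have hx : x * x = 1 := by
    show QuotientGroup.mk' (Cfsg.Inn _) α * QuotientGroup.mk' (Cfsg.Inn _) α = 1
    simp_rw [← map_mul, QuotientGroup.mk'_apply, QuotientGroup.eq_one_iff]
    exact hα
  have hinn : ∀ β ∈ Cfsg.Inn (P (minusForm (m - 1) F a b)), ∃ g : O (minusForm (m - 1) F a b),
      Psi _ (ofO _ g) = β := by
    rintro _ ⟨p, rfl⟩
    have hob_ := QuotientGroup.mk_surjective p
    obtain ⟨g, rfl⟩ := hob_
    exact ⟨⟨g, E_le_O g.2⟩, Psi_ofO g⟩
  have hob_ := eq_of_cyclic hx hr hr1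
  rcases hob_ with h | h
  · apply hinn
    exact (QuotientGroup.eq_one_iff _).1 h
  · have h1 : α * (Psi _ (rf v hv))⁻¹ ∈ Cfsg.Inn (P (minusForm (m - 1) F a b)) := by
      (rewrite [← QuotientGroup.eq_one_iff]; (conv => enter [@2]; rw [← QuotientGroup.mk'_apply]); (conv => enter [@2]; rw [map_mul]); (conv => enter [@2, @6]; rw [map_inv]))
      exact mul_inv_eq_one.2 h
    have hob_ := hinn _ h1
    obtain ⟨g, hg⟩ := hob_
    refine ⟨g * ⟨refl _ v hv, refl_mem_O hv⟩, ?_⟩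
    ((conv => enter [@2, @6]; rw [map_mul]); simp only [map_mul]; simp +singlePass only [hg])
    show α * (Psi _ (rf v hv))⁻¹ * Psi _ (rf v hv) = α
    rw [inv_mul_cancel_right]

/-- isometries as linear maps -/
def endO {V : Type} [AddCommGroup V] [Module F V] (Q : QuadraticForm F V) : O Q →* Module.End F V where
  toFun := fun g => (g.1 : V →ₗ[F] V)
  map_one' := rfl
  map_mul' := fun _ _ => rfl

omit [Fintype F] in
theorem endO_injective {V : Type} [AddCommGroup V] [Module F V] (Q : QuadraticForm F V) :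
    Function.Injective (endO Q) := by
  intro g h e
  apply Subtype.ext
  apply LinearEquiv.toLinearMap_injective
  exact e

/-- **Extensions of `PΩ₈⁻(q)`.** -/
theorem omega_kill (hf : 1 ≤ f) (hF : Fintype.card F = 2 ^ f) {a b : F}
    (hab : ∀ z₁ z₂ : F, z₁ ^ 2 + a * z₁ * z₂ + b * z₂ ^ 2 = 0 → z₁ = 0 ∧ z₂ = 0) {H : Type} [Group H] (S : Subgroup H)
    [hS : S.Normal] (hidx : ∀ h : H, h * h ∈ S) (hC : ∀ h : H, (∀ s ∈ S, h * s = s * h) → h = 1)
    (e : S ≃* Cfsg.POmega F (Cfsg.quadFormMinus (4 - 1) F a b)) (h : H) :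
    ¬ 16 ∣ orderOf h ∧ ∀ r, Cfsg.Agent.H436.Prim (Fintype.card F) 3 r → ¬ 4 * r ∣ orderOf h := by
  classical
  have hp : Fact (Nat.Prime 2) := ⟨Nat.prime_two⟩
  have hchar : CharP F 2 := charP_of_card hF
  have hG : Good (minusForm (4 - 1) F a b) := good_minus (F := F) (m := 4 - 1) (by norm_num) a b hab
  let Q := minusForm (4 - 1) F a b
  rw [← coe_minusForm] at e
  let e' : S ≃* P Q := e.trans (pomegaEquiv hG)
  let c : H →* MulAut S := MulAut.conjNormal
  have hc : Function.Injective c := by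
    rw [← MonoidHom.ker_eq_bot_iff, eq_bot_iff]
    intro y hy
    rw [Subgroup.mem_bot]
    apply hC
    intro s hs
    have h1 := DFunLike.congr_fun (MonoidHom.mem_ker.1 hy) ⟨s, hs⟩
    have h2 := congrArg Subtype.val h1
    rw [MulAut.conjNormal_apply] at h2
    exact mul_inv_eq_iff_eq_mul.1 h2
  let β : H →* MulAut (P Q) := (MulAut.congr e').toMonoidHom.comp c
  have hβ : Function.Injective β := (MulAut.congr e').injective.comp hc
  have hβS : ∀ s : S, β s = MulAut.conj (e' s) := by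
    intro s
    ext y
    show e' (MulAut.conjNormal (s : H) (e'.symm y)) = e' s * y * (e' s)⁻¹
    have h1 : MulAut.conjNormal (s : H) (e'.symm y) = s * e'.symm y * s⁻¹ := by
      apply Subtype.ext
      rw [MulAut.conjNormal_apply]
      rfl
    simp only [h1, map_mul, map_mul, map_inv, MulEquiv.apply_symm_apply]
  let π : O Q →* MulAut (P Q) := (Psi Q).comp (ofO Q)
  have hπ : ∀ y : H, β y ∈ π.range := by
    intro y
    have hob_ := exists_isometry hf hF (le_refl 4) hab hG (α := β y) (by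
      simp only [← map_mul, hβS ⟨y * y, hidx y⟩]
      exact ⟨_, rfl⟩)
    obtain ⟨g, hg⟩ := hob_
    exact ⟨g, hg⟩
  have hfinO : Finite (O Q) := by
    have : Finite (Module.End F ((Fin (4 - 1) ⊕ Fin (4 - 1)) ⊕ Fin 2 → F)) :=
      Finite.of_injective (fun g : Module.End F _ => (g : _ → _)) DFunLike.coe_injective
    exact Finite.of_injective _ (endO_injective Q)
  have hx : orderOf (⟨β h, hπ h⟩ : π.range) = orderOf h := by
    rw [← Subgroup.orderOf_coe]
    exact orderOf_injective β hβ h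
  have hV : Module.finrank F ((Fin (4 - 1) ⊕ Fin (4 - 1)) ⊕ Fin 2 → F) = 8 := by
    rw [finrank_fun]
    rfl
  rw [← hx]
  constructor
  · exact not_dvd_of_end (b := 3) (endO Q) (endO_injective Q) hV.le π.rangeRestrict π.rangeRestrict_surjective _
  · intro r hr
    rw [← Nat.card_eq_fintype_card] at hr
    refine not_dvd_of_form hr hV (polarBilin Q) ?_ ?_ (endO Q) (endO_injective Q) ?_ π.rangeRestrict
      π.rangeRestrict_surjective _
    · intro x
      show polar Q x x = 0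
      rw [polar_self, two_smul]
      exact CharTwo.add_self_eq_zero _
    · exact hG.nondeg
    · intro g x y
      show polar Q (g.1 x) (g.1 y) = polar Q x y
      rw [polar, polar, ← map_add, g.2, g.2, g.2]

end Cfsg.Agent.H351.CovF4
end

-- part: H351/CovF4/Eight
section
/-!
# Overgroups of the torus of order `q⁴ + 1` in `F₄(q)`, `q` even (helper351, for S2499)

`eight` : a proper subgroup of `F₄(q)`, `q` even, containing an element of order `q⁴ + 1`, has no elements of order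
divisible by 16 or by `4 r`, `r` primitive of order 3.
-/

set_option autoImplicit false
set_option exponentiation.threshold 700

namespace Cfsg.Agent.H351.CovF4

open Cfsg Cfsg.Agent.OrdDiv Cfsg.Agent.H436 Cfsg.Agent.H902 Cfsg.Agent.H902.Names Cfsg.Agent.H915.GN
  Cfsg.Agent.H290.ElReg Cfsg.Agent.H290.ElTab Cfsg.Agent.H290.ElCross Cfsg.Agent.H264.FKS Cfsg.Agent.H56.Exc
  Cfsg.Agent.H325.Loc Cfsg.Agent.H563.KG Cfsg.Agent.H264.GN Cfsg.Agent.H325.IsoExc

section Gen

variable {G : Type*} [Group G]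

theorem pow_mem_of_index (S : Subgroup G) [S.Normal] {m : ℕ} (h : S.index ∣ m) (a : G) : a ^ m ∈ S := by
  obtain ⟨k, rfl⟩ := h
  rw [pow_mul]
  exact pow_mem (S.pow_index_mem a) k

theorem dvd_card_of_order [Finite G] (S : Subgroup G) {a : G} {m r : ℕ} (hr : r.Prime) (hm : ¬ r ∣ m)
    (hi : S.index ∣ m) (hd : r ∣ orderOf a) : r ∣ Nat.card S := by
  have h1 := hd.trans (orderOf_dvd_natCard a)
  rw [← S.card_mul_index] at h1
  exact (hr.dvd_mul.1 h1).resolve_right fun h => hm (h.trans hi)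

theorem order_pow [Finite G] {a : G} {n m k : ℕ} (h : n ∣ orderOf a) (hn : n = m * k) (hk : k ≠ 0) :
    ∃ b : G, orderOf b = n ∧ orderOf (b ^ k) = m := by
  obtain ⟨i, hi⟩ := exists_pow_order h (orderOf_pos a).ne'
  refine ⟨a ^ i, hi, ?_⟩
  rw [orderOf_pow_of_dvd hk (by rw [hi, hn]; exact Dvd.intro_left _ rfl), hi, hn, Nat.mul_div_cancel _ (Nat.pos_of_ne_zero hk)]

/-- an element centralising the simple normal subgroup is trivial -/
theorem cent_trivial [Finite G] {M E : ℕ} (hM : 1 < M) (hbig : ∀ r, r.Prime → r ∣ M → Big G r M E) {x : G}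
    (hx : orderOf x = M) (S : Subgroup G) (hxS : x ∈ S) (hs : IsSimpleGroup S) (hna : ¬ IsMulCommutative S) {h : G}
    (hc : ∀ s ∈ S, h * s = s * h) : h = 1 := by
  obtain ⟨r, hr, hrM⟩ := Nat.exists_prime_and_dvd (n := M) (by omega)
  have hM0 : 0 < M := by omega
  have h1 : orderOf (x ^ (M / r)) = r := by
    rw [orderOf_pow_of_dvd (by
      have := Nat.div_pos (Nat.le_of_dvd hM0 hrM) hr.pos
      omega) (by rw [hx]; exact Nat.div_dvd_of_dvd hrM), hx, Nat.div_div_self hrM hM0.ne']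
  have h2 := cent_eq hbig hx (pow_mem (Subgroup.mem_zpowers x) (M / r)) hr hrM h1
  have h3 : h ∈ Subgroup.centralizer {x ^ (M / r)} :=
    Subgroup.mem_centralizer_singleton_iff.2 (hc _ (pow_mem hxS _))
  rw [h2] at h3
  have h4 : h ∈ S := (Subgroup.zpowers_le.2 hxS) h3
  have h5 : (⟨h, h4⟩ : S) ∈ Subgroup.center S :=
    Subgroup.mem_center_iff.2 fun s => Subtype.ext (hc s s.2).symm
  rcases hs.eq_bot_or_eq_top_of_normal (Subgroup.center S) inferInstance with h6 | h6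
  · rw [h6, Subgroup.mem_bot] at h5
    exact congrArg Subtype.val h5
  · exfalso
    apply hna
    refine ⟨⟨fun a b => ?_⟩⟩
    have h7 : b ∈ Subgroup.center S := by rw [h6]; trivial
    exact Subgroup.mem_center_iff.1 h7 a

end Gen

theorem c8' : Cls 8 := by unfold Cls; omega
theorem c12' : Cls 12 := by unfold Cls; omega

theorem charP2 {F : Type} [Field F] [Fintype F] {k : ℕ} (h : Fintype.card F = 2 ^ k) : CharP F 2 :=
  have : Fact (Nat.Prime 2) := ⟨Nat.prime_two⟩
  Cfsg.Agent.H325.Same.charP_of_card Nat.prime_two h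

/-! ### the primes of class 3 -/

section Three

variable {q r : ℕ}

theorem prim3_gt (hq : 2 ≤ q) (hr : Prim q 3 r) : 3 < r := _root_.Cfsg.Agent.H563.KG.lt_of_prim hq (by norm_num) hr

theorem prim3_not (hq : 2 ≤ q) (hr : Prim q 3 r) {m : ℕ} (hm : ∀ s, s.Prime → s ∣ m → s ≤ 3) : ¬ r ∣ m := fun h => by
  have := hm r hr.prime h
  have := prim3_gt hq hr
  omega

theorem le3_of_dvd {m : ℕ} (hm : m ∣ 2 ^ 5 * 3 ^ 5) : ∀ s, s.Prime → s ∣ m → s ≤ 3 := by
  intro s hs h
  rcases hs.dvd_mul.1 (h.trans hm) with h1 | h1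
  · have := Nat.le_of_dvd (by norm_num) (hs.dvd_of_dvd_pow h1)
    omega
  · have := Nat.le_of_dvd (by norm_num) (hs.dvd_of_dvd_pow h1)
    omega

end Three

/-! ### the linear groups -/

section Cases

variable {G : Type} [Group G] [Finite G] (S : Subgroup G) [S.Normal] {q r : ℕ}

theorem eight_psl2 (hq : 2 ≤ q) (hi : S.index ∣ 4) {f : ℕ} (hf : q = 2 ^ f) (hg : IsNamed (.psl 2 (q ^ 4)) S) (h : G) :
    ¬ 16 ∣ orderOf h ∧ ∀ r, Prim q 3 r → ¬ 4 * r ∣ orderOf h := by
  constructor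
  · intro hd
    obtain ⟨F, _, _, hF, ⟨e⟩⟩ := hg.real
    have := charP2 (F := F) (k := f * 4) (by rw [hF, hf, pow_mul])
    obtain ⟨b, hb, hb4⟩ := order_pow (m := 4) (k := 4) hd (by norm_num) (by norm_num)
    refine psl2_four e ⟨b ^ 4, pow_mem_of_index S hi b⟩ ?_
    rw [Subgroup.orderOf_mk, hb4]
  · intro r hr hd
    have h1 := dvd_card_of_order S (m := 4) hr.prime (prim3_not hq hr (le3_of_dvd (by norm_num))) hi
      ((Dvd.intro_left _ rfl).trans hd)
    have h2 : r ∣ num (.psl 2 (q ^ 4)) := by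
      rw [← hg.eq]
      exact h1.mul_left _
    have h3 : num (.psl 2 (q ^ 4)) = ((q ^ 4) ^ 2 - (q ^ 4) ^ 0) * (((q ^ 4) ^ 2 - (q ^ 4) ^ 1) * 1) := rfl
    rw [h3, mul_one, pow_zero, pow_one, ← pow_mul] at h2
    have h4 : q ^ (4 * 2) - q ^ 4 = q ^ 4 * (q ^ 4 - 1) := by
      rw [Nat.mul_sub, mul_one, ← pow_add]
    rw [h4] at h2
    rcases hr.prime.dvd_mul.1 h2 with h5 | h5
    · exact hr.not_dvd_sub (by norm_num) h5
    · rcases hr.prime.dvd_mul.1 h5 with h6 | h6
      · exact hr.not_dvd_pow 4 h6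
      · exact hr.not_dvd_sub (by norm_num) h6

theorem eight_psp2 (hq : 2 ≤ q) (hi : S.index ∣ 2) {f : ℕ} (hf : q = 2 ^ f) (hg : IsNamed (.psp 2 (q ^ 2)) S) (h : G) :
    ¬ 16 ∣ orderOf h ∧ ∀ r, Prim q 3 r → ¬ 4 * r ∣ orderOf h := by
  constructor
  · intro hd
    obtain ⟨F, _, _, hF, ⟨e⟩⟩ := hg.real
    have := charP2 (F := F) (k := f * 2) (by rw [hF, hf, pow_mul])
    obtain ⟨b, hb, hb4⟩ := order_pow (m := 8) (k := 2) hd (by norm_num) (by norm_num)
    refine psp_pow (b := 2) (by norm_num) e ⟨b ^ 2, pow_mem_of_index S hi b⟩ ?_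
    rw [Subgroup.orderOf_mk, hb4]
    norm_num
  · intro r hr hd
    have h1 := dvd_card_of_order S (m := 2) hr.prime (prim3_not hq hr (le3_of_dvd (by norm_num))) hi
      ((Dvd.intro_left _ rfl).trans hd)
    have h2 : r ∣ num (.psp 2 (q ^ 2)) := by
      rw [← hg.eq]
      exact h1.mul_left _
    have h3 : num (.psp 2 (q ^ 2)) = (q ^ 2) ^ 4 * (((q ^ 2) ^ 2 - 1) * (((q ^ 2) ^ 4 - 1) * 1)) := rfl
    rw [h3, mul_one, ← pow_mul, ← pow_mul] at h2
    rcases hr.prime.dvd_mul.1 h2 with h5 | h5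
    · exact hr.not_dvd_pow _ h5
    · rcases hr.prime.dvd_mul.1 h5 with h6 | h6
      · exact hr.not_dvd_sub (by norm_num) h6
      · exact hr.not_dvd_sub (by norm_num) h6

omit [Finite G] in
theorem eight_psp4 (hi : S.index ∣ 1) {f : ℕ} (hf : q = 2 ^ f) (hg : IsNamed (.psp 4 q) S) (h : G) :
    ¬ 16 ∣ orderOf h ∧ ∀ r, Prim q 3 r → ¬ 4 * r ∣ orderOf h := by
  obtain ⟨F, _, _, hF, ⟨e⟩⟩ := hg.real
  have := charP2 (F := F) (k := f) (by rw [hF, hf])
  have hh : h ∈ S := by simpa using pow_mem_of_index S hi h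
  constructor
  · intro hd
    refine psp_pow (b := 3) (by norm_num) e ⟨h, hh⟩ ?_
    rw [Subgroup.orderOf_mk]
    exact hd
  · intro r hr hd
    refine psp4_four (r := r) (by rw [hF]; exact hr) e ⟨h, hh⟩ ?_
    rw [Subgroup.orderOf_mk]
    exact hd

omit [Finite G] in
theorem eight_om (hi : S.index ∣ 2) {f : ℕ} (hf1 : 1 ≤ f) (hf : q = 2 ^ f) (hC : ∀ h : G, (∀ s ∈ S, h * s = s * h) → h = 1)
    (hg : IsNamed (.ominus 4 q) S) (h : G) :
    ¬ 16 ∣ orderOf h ∧ ∀ r, Prim q 3 r → ¬ 4 * r ∣ orderOf h := by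
  obtain ⟨F, _, _, a, b, hF, hab, ⟨e⟩⟩ := hg.real
  have h1 := omega_kill (F := F) (f := f) hf1 (by rw [hF, hf]) hab S (fun h => by
    rw [← sq]
    exact pow_mem_of_index S hi h) hC e h
  rw [hF] at h1
  exact h1

end Cases

/-! ### the setup -/

section Setup

variable {F : Type} [Field F] [Fintype F] [CharP F 2] {f : ℕ}

omit [CharP F 2] in
theorem cardF4 (tb : OrderTable.{0}) (hF : Fintype.card F = 2 ^ f) (B : Subgroup ↥(Lie.chevF4.group F)) :
    Nat.card B ∣ num (.f4 (2 ^ f)) := by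
  have hT := named_f4 (F := F) tb
  rw [hF] at hT
  refine (Subgroup.card_subgroup_dvd_card B).trans ?_
  rw [← hT.eq]
  exact Dvd.intro_left _ rfl

omit [CharP F 2] in
theorem big8 (hF : Fintype.card F = 2 ^ f) (r : ℕ) (hr : r.Prime) (h : r ∣ (2 ^ f) ^ 4 + 1) (hf : 1 ≤ f) :
    Big ↥(Lie.chevF4.group F) r ((2 ^ f) ^ 4 + 1) 8 := by
  have hm8 : (((2 ^ f) ^ 4 + 1 : ℕ) : ℤ) = 1 + ((2 ^ f : ℕ) : ℤ) ^ 4 := by push_cast; ring
  have hP := prim_of_dvd c8' (q := 2 ^ f) Nat.one_le_two_pow hr (by rw [ncl8_eq2 hf]; exact h)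
  exact big_F4_8 hF hm8 hP

omit [CharP F 2] in
theorem big12 (hF : Fintype.card F = 2 ^ f) (r : ℕ) (hr : r.Prime) (h : r ∣ (2 ^ f) ^ 4 - (2 ^ f) ^ 2 + 1) :
    Big ↥(Lie.chevF4.group F) r ((2 ^ f) ^ 4 - (2 ^ f) ^ 2 + 1) 12 := by
  have hle : (2 ^ f) ^ 2 ≤ (2 ^ f) ^ 4 := Nat.pow_le_pow_right (by positivity) (by norm_num)
  have hm12 : (((2 ^ f) ^ 4 - (2 ^ f) ^ 2 + 1 : ℕ) : ℤ) = 1 - ((2 ^ f : ℕ) : ℤ) ^ 2 + ((2 ^ f : ℕ) : ℤ) ^ 4 := by
    push_cast [Nat.cast_sub hle]
    ring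
  have hP := prim_of_dvd c12' (q := 2 ^ f) Nat.one_le_two_pow hr (by
    rw [ncl12_eq, Ph12_eq Nat.one_le_two_pow]
    have h1 : (2 ^ f) ^ 4 - (2 ^ f) ^ 2 = (2 ^ f) ^ 2 * ((2 ^ f) ^ 2 - 1) := by
      rw [Nat.mul_sub, mul_one, ← pow_add]
    rw [← h1]
    exact h)
  exact big_F4_12 hF hm12 hP

theorem f4_two : num (.f4 (2 ^ 1)) = 2 ^ 24 * 3 ^ 6 * 5 ^ 2 * 7 ^ 2 * 13 * 17 := by decide +kernel

theorem prime_f4 {t : ℕ} (ht : t.Prime) (h : t ∣ num (.f4 (2 ^ 1))) : t = 2 ∨ t = 3 ∨ t = 5 ∨ t = 7 ∨ t = 13 ∨ t = 17 := by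
  rw [f4_two] at h
  rcases ht.dvd_mul.1 h with h | h
  · rcases ht.dvd_mul.1 h with h | h
    · rcases ht.dvd_mul.1 h with h | h
      · rcases ht.dvd_mul.1 h with h | h
        · rcases ht.dvd_mul.1 h with h | h
          · exact Or.inl ((Nat.prime_dvd_prime_iff_eq ht (by norm_num)).1 (ht.dvd_of_dvd_pow h))
          · exact Or.inr (Or.inl ((Nat.prime_dvd_prime_iff_eq ht (by norm_num)).1 (ht.dvd_of_dvd_pow h)))
        · exact Or.inr (Or.inr (Or.inl ((Nat.prime_dvd_prime_iff_eq ht (by norm_num)).1 (ht.dvd_of_dvd_pow h))))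
      · exact Or.inr (Or.inr (Or.inr (Or.inl ((Nat.prime_dvd_prime_iff_eq ht (by norm_num)).1 (ht.dvd_of_dvd_pow h)))))
    · exact Or.inr (Or.inr (Or.inr (Or.inr (Or.inl ((Nat.prime_dvd_prime_iff_eq ht (by norm_num)).1 h)))))
  · exact Or.inr (Or.inr (Or.inr (Or.inr (Or.inr ((Nat.prime_dvd_prime_iff_eq ht (by norm_num)).1 h)))))

/-- reducedness -/
theorem red8 (tb : OrderTable.{0}) (hcyc : CycFixSolv.{0}) (hf : 1 ≤ f) (hF : Fintype.card F = 2 ^ f)
    {B : Subgroup ↥(Lie.chevF4.group F)} (hMB : (2 ^ f) ^ 4 + 1 ∣ Nat.card B) : Red ↥B (Pr (Fm1 ((2 ^ f) ^ 4 + 1) 8)) := by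
  have h8 := ncl8_eq2 hf
  have hq1 : 1 ≤ 2 ^ f := Nat.one_le_two_pow
  have hq2 : 2 ≤ 2 ^ f := Nat.le_self_pow (by omega) 2
  obtain ⟨r₀, hr₀⟩ := exists_prim hq2 (show 3 ≤ 8 by norm_num) (by norm_num)
  have hpiso : PIso 2 r₀ ↥(Lie.chevF4.group F) := piso_F4 (F := F) (Or.inl rfl) (by rw [hF]; exact hr₀)
  have hr₀M : r₀ ∣ (2 ^ f) ^ 4 + 1 := by rw [← h8]; exact dvd_ncl c8' hq1 hr₀
  have hord : Ord ↥(Lie.chevF4.group F) (2 ^ f) 8 ((2 ^ f) ^ 4 + 1) := fun r hr x hx =>
    (big8 hF r hr.prime (by rw [← h8]; exact dvd_ncl c8' hq1 hr) hf).card x hx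
  refine red_good hcyc Nat.prime_two (F := F) fth_F4 (fun r hr hrM => big8 hF r hr hrM hf) hr₀.prime hr₀M hpiso hMB ?_
  intro t ht ht2 htM htB
  have hMB' : ncl 8 (2 ^ f) ∣ Nat.card B := by rw [h8]; exact hMB
  by_cases hf2 : 2 ≤ f
  · refine good_one (hord.sub B) c8' hq1 ht htM ?_ hMB'
    have := (ncl8_ge hf).2 hf2
    omega
  · obtain rfl : f = 1 := by omega
    have h17 : ncl 8 (2 ^ 1) = 17 := by rw [h8]; norm_num
    refine good_pr (hord.sub B) c8' hq1 ht htM (by rw [h17]; norm_num) hMB' ?_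
    intro k hk hkB
    have h1 := hkB.trans (cardF4 tb hF B)
    have h2 : t ∣ num (.f4 (2 ^ 1)) := (dvd_pow_self t (by omega)).trans h1
    have h3 := h1
    rw [f4_two] at h3
    rw [h17]
    rcases prime_f4 ht h2 with rfl | rfl | rfl | rfl | rfl | rfl
    · exact absurd rfl ht2
    · have h4 : k ≤ 6 := pow_bound (by decide +kernel) h3
      interval_cases k <;> norm_num
    · have h4 : k ≤ 2 := pow_bound (by decide +kernel) h3
      interval_cases k <;> norm_num
    · have h4 : k ≤ 2 := pow_bound (by decide +kernel) h3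
      interval_cases k <;> norm_num
    · have h4 : k ≤ 1 := pow_bound (by decide +kernel) h3
      interval_cases k <;> norm_num
    · exact absurd (by norm_num) htM

omit [CharP F 2] [Field F] [Fintype F] in
theorem small8 {G : Type*} [Group G] [Finite G] (hf : 1 ≤ f) (hG : Nat.card G ∣ 8 * ((2 ^ f) ^ 4 + 1)) (h : G) :
    ¬ 16 ∣ orderOf h ∧ ∀ r, Prim (2 ^ f) 3 r → ¬ 4 * r ∣ orderOf h := by
  have h1 := (orderOf_dvd_natCard h).trans hG
  have hq2 : 2 ≤ 2 ^ f := Nat.le_self_pow (by omega) 2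
  constructor
  · intro hd
    have h2 := hd.trans h1
    have h3 : 8 * 2 ∣ 8 * ((2 ^ f) ^ 4 + 1) := h2
    have h4 := Nat.dvd_of_mul_dvd_mul_left (by norm_num) h3
    have h5 : 2 ∣ (2 ^ f) ^ 4 := (dvd_pow_self 2 (by omega)).trans (dvd_pow_self _ (by norm_num))
    omega
  · intro r hr hd
    rcases hr.prime.dvd_mul.1 (((Dvd.intro_left _ rfl).trans hd).trans h1) with h2 | h2
    · exact prim3_not hq2 hr (le3_of_dvd (by norm_num)) h2
    · exact hr.not_dvd_add (by norm_num) h2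

end Setup

/-! ### the exceptional `L₂(17)` -/

theorem card_of {X : Art.Sh} {l a N c m : ℕ} (h : Art.Real X l a N) (h1 : Art.dd X (l ^ a) = c)
    (h2 : (l ^ a) ^ Art.NN X * numL X (l ^ a) = c * m) (hc : 0 < c) : N = m := by
  have h3 := h.eq
  rw [← numL_eq, h1, h2] at h3
  exact Nat.eq_of_mul_eq_mul_left hc h3

theorem l17_card {N : ℕ} (h : Art.Real (.L 2) 17 1 N) : N = 2448 :=
  card_of h (c := 2) (by decide +kernel) (by decide +kernel) (by norm_num)

/-- `L₂(17)` has no elements of order 16 -/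
theorem no_order16 {S : Type} [Group S] [Finite S] (hna : ¬ IsMulCommutative S) (hs : IsSimpleGroup S)
    (hc : Nat.card S = 2448) (a : S) : ¬ 16 ∣ orderOf a := by
  intro hd
  obtain ⟨b, hb, -⟩ := order_pow (m := 16) (k := 1) hd (by norm_num) (by norm_num)
  have : Fact (Nat.Prime 2) := ⟨Nat.prime_two⟩
  obtain ⟨P, hP⟩ : ∃ P : Sylow 2 S, Subgroup.zpowers b ≤ P := by
    refine IsPGroup.exists_le_sylow ?_
    refine IsPGroup.of_card (n := 4) ?_
    rw [Nat.card_zpowers, hb]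
    norm_num
  have h1 : Nat.card P = 16 := by
    rw [P.card_eq_multiplicity, hc]
    have : (2448 : ℕ).factorization 2 = 4 := by
      rw [show 2448 = 2 ^ 4 * 153 by norm_num, Nat.factorization_mul (by norm_num) (by norm_num),
        Nat.factorization_pow]
      simp [Nat.factorization_eq_zero_of_not_dvd (show ¬ 2 ∣ 153 by norm_num), Nat.prime_two.factorization]
    rw [this]
    norm_num
  have h2 : Subgroup.zpowers b = (P : Subgroup S) := by
    apply Subgroup.eq_of_le_of_card_ge hP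
    rw [Nat.card_zpowers, hb]
    exact h1.le
  refine Cfsg.Agent.SmallSimple.EvenOrder.not_isCyclic_sylow_two hna (by rw [hc]; norm_num) P ?_
  rw [← h2]
  infer_instance

/-- **Overgroups of the torus of order `q⁴ + 1`.** -/
theorem eight (tb : OrderTable.{0}) (hcyc : CycFixSolv.{0}) (hcf : CF) {F : Type} [Field F] [Fintype F] [CharP F 2]
    {f : ℕ} (hf : 1 ≤ f) (hF : Fintype.card F = 2 ^ f) {B : Subgroup ↥(Lie.chevF4.group F)} (hB : B ≠ ⊤)
    {x : ↥(Lie.chevF4.group F)} (hx : orderOf x = (2 ^ f) ^ 4 + 1) (hxB : x ∈ B) (h : B) :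
    ¬ 16 ∣ orderOf h ∧ ∀ r, Prim (2 ^ f) 3 r → ¬ 4 * r ∣ orderOf h := by
  have hq2 : 2 ≤ 2 ^ f := Nat.le_self_pow (by omega) 2
  have hM1 : 1 < (2 ^ f) ^ 4 + 1 := by
    have : 0 < (2 ^ f) ^ 4 := by positivity
    omega
  have h8 := ncl8_eq2 hf
  have hMB : (2 ^ f) ^ 4 + 1 ∣ Nat.card B := by
    have h1 := orderOf_dvd_natCard (⟨x, hxB⟩ : B)
    rwa [Subgroup.orderOf_mk, hx] at h1
  by_cases hsep : Nat.card B ∣ 8 * ((2 ^ f) ^ 4 + 1)
  · exact small8 hf hsep h
  have hbig : ∀ r, r.Prime → r ∣ (2 ^ f) ^ 4 + 1 → Big ↥(Lie.chevF4.group F) r ((2 ^ f) ^ 4 + 1) 8 :=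
    fun r hr hd => big8 hF r hr hd hf
  obtain ⟨S, hSn, hSs, hSna, hxS, hbS, ⟨n, k, hnk, hcard⟩, hdS, hname⟩ := main1 tb hcyc hcf hf hF
    (L := L8) (L' := []) bndR_52_8 sv2_8 bndS_8 svS2_8 c8' (by norm_num) (fun q => le_seven8) h8
    (by have := (ncl8_ge hf).1; omega) (fun h2 => by
      have := (ncl8_ge hf).2 h2
      omega) hbig hx hxB hsep (red8 tb hcyc hf hF hMB)
  have hSs' : IsSimpleGroup S := hSs
  have hn8 : n ∣ 8 := (Dvd.intro_left _ rfl).trans hnk
  have hC : ∀ h : B, (∀ s ∈ S, h * s = s * h) → h = 1 := fun h hc =>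
    cent_trivial hM1 (fun r h1 h2 => (hbig r h1 h2).subgroup B) (x := ⟨x, hxB⟩) (by rw [Subgroup.orderOf_mk, hx]) S hxS
      hSs' hSna hc
  rcases hname with ⟨g, hg, hch⟩ | ⟨hf1, hname⟩
  · have hdv : ∀ s, Prim 2 (f * 8) s → s ∣ Nat.card S := by
      intro s hs
      have h1 : Prim (2 ^ f) 8 s := _root_.Cfsg.Agent.H264.GN.prim_pow hf hs
      have h2 : s ∣ (2 ^ f) ^ 4 + 1 := by rw [← h8]; exact dvd_ncl c8' (by omega) h1
      rw [hcard]
      exact (h2.mul_left _).mul_right _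
    rcases charp8 hf hn8 hg.cond hch hg.eq hdS hcard hdv with rfl | ⟨rfl, rfl⟩ | ⟨rfl, rfl⟩ | ⟨rfl, rfl⟩ | ⟨rfl, rfl⟩
    · have hT := named_f4 (F := F) tb
      rw [hF] at hT
      exact absurd (eq_top_of_name hT hg) hB
    · exact eight_psl2 S hq2 (Nat.dvd_of_mul_dvd_mul_right (by norm_num) hnk) rfl hg h
    · exact eight_psp2 S hq2 (Nat.dvd_of_mul_dvd_mul_right (k := 4) (by norm_num) hnk) rfl hg h
    · exact eight_psp4 S (Nat.dvd_of_mul_dvd_mul_right (k := 8) (by norm_num) hnk) rfl hg h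
    · exact eight_om S (Nat.dvd_of_mul_dvd_mul_right (k := 4) (by norm_num) hnk) hf rfl hC hg h
  · subst hf1
    rcases hname with ⟨g, X, l, a, hg, hl, hR, hmem⟩ | hmem
    · simp only [L8, List.mem_singleton, Prod.mk.injEq] at hmem
      obtain ⟨rfl, rfl, rfl⟩ := hmem
      have h1 := l17_card hR
      have hn : n = 8 := by
        rw [hcard] at h1
        norm_num at h1
        have h2 : n ≤ 8 := Nat.le_of_dvd (by norm_num) hn8
        interval_cases n <;> (clear * - hn8 h1; omega)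
      have hS1 : S.index ∣ 1 := by
        rw [hn] at hnk
        exact Nat.dvd_of_mul_dvd_mul_right (k := 8) (by norm_num) hnk
      have hh : h ∈ S := by simpa using pow_mem_of_index S hS1 h
      have ho : orderOf h = orderOf (⟨h, hh⟩ : S) := (Subgroup.orderOf_mk h hh).symm
      rw [ho]
      refine ⟨no_order16 hSna hSs' h1 _, fun r hr hd => ?_⟩
      have h2 := ((Dvd.intro_left _ rfl).trans hd).trans (orderOf_dvd_natCard (⟨h, hh⟩ : S))
      rw [h1] at h2
      have h3 := hr.dvd (dvd_refl 3)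
      have h4 : r ∣ 7 := h3
      have h5 := (Nat.prime_dvd_prime_iff_eq hr.prime (by norm_num)).1 h4
      rw [h5] at h2
      norm_num at h2
    · simp only [_root_.List.not_mem_nil] at hmem

end Cfsg.Agent.H351.CovF4
end

-- part: H351/CovF4/Red2
section
/-!
# Overgroups of the torus of order 13 in `F₄(2)`: reducedness (helper351, for S2499)

`red_two` : a subgroup of `F₄(2)` containing elements of orders 13 and 28 has no nontrivial normal subgroup of order
prime to 13.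
-/

set_option autoImplicit false

namespace Cfsg.Agent.H351.CovF4

open Subgroup Cfsg.Agent.H56.Exc Cfsg.Agent.H325.Loc Cfsg.Agent.H563.KG

section Fix

variable {G : Type*} [Group G]

/-- the conjugation action on an invariant subgroup -/
@[reducible] def cAct {A K : Subgroup G} (h : ∀ b ∈ K, ∀ a ∈ A, b * a * b⁻¹ ∈ A) : MulAction K A where
  smul b a := ⟨b * a * (b : G)⁻¹, h b b.2 a a.2⟩
  one_smul a := Subtype.ext (by show (1 : G) * a * (1 : G)⁻¹ = a; simp)
  mul_smul b c a := Subtype.ext (by show (b * c : G) * a * (b * c : G)⁻¹ = b * (c * a * (c : G)⁻¹) * (b : G)⁻¹; group)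

/-- the fixed points of an element of prime order on an invariant subgroup -/
theorem card_fix_mod [Finite G] {A : Subgroup G} {x : G} {r : ℕ} (hr : r.Prime) (hx : orderOf x = r)
    (hinv : ∀ a ∈ A, x * a * x⁻¹ ∈ A) : Nat.card A ≡ Nat.card ↥(A ⊓ centralizer {x}) [MOD r] := by
  have := Fact.mk hr
  have hpow : ∀ b ∈ zpowers x, ∀ a ∈ A, b * a * b⁻¹ ∈ A := by
    intro b hb a ha
    rw [← mem_powers_iff_mem_zpowers] at hb
    obtain ⟨n, rfl⟩ := hb
    show x ^ n * a * (x ^ n)⁻¹ ∈ A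
    clear hx
    induction n with
    | zero => simpa using ha
    | succ n ih =>
      have h1 := hinv _ ih
      have h2 : x ^ (n + 1) * a * (x ^ (n + 1))⁻¹ = x * (x ^ n * a * (x ^ n)⁻¹) * x⁻¹ := by
        rw [pow_succ']
        group
      rwa [h2]
  let _ : MulAction (zpowers x) A := cAct hpow
  have hP : IsPGroup r (zpowers x) := IsPGroup.of_card (n := 1) (by rw [Nat.card_zpowers, hx, pow_one])
  have h1 := hP.card_modEq_card_fixedPoints A
  have h2 : Nat.card (MulAction.fixedPoints (zpowers x) A) = Nat.card ↥(A ⊓ centralizer {x}) := by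
    refine Nat.card_congr
      { toFun := fun a => ⟨(a : A), (a : A).2, ?_⟩
        invFun := fun a => ⟨⟨(a : G), a.2.1⟩, ?_⟩
        left_inv := fun a => rfl
        right_inv := fun a => rfl }
    · show _ ∈ centralizer ({x} : Set G)
      rw [mem_centralizer_singleton_iff]
      have h3 := congrArg Subtype.val (a.2 ⟨x, mem_zpowers x⟩)
      have h4 : x * ((a : A) : G) * x⁻¹ = ((a : A) : G) := h3
      rw [mul_inv_eq_iff_eq_mul] at h4
      exact h4.symm
    · rintro ⟨b, hb⟩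
      apply Subtype.ext
      show b * (a : G) * b⁻¹ = a
      have h3 : Commute x (a : G) := (mem_centralizer_singleton_iff.1 a.2.2).symm
      obtain ⟨n, rfl⟩ := hb
      exact mul_inv_eq_iff_eq_mul.2 (h3.zpow_left n)
  rwa [h2] at h1

end Fix

section Inv

variable {G : Type*} [Group G]

/-- the elements centralising or inverting an abelian normal subgroup -/
def inv2 (A : Subgroup G) : Subgroup G where
  carrier := {h | (∀ a ∈ A, h * a * h⁻¹ = a) ∨ (∀ a ∈ A, h * a * h⁻¹ = a⁻¹)}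
  one_mem' := Or.inl fun a _ => by simp
  mul_mem' := by
    rintro g h (hg | hg) (hh | hh)
    · left
      intro a ha
      have : g * h * a * (g * h)⁻¹ = g * (h * a * h⁻¹) * g⁻¹ := by group
      rw [this, hh a ha, hg a ha]
    · right
      intro a ha
      have : g * h * a * (g * h)⁻¹ = g * (h * a * h⁻¹) * g⁻¹ := by group
      rw [this, hh a ha, hg _ (inv_mem ha)]
    · right
      intro a ha
      have : g * h * a * (g * h)⁻¹ = g * (h * a * h⁻¹) * g⁻¹ := by group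
      rw [this, hh a ha, hg a ha]
    · left
      intro a ha
      have : g * h * a * (g * h)⁻¹ = g * (h * a * h⁻¹) * g⁻¹ := by group
      rw [this, hh a ha, hg _ (inv_mem ha), inv_inv]
  inv_mem' := by
    rintro g (hg | hg)
    · left
      intro a ha
      have := hg a ha
      calc g⁻¹ * a * g⁻¹⁻¹ = g⁻¹ * (g * a * g⁻¹) * g := by rw [this, inv_inv]
        _ = a := by group
    · right
      intro a ha
      have := hg _ (inv_mem ha)
      rw [inv_inv] at this
      calc g⁻¹ * a * g⁻¹⁻¹ = g⁻¹ * (g * a⁻¹ * g⁻¹) * g := by rw [this, inv_inv]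
        _ = a⁻¹ := by group

theorem mem_inv2 {A : Subgroup G} {h : G} :
    h ∈ inv2 A ↔ (∀ a ∈ A, h * a * h⁻¹ = a) ∨ (∀ a ∈ A, h * a * h⁻¹ = a⁻¹) := Iff.rfl

instance inv2_normal (A : Subgroup G) [hA : A.Normal] : (inv2 A).Normal := by
  constructor
  intro h hh g
  have key : ∀ a, g * h * g⁻¹ * a * (g * h * g⁻¹)⁻¹ = g * (h * (g⁻¹ * a * g) * h⁻¹) * g⁻¹ := fun a => by group
  have hm : ∀ a ∈ A, g⁻¹ * a * g ∈ A := fun a ha => by
    have := hA.conj_mem a ha g⁻¹
    rwa [inv_inv] at this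
  rcases hh with hh | hh
  · left
    intro a ha
    rw [key, hh _ (hm a ha)]
    group
  · right
    intro a ha
    rw [key, hh _ (hm a ha)]
    group

end Inv

/-- **Reducedness.** -/
theorem red_two (hE : CycFixSolv.{0}) {G : Type} [Group G] [Finite G] (hbig : Big G 13 13 12) (hpiso : PIso 2 13 G)
    (hcard : Nat.card G ∣ 2 ^ 24 * 3 ^ 6 * 5 ^ 2 * 7 ^ 2 * 13 * 17) (h13 : 13 ∣ Nat.card G) {y : G}
    (hy : orderOf y = 28) {Pr : ℕ → Prop} (hPr : Pr 13) : Red G Pr := by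
  intro N hN hNr
  by_contra hne
  have f13 : Fact (Nat.Prime 13) := ⟨by norm_num⟩
  have f7 : Fact (Nat.Prime 7) := ⟨by norm_num⟩
  have f2 : Fact (Nat.Prime 2) := ⟨Nat.prime_two⟩
  have hN13 : ¬ 13 ∣ Nat.card N := hNr 13 hPr
  obtain ⟨x, hx⟩ := exists_prime_orderOf_dvd_card' 13 h13
  -- elements commuting with elements of order 13
  have hfree : ∀ x : G, orderOf x = 13 → ∀ H : Subgroup G, ¬ 13 ∣ Nat.card H → ∀ a ∈ H, x * a = a * x → a = 1 := by
    intro x hx H hH a ha hc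
    have h1 : a ∈ centralizer ({x} : Set G) := mem_centralizer_singleton_iff.2 hc.symm
    have h2 : orderOf a ∣ 13 := by
      have h4 : orderOf (⟨a, h1⟩ : ↥(centralizer ({x} : Set G))) = orderOf a := Subgroup.orderOf_mk a h1
      rw [← h4]
      exact (_root_.orderOf_dvd_natCard _).trans (hbig.card x hx)
    rcases (Nat.dvd_prime f13.out).1 h2 with h3 | h3
    · exact orderOf_eq_one_iff.1 h3
    · exfalso
      apply hH
      rw [← h3]
      have h4 : orderOf (⟨a, ha⟩ : H) = orderOf a := Subgroup.orderOf_mk a ha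
      rw [← h4]
      exact _root_.orderOf_dvd_natCard _
  -- `N` is solvable
  have hsolv : Group.IsSolvable N := by
    apply hE N (MulAut.conjNormal (H := N) x) 13 f13.out _ hN13
    · have := hbig.cyc x hx
      refine ⟨(centralizer {x}).comap N.subtype, ?_, fun a ha => ?_⟩
      · let g : ↥((centralizer {x}).comap N.subtype) →* ↥(centralizer {x}) :=
          (N.subtype.comp ((centralizer {x}).comap N.subtype).subtype).codRestrict _ fun y => y.2
        exact isCyclic_of_injective g fun a b hab => by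
          have h3 : ((a : N) : G) = ((b : N) : G) :=
            congrArg (fun z : ↥(centralizer {x}) => (z : G)) hab
          exact Subtype.ext (Subtype.ext h3)
      · rw [Subgroup.mem_comap, mem_centralizer_singleton_iff]
        have h2 := congrArg Subtype.val ha
        rw [MulAut.conjNormal_apply, mul_inv_eq_iff_eq_mul] at h2
        exact h2.symm
    · rw [← map_pow, ← hx, pow_orderOf_eq_one, map_one]
  obtain ⟨t, ht, A, hAn, hAN, hA0, hAc, hAt⟩ := exists_elem' hN hsolv hne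
  have hPt : IsPGroup t A := fun a => ⟨1, by rw [pow_one]; exact Subtype.ext (hAt a a.2)⟩
  have := Fact.mk ht
  obtain ⟨k, hk⟩ := IsPGroup.iff_card.1 hPt
  have hk0 : k ≠ 0 := by
    rintro rfl
    rw [pow_zero, Subgroup.card_eq_one] at hk
    exact hA0 hk
  have hkG : t ^ k ∣ 2 ^ 24 * 3 ^ 6 * 5 ^ 2 * 7 ^ 2 * 13 * 17 := by
    rw [← hk]
    exact (card_subgroup_dvd_card A).trans hcard
  have hA13 : ¬ 13 ∣ Nat.card A := fun h => hN13 (h.trans (card_dvd_of_le hAN))
  have hmod : ∀ S : Subgroup G, ¬ 13 ∣ Nat.card S → (∀ a ∈ S, x * a * x⁻¹ ∈ S) → Nat.card S ≡ 1 [MOD 13] := by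
    intro S hS hinv
    have h1 := card_fix_mod f13.out hx hinv
    have h2 : S ⊓ centralizer {x} = ⊥ := by
      rw [eq_bot_iff]
      rintro a ⟨ha, hc⟩
      exact Subgroup.mem_bot.2 (hfree x hx S hS a ha (mem_centralizer_singleton_iff.1 hc).symm)
    rwa [h2, Subgroup.card_bot] at h1
  have hAm := hmod A hA13 fun a ha => hAn.conj_mem a ha x
  rw [hk] at hAm
  have h3k : t = 3 ∧ (k = 3 ∨ k = 6) := by
    have h1 : t ∣ 2 ^ 24 * 3 ^ 6 * 5 ^ 2 * 7 ^ 2 * 13 * 17 := (dvd_pow_self t hk0).trans hkG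
    have h2 : t = 2 ∨ t = 3 ∨ t = 5 ∨ t = 7 ∨ t = 13 ∨ t = 17 := by
      rcases ht.dvd_mul.1 h1 with h | h
      · rcases ht.dvd_mul.1 h with h | h
        · rcases ht.dvd_mul.1 h with h | h
          · rcases ht.dvd_mul.1 h with h | h
            · rcases ht.dvd_mul.1 h with h | h
              · exact Or.inl ((Nat.prime_dvd_prime_iff_eq ht (by norm_num)).1 (ht.dvd_of_dvd_pow h))
              · exact Or.inr (Or.inl ((Nat.prime_dvd_prime_iff_eq ht (by norm_num)).1 (ht.dvd_of_dvd_pow h)))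
            · exact Or.inr (Or.inr (Or.inl ((Nat.prime_dvd_prime_iff_eq ht (by norm_num)).1 (ht.dvd_of_dvd_pow h))))
          · exact Or.inr (Or.inr (Or.inr (Or.inl ((Nat.prime_dvd_prime_iff_eq ht (by norm_num)).1 (ht.dvd_of_dvd_pow h)))))
        · exact Or.inr (Or.inr (Or.inr (Or.inr (Or.inl ((Nat.prime_dvd_prime_iff_eq ht (by norm_num)).1 h)))))
      · exact Or.inr (Or.inr (Or.inr (Or.inr (Or.inr ((Nat.prime_dvd_prime_iff_eq ht (by norm_num)).1 h)))))
    rcases h2 with rfl | rfl | rfl | rfl | rfl | rfl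
    · exact absurd (pcore_of_piso hpiso h13 A hAn hPt) hA0
    · have h4 : k ≤ 6 := pow_bound (by decide +kernel) hkG
      refine ⟨rfl, ?_⟩
      interval_cases k
      · exact absurd rfl hk0
      all_goals first | (left; rfl) | (right; rfl) | (exfalso; revert hAm; decide)
    · exfalso
      have h4 : k ≤ 2 := pow_bound (by decide +kernel) hkG
      interval_cases k
      · exact hk0 rfl
      all_goals (revert hAm; decide)
    · exfalso
      have h4 : k ≤ 2 := pow_bound (by decide +kernel) hkG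
      interval_cases k
      · exact hk0 rfl
      all_goals (revert hAm; decide)
    · exact absurd ((dvd_pow_self 13 hk0).trans hk.symm.dvd) hA13
    · exfalso
      have h4 : k ≤ 1 := pow_bound (by decide +kernel) hkG
      interval_cases k
      · exact hk0 rfl
      all_goals (revert hAm; decide)
  obtain ⟨rfl, hk36⟩ := h3k
  -- the centraliser
  set C := centralizer (A : Set G) with hC
  have hC13 : ¬ 13 ∣ Nat.card C := by
    intro h
    obtain ⟨x', hx'⟩ := exists_prime_orderOf_dvd_card' 13 h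
    apply hA0
    rw [eq_bot_iff]
    intro a ha
    refine Subgroup.mem_bot.2 (hfree x' (by rw [Subgroup.orderOf_coe]; exact hx') A hA13 a ha ?_)
    exact (mem_centralizer_iff.1 x'.2 a ha).symm
  have hC2 : ¬ 2 ∣ Nat.card C := fun h => hC13 (hpiso.dvd_normal f13.out h13 C h)
  have hC7 : ¬ 7 ∣ Nat.card C := by
    intro h
    obtain ⟨S, ⟨T, hT⟩, hS⟩ := Cfsg.Agent.Lib.PGroupCoprimeAction.exists_invariant_sylow (A := zpowers x) (p := 13)
      (H := C) (IsPGroup.of_card (n := 1) (by rw [Nat.card_zpowers, hx, pow_one])) hC13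
      (fun b _ u hu => Normal.conj_mem inferInstance u hu b) 7
    have hSC : S ≤ C := by
      rw [← hT]
      exact map_subtype_le _
    have hS1 : S ≠ ⊥ := by
      rw [← hT, Ne, map_eq_bot_iff_of_injective _ C.subtype_injective]
      exact T.ne_bot_of_dvd_card h
    have hSr : IsPGroup 7 S := by
      rw [← hT]
      exact T.2.map _
    obtain ⟨j, hj⟩ := IsPGroup.iff_card.1 hSr
    have hj0 : j ≠ 0 := by
      rintro rfl
      rw [pow_zero, Subgroup.card_eq_one] at hj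
      exact hS1 hj
    have h1 := hmod S (fun h => hC13 (h.trans (card_dvd_of_le hSC))) (hS x (mem_zpowers x))
    have h4 : j ≤ 2 := pow_bound (M := 2 ^ 24 * 3 ^ 6 * 5 ^ 2 * 7 ^ 2 * 13 * 17) (by decide +kernel)
      (hj ▸ (card_subgroup_dvd_card S).trans hcard)
    rw [hj] at h1
    interval_cases j
    · exact hj0 rfl
    all_goals (revert h1; decide)
  -- the elements of order 7 and 2
  have hg : orderOf (y ^ 4) = 7 := by
    rw [orderOf_pow_of_dvd (by norm_num) (by rw [hy]; norm_num), hy]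
  have hz : orderOf (y ^ 14) = 2 := by
    rw [orderOf_pow_of_dvd (by norm_num) (by rw [hy]; norm_num), hy]
  set g := y ^ 4 with hgd
  set z := y ^ 14 with hzd
  have hgz : Commute g z := (Commute.refl y).pow_pow 4 14
  have hgC : g ∉ C := by
    intro h
    apply hC7
    have h4 : orderOf (⟨g, h⟩ : C) = 7 := by rw [Subgroup.orderOf_mk, hg]
    rw [← h4]
    exact _root_.orderOf_dvd_natCard _
  have hzC : z ∉ C := by
    intro h
    apply hC2
    have h4 : orderOf (⟨z, h⟩ : C) = 2 := by rw [Subgroup.orderOf_mk, hz]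
    rw [← h4]
    exact _root_.orderOf_dvd_natCard _
  -- subgroups of `A`
  have hsub : ∀ S : Subgroup G, S ≤ A → ∃ j ≤ k, Nat.card S = 3 ^ j := by
    intro S hS
    have h1 := card_dvd_of_le hS
    rw [hk] at h1
    exact (Nat.dvd_prime_pow Nat.prime_three).1 h1
  have htop : ∀ u : G, u ∉ C → ∃ j, j < k ∧ Nat.card ↥(A ⊓ centralizer {u}) = 3 ^ j := by
    intro u hu
    obtain ⟨j, hjk, hj⟩ := hsub _ (inf_le_left : A ⊓ centralizer {u} ≤ A)
    refine ⟨j, lt_of_le_of_ne hjk ?_, hj⟩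
    rintro rfl
    have h1 : A ⊓ centralizer {u} = A := Subgroup.eq_of_le_of_card_ge inf_le_left (by rw [hj, hk])
    apply hu
    rw [hC, mem_centralizer_iff]
    intro a ha
    have h2 : a ∈ A ⊓ centralizer {u} := by rw [h1]; exact ha
    exact mem_centralizer_singleton_iff.1 h2.2
  obtain ⟨j, hjk, hj⟩ := htop g hgC
  obtain ⟨i, hik, hi⟩ := htop z hzC
  have hmg := card_fix_mod f7.out hg (A := A) fun a ha => hAn.conj_mem a ha g
  rw [hk, hj] at hmg
  have hj0 : k = 6 ∧ j = 0 := by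
    rcases hk36 with rfl | rfl
    · exfalso
      interval_cases j <;> (revert hmg; decide)
    · refine ⟨rfl, ?_⟩
      interval_cases j
      · rfl
      all_goals (exfalso; revert hmg; decide)
  obtain ⟨rfl, rfl⟩ := hj0
  rw [pow_zero, Subgroup.card_eq_one] at hj
  have hmz := card_fix_mod f7.out hg (A := A ⊓ centralizer {z}) (by
    rintro a ⟨ha, hc⟩
    refine ⟨hAn.conj_mem a ha g, ?_⟩
    show _ ∈ centralizer ({z} : Set G)
    rw [mem_centralizer_singleton_iff]
    have hc' : Commute a z := mem_centralizer_singleton_iff.1 hc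
    exact ((hgz.mul_left hc').mul_left (hgz.inv_left)).eq)
  have h1 : A ⊓ centralizer {z} ⊓ centralizer {g} = ⊥ := by
    rw [eq_bot_iff, ← hj]
    exact le_inf (inf_le_left.trans inf_le_left) inf_le_right
  rw [h1, Subgroup.card_bot, hi] at hmz
  have hi0 : i = 0 := by
    interval_cases i
    · rfl
    all_goals (exfalso; revert hmz; decide)
  subst hi0
  rw [pow_zero, Subgroup.card_eq_one] at hi
  -- `z` inverts `A`
  have hzz : z * z = 1 := by
    have := pow_orderOf_eq_one z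
    rwa [hz, sq] at this
  have hinv : ∀ a ∈ A, z * a * z⁻¹ = a⁻¹ := by
    intro a ha
    have ha' := hAn.conj_mem a ha z
    have h2 : a * (z * a * z⁻¹) ∈ A ⊓ centralizer {z} := by
      refine ⟨mul_mem ha ha', ?_⟩
      show _ ∈ centralizer ({z} : Set G)
      rw [mem_centralizer_singleton_iff]
      have h3 : z⁻¹ = z := inv_eq_of_mul_eq_one_right hzz
      have h4 := hAc a ha _ ha'
      calc a * (z * a * z⁻¹) * z = z * a * z⁻¹ * a * z := by rw [h4]
        _ = z * a * z * a * z⁻¹ := by rw [h3]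
        _ = z * (a * (z * a * z⁻¹)) := by group
    rw [hi, Subgroup.mem_bot] at h2
    exact (inv_eq_of_mul_eq_one_right h2).symm
  have hzK : z ∈ inv2 A := Or.inr hinv
  have hK2 : 2 ∣ Nat.card (inv2 A) := by
    have h4 : orderOf (⟨z, hzK⟩ : inv2 A) = 2 := by rw [Subgroup.orderOf_mk, hz]
    rw [← h4]
    exact _root_.orderOf_dvd_natCard _
  obtain ⟨x', hx'⟩ := exists_prime_orderOf_dvd_card' 13 (hpiso.dvd_normal f13.out h13 (inv2 A) hK2)
  have hcen : ∀ u : G, orderOf u = 13 → ¬ ∀ a ∈ A, u * a * u⁻¹ = a := by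
    intro u hu hc
    apply hC13
    have h2 : u ∈ C := by
      rw [hC, mem_centralizer_iff]
      intro a ha
      exact (mul_inv_eq_iff_eq_mul.1 (hc a ha)).symm
    have h4 : orderOf (⟨u, h2⟩ : C) = 13 := by rw [Subgroup.orderOf_mk, hu]
    rw [← h4]
    exact _root_.orderOf_dvd_natCard _
  have hx'' : orderOf (x' : G) = 13 := by rw [Subgroup.orderOf_coe]; exact hx'
  rcases mem_inv2.1 x'.2 with h | h
  · exact hcen _ hx'' h
  · refine hcen ((x' : G) ^ 2) ?_ ?_
    · rw [orderOf_pow, hx'']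
      norm_num
    · intro a ha
      have h5 : (x' : G) ^ 2 * a * ((x' : G) ^ 2)⁻¹ = x' * (x' * a * (x' : G)⁻¹) * (x' : G)⁻¹ := by
        rw [sq]
        group
      rw [h5, h a ha, h _ (inv_mem ha), inv_inv]

end Cfsg.Agent.H351.CovF4
end

-- part: H351/CovF4/RegW
section
/-!
# The regular unipotent element of `F₄(q)`, `q` even, and `³D₄(q)` (helper351, for S2499)

* `reg_reg` : `reg F` is regular; `reg_order_two` (F4Out/Elt) : its order is divisible by 16;
* `td4_kill` : no group containing a conjugate of `reg F` is isomorphic to `³D₄(q)`.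
-/

set_option autoImplicit false

namespace Cfsg.Agent.H351.CovF4

open Cfsg Cfsg.Lie Cfsg.Agent.ChevalleyStructure.Elts Cfsg.Agent.ChevalleyStructure.RootVec
  Cfsg.Agent.ChevalleyStructure.RootVecTab Cfsg.Agent.H610.ChevRegular Cfsg.Agent.H610.OddRegLie
  Cfsg.Agent.H351.F4Out.Elt Cfsg.Agent.H406.Cov

universe v

theorem inL : InList chevF4 := by unfold InList; simp

theorem s0 : chevF4.simple 0 = 33 := by decide +kernel
theorem s1 : chevF4.simple 1 = 27 := by decide +kernel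
theorem s2 : chevF4.simple 2 = 25 := by decide +kernel
theorem s3 : chevF4.simple 3 = 24 := by decide +kernel
theorem rk : chevF4.rank = 4 := by decide +kernel

theorem coe_reg (F : Type v) [Field F] : ((reg F : ↥(chevF4.group F)) : GL chevF4.Idx F) =
    xG inL (chevF4.simple 0) 1 * (xG inL (chevF4.simple 1) 1 * (xG inL (chevF4.simple 2) 1 *
      xG inL (chevF4.simple 3) 1)) := by
  apply Units.ext
  rw [reg, coe_uw, s0, s1, s2, s3]
  simp only [List.map_cons, List.map_nil, List.prod_cons, List.prod_nil, mul_one, Units.val_mul, coe_xG]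

/-- the element `reg F` is regular -/
theorem reg_reg (F : Type v) [Field F] : Reg inL ((reg F : ↥(chevF4.group F)) : GL chevF4.Idx F) := by
  have hr : ∀ i, i < 4 → i < chevF4.rank := fun i hi => by rw [rk]; exact hi
  rw [coe_reg]
  constructor
  · have h : ∀ i, i < 4 → xG inL (chevF4.simple i) (1 : F) ∈ chevF4.posUnipotent F := fun i hi =>
      xG_mem_posUnipotent inL (simple_pos (checked inL) (hr i hi)) _
    exact mul_mem (h 0 (by norm_num)) (mul_mem (h 1 (by norm_num)) (mul_mem (h 2 (by norm_num)) (h 3 (by norm_num))))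
  · intro i hi
    refine ⟨1, one_ne_zero, ?_⟩
    have hi4 : i < 4 := by rwa [rk] at hi
    have key : ∀ j, j < 4 → Comp inL i (xG inL (chevF4.simple j) (1 : F)) (if j = i then 1 else 0) := by
      intro j hj
      split_ifs with h
      · rw [h]; exact comp_simple inL i 1
      · exact comp_simple_ne inL hi (hr j hj) h 1
    have h := comp_mul inL hi (key 0 (by norm_num)) (comp_mul inL hi (key 1 (by norm_num))
      (comp_mul inL hi (key 2 (by norm_num)) (key 3 (by norm_num))))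
    have e : ((if 0 = i then 1 else 0) + ((if 1 = i then 1 else 0) + ((if 2 = i then 1 else 0) +
        (if 3 = i then 1 else 0))) : F) = 1 := by
      interval_cases i <;> simp
    rwa [e] at h

/-- **`³D₄(q)`.** -/
theorem td4_kill {F : Type v} [Field F] [Fintype F] [CharP F 2] {G : Type*} [Group G] [Finite G]
    {φ : G →* ↥(chevF4.group F)} (hφ : Function.Injective φ) {w : G} {g : ↥(chevF4.group F)}
    (hw : φ w = g * reg F * g⁻¹) {K : Type} [Field K] [Fintype K] (hK : Fintype.card K = Fintype.card F ^ 3)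
    (hs : IsSimpleGroup G) (e : G ≃* ↥(twistedD4 K (Fintype.card F))) : False := by
  have h2 : Fact (Nat.Prime 2) := ⟨Nat.prime_two⟩
  have hq : IsPrimePow (Fintype.card F) := Fintype.isPrimePow_card_of_field
  have hchar : CharP K 2 := by
    obtain ⟨p, hp⟩ := CharP.exists K
    have hpp : p.Prime := CharP.char_is_prime K p
    obtain ⟨n, -, hn⟩ := FiniteField.card K p
    obtain ⟨m, -, hm⟩ := FiniteField.card F 2
    rw [hK, hm] at hn
    have h3 : 2 ∣ p ^ (n : ℕ) := by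
      rw [← hn, ← pow_mul]
      exact dvd_pow_self 2 (by have := m.pos; positivity)
    have h4 := (Nat.prime_dvd_prime_iff_eq Nat.prime_two hpp).1 (Nat.prime_two.dvd_of_dvd_pow h3)
    rw [h4]
    exact hp
  have hs' : IsSimpleGroup ↥(twistedD4 K (Fintype.card F)) := e.symm.isSimpleGroup
  have hfin : Finite ↥(twistedD4 K (Fintype.card F)) := Finite.of_injective e.symm e.symm.injective
  have hN : ND 2 ↥(twistedD4 K (Fintype.card F)) (Fintype.card F ^ 3) :=
    nd_of_ftyped (Cfsg.Agent.H185.TypedTw.ftyped_3D4 K (p := 2) hq (by rw [Nat.card_eq_fintype_card, hK])) 1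
  obtain ⟨P, t, c, ht, hc, hc3, hk⟩ := hN.of_equiv e.symm
  have hR := regD_of_reg (F := F) (p := 2) inL (reg_reg F)
  have h1 := hR.pow_mem hφ hw P ht
  have h5 := Nat.le_of_dvd (Nat.mul_pos hc (by have := Fintype.one_lt_card (α := F); omega)) (hk _ h1)
  have h6 : c * (Fintype.card F - 1) ≤ 3 * (Fintype.card F - 1) := Nat.mul_le_mul_right _ hc3
  have h7 := Fintype.one_lt_card (α := F)
  have h8 : Fintype.card F ^ 3 = Fintype.card F * (Fintype.card F * Fintype.card F) := by ring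
  rw [h8] at h5
  have h9 : 2 * 2 ≤ Fintype.card F * Fintype.card F := Nat.mul_le_mul (by omega) (by omega)
  have h10 : Fintype.card F * 4 ≤ Fintype.card F * (Fintype.card F * Fintype.card F) := Nat.mul_le_mul_left _ h9
  omega

end Cfsg.Agent.H351.CovF4
end

-- part: H351/CovF4/Twelve
section
/-!
# Overgroups of the torus of order `q⁴ - q² + 1` in `F₄(q)`, `q` even (helper351, for S2499)

`twelve` : no proper subgroup of `F₄(q)`, `q` even, contains an element of order `q⁴ - q² + 1`, a regular unipotent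
element and an element of order `4 r`, `r` primitive of order 3.
-/

set_option autoImplicit false
set_option exponentiation.threshold 700

namespace Cfsg.Agent.H351.CovF4

open Cfsg Cfsg.Agent.OrdDiv Cfsg.Agent.H436 Cfsg.Agent.H902 Cfsg.Agent.H902.Names Cfsg.Agent.H915.GN
  Cfsg.Agent.H290.ElReg Cfsg.Agent.H290.ElTab Cfsg.Agent.H290.ElCross Cfsg.Agent.H264.FKS Cfsg.Agent.H56.Exc
  Cfsg.Agent.H325.Loc Cfsg.Agent.H563.KG Cfsg.Agent.H264.GN Cfsg.Agent.H325.IsoExc Cfsg.Agent.H351.F4Out.Elt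

theorem ncl12_two (f : ℕ) : ncl 12 (2 ^ f) = (2 ^ f) ^ 4 - (2 ^ f) ^ 2 + 1 := by
  rw [ncl12_eq, Ph12_eq Nat.one_le_two_pow, Nat.mul_sub, mul_one, ← pow_add]

/-! ### the cases -/

section Cases

variable {q r : ℕ}

theorem not_dvd_six (hq : 2 ≤ q) (hr : Prim q 3 r) : ¬ r ∣ q ^ 6 + 1 := by
  intro h
  have h1 := hr.dvd (show 3 ∣ 6 by norm_num)
  have h2 : 1 ≤ q ^ 6 := Nat.one_le_pow _ _ (by omega)
  have h3 := Nat.dvd_sub h h1
  have h4 : q ^ 6 + 1 - (q ^ 6 - 1) = 2 := by omega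
  rw [h4] at h3
  have := Nat.le_of_dvd (by norm_num) h3
  have := prim3_gt hq hr
  omega

theorem prim_sq (hr : Prim q 3 r) : Prim (q ^ 2) 3 r := by
  refine ⟨hr.prime, fun m => ?_, fun h => hr.not_dvd (hr.prime.dvd_of_dvd_pow h)⟩
  rw [← pow_mul, hr.dvd_iff]
  exact ⟨fun h => (Nat.Coprime.dvd_mul_left (by norm_num)).1 h, fun h => h.mul_left _⟩

variable {G : Type} [Group G] [Finite G] (S : Subgroup G) [S.Normal]

omit [S.Normal] in
theorem twelve_psu (hq : 2 ≤ q) (hi : S.index ∣ 4) (hg : IsNamed (.psu 3 (q ^ 2)) S) (hr : Prim q 3 r) {y : G}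
    (hy : orderOf y = 4 * r) : False := by
  have h1 := dvd_card_of_order S (m := 4) hr.prime (prim3_not hq hr (le3_of_dvd (by norm_num))) hi
    (a := y) (by rw [hy]; exact Dvd.intro_left _ rfl)
  have h2 : r ∣ num (.psu 3 (q ^ 2)) := by
    rw [← hg.eq]
    exact h1.mul_left _
  have h3 : num (.psu 3 (q ^ 2)) = (q ^ 2) ^ 3 * (((q ^ 2) ^ 1 + 1) * (((q ^ 2) ^ 2 - 1) * (((q ^ 2) ^ 3 + 1) * 1))) := rfl
  rw [h3, mul_one, ← pow_mul, ← pow_mul, ← pow_mul] at h2
  rcases hr.prime.dvd_mul.1 h2 with h5 | h5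
  · exact hr.not_dvd_pow _ h5
  · rcases hr.prime.dvd_mul.1 h5 with h6 | h6
    · exact hr.not_dvd_add (by norm_num) h6
    · rcases hr.prime.dvd_mul.1 h6 with h7 | h7
      · exact hr.not_dvd_sub (by norm_num) h7
      · exact not_dvd_six hq hr h7

omit [Finite G] in
/-- an element of order `2 r` in a group where the centralisers of the elements of order `r` are odd -/
theorem kill_two_r {S : Subgroup G} {m e : ℕ} [Finite S] (hb : Big S r m e) (hm : ¬ 2 ∣ m) {y : G}
    (hy : orderOf y = 4 * r) (hyS : y ^ 2 ∈ S) : False := by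
  set z : S := ⟨y ^ 2, hyS⟩ with hz
  have hzo : orderOf z = 2 * r := by
    rw [hz, Subgroup.orderOf_mk, orderOf_pow_of_dvd (by norm_num) (by rw [hy]; exact ⟨2 * r, by ring⟩), hy]
    omega
  have h1 : orderOf (z ^ 2) = r := by
    rw [orderOf_pow_of_dvd (by norm_num) (by rw [hzo]; exact Dvd.intro _ rfl), hzo]
    omega
  have h2 := hb.card (z ^ 2) h1
  have h3 : z ∈ Subgroup.centralizer ({z ^ 2} : Set S) := by
    rw [Subgroup.mem_centralizer_singleton_iff]
    exact ((Commute.refl z).pow_right 2).eq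
  have h4 := orderOf_dvd_natCard (⟨z, h3⟩ : Subgroup.centralizer ({z ^ 2} : Set S))
  rw [Subgroup.orderOf_mk, hzo] at h4
  exact hm ((Dvd.intro _ rfl).trans (h4.trans h2))

omit [Finite G] in
theorem twelve_g2 (hi : S.index ∣ 2) {f : ℕ} (hf : q = 2 ^ f) (hf1 : 1 ≤ f) (hg : IsNamed (.g2 (q ^ 2)) S) (hr : Prim q 3 r) {y : G}
    (hy : orderOf y = 4 * r) : False := by
  obtain ⟨F, _, _, hF, ⟨e⟩⟩ := hg.real
  have hfin : Finite S := Finite.of_injective e e.injective
  have hb : Big ↥(Lie.chevG2.group F) r (1 + q ^ 2 + (q ^ 2) ^ 2) 6 :=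
    big_G2_3 (F := F) hF (by push_cast; ring) (prim_sq hr)
  have hq2 : 2 ≤ q := by rw [hf]; exact Nat.le_self_pow (by omega) 2
  refine kill_two_r (hb.congr e.symm) ?_ hy (pow_mem_of_index S hi y)
  have h1 : 2 ∣ q := by rw [hf]; exact dvd_pow_self 2 (by omega)
  have h2 : 2 ∣ q ^ 2 := h1.trans (dvd_pow_self q (by norm_num))
  have h3 : 2 ∣ (q ^ 2) ^ 2 := h2.trans (dvd_pow_self _ (by norm_num))
  omega

omit [Finite G] in
/-- the regular unipotent element lies in a normal subgroup of odd index -/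
theorem mem_of_index3 (hi : S.index ∣ 3) {w : G} {k : ℕ} (hw : orderOf w = 2 ^ k) : w ∈ S := by
  refine mem_of_coprime (pow_mem_of_index S hi w) (r := 2 ^ k) ?_ ?_
  · rw [← hw, pow_orderOf_eq_one]
    exact _root_.OneMemClass.one_mem _
  · exact Nat.Coprime.pow_right k (by norm_num)

omit [Finite G] in
theorem twelve_sz (hi : S.index ∣ 3) (hg : IsNamed (.sz 8) S) {w : G} {k : ℕ} (hw : orderOf w = 2 ^ k) (hk : 3 ≤ k) :
    False := by
  obtain ⟨F, _, _, m, hm, hF, hq, ⟨e⟩⟩ := hg.real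
  have := charP2 (F := F) (k := 3) (by rw [hF]; norm_num)
  refine sz_eight e ⟨w, mem_of_index3 S hi hw⟩ ?_
  rw [Subgroup.orderOf_mk, hw]
  exact pow_dvd_pow 2 hk

end Cases

/-! ### reducedness -/

section Red

variable {F : Type} [Field F] [Fintype F] [CharP F 2] {f : ℕ}

theorem red12 (tb : OrderTable.{0}) (hcyc : CycFixSolv.{0}) (hf : 1 ≤ f) (hF : Fintype.card F = 2 ^ f)
    {B : Subgroup ↥(Lie.chevF4.group F)} (hMB : (2 ^ f) ^ 4 - (2 ^ f) ^ 2 + 1 ∣ Nat.card B) {r : ℕ}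
    (hr : Prim (2 ^ f) 3 r) {y : B} (hy : orderOf y = 4 * r) : Red ↥B (Pr (Fm1 ((2 ^ f) ^ 4 - (2 ^ f) ^ 2 + 1) 12)) := by
  have h12 := ncl12_two f
  have hq1 : 1 ≤ 2 ^ f := Nat.one_le_two_pow
  have hq2 : 2 ≤ 2 ^ f := Nat.le_self_pow (by omega) 2
  obtain ⟨r₀, hr₀⟩ := exists_prim hq2 (show 3 ≤ 12 by norm_num) (by norm_num)
  have hpiso : ∀ r₀, Prim (2 ^ f) 12 r₀ → PIso 2 r₀ ↥(Lie.chevF4.group F) := fun r₀ hr₀ =>
    piso_F4 (F := F) (Or.inr rfl) (by rw [hF]; exact hr₀)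
  have hr₀M : r₀ ∣ (2 ^ f) ^ 4 - (2 ^ f) ^ 2 + 1 := by rw [← h12]; exact dvd_ncl c12' hq1 hr₀
  have hMB' : ncl 12 (2 ^ f) ∣ Nat.card B := by rw [h12]; exact hMB
  by_cases hf2 : 2 ≤ f
  · have hord : Ord ↥(Lie.chevF4.group F) (2 ^ f) 12 ((2 ^ f) ^ 4 - (2 ^ f) ^ 2 + 1) := fun r hr x hx =>
      (big12 hF r hr.prime (by rw [← h12]; exact dvd_ncl c12' hq1 hr)).card x hx
    refine red_good hcyc Nat.prime_two (F := F) fth_F4 (fun r hr hrM => big12 hF r hr hrM) hr₀.prime hr₀M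
      (hpiso _ hr₀) hMB fun t ht ht2 htM htB => ?_
    refine good_one (hord.sub B) c12' hq1 ht htM ?_ hMB'
    have := (ncl12_ge hf).2 hf2
    omega
  · obtain rfl : f = 1 := by omega
    have h13 : (2 ^ 1) ^ 4 - (2 ^ 1) ^ 2 + 1 = 13 := by norm_num
    have hP13 : Prim (2 ^ 1) 12 13 := prim_of_dvd c12' hq1 (by norm_num) (by rw [h12]; exact Dvd.intro_left 1 rfl)
    have hr7 : r = 7 := by
      have h4 : r ∣ 7 := hr.dvd (dvd_refl 3)
      exact (Nat.prime_dvd_prime_iff_eq hr.prime (by norm_num)).1 h4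
    have hb := big12 (F := F) (f := 1) hF 13 (by norm_num) (by norm_num)
    rw [h13] at hb
    refine red_two hcyc (hb.subgroup B) ((hpiso 13 hP13).sub B) ?_ (h13 ▸ hMB) (y := y) (by rw [hy, hr7])
      (pr_fm1.2 ⟨by norm_num, by norm_num⟩)
    have := cardF4 tb hF B
    rwa [f4_two] at this

end Red

/-! ### the exceptional groups for `q = 2` -/

section Two

variable {G : Type} [Group G] [Finite G] (S : Subgroup G) [S.Normal]

omit [Finite G] [S.Normal] in
theorem card_dvd {n : ℕ} (hn : S.index ∣ n) : Nat.card G ∣ n * Nat.card S := by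
  rw [← S.card_mul_index, mul_comm]
  exact Nat.mul_dvd_mul_right hn _

omit [Finite G] [S.Normal] in
theorem kill16 {n N : ℕ} (hn : S.index ∣ n) (hS : Nat.card S = N) (h : ¬ 16 ∣ n * N) {w : G} {k : ℕ}
    (hw : orderOf w = 2 ^ k) (hk : 4 ≤ k) : False := by
  have h1 : 16 ∣ orderOf w := by
    rw [hw]
    exact pow_dvd_pow 2 hk
  exact h (hS ▸ (h1.trans (orderOf_dvd_natCard w)).trans (card_dvd S hn))

omit [Finite G] [S.Normal] in
theorem kill7 {n N : ℕ} (hn : S.index ∣ n) (hS : Nat.card S = N) (h : ¬ 7 ∣ n * N) {y : G}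
    (hy : orderOf y = 4 * 7) : False := by
  have h1 : 7 ∣ orderOf y := by
    rw [hy]
    norm_num
  exact h (hS ▸ (h1.trans (orderOf_dvd_natCard y)).trans (card_dvd S hn))

theorem prim_367 : Prim 3 6 7 := by
  refine prim_mk (by norm_num) (by norm_num) (by norm_num) (by decide) fun s hs h6 => ?_
  have h1 : s = 2 ∨ s = 3 := by
    have h2 : s ∣ 2 * 3 := h6
    rcases hs.dvd_mul.1 h2 with h | h
    · exact Or.inl ((Nat.prime_dvd_prime_iff_eq hs Nat.prime_two).1 h)
    · exact Or.inr ((Nat.prime_dvd_prime_iff_eq hs Nat.prime_three).1 h)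
  rcases h1 with rfl | rfl <;> decide

theorem two_g2 (hi : S.index ∣ 2) {g : Grp} (hg : IsNamed g S) (hl : IsLie g .G2 3 1) {y : G}
    (hy : orderOf y = 4 * 7) : False := by
  cases hl
  obtain ⟨F, _, _, hF, ⟨e⟩⟩ := hg.real
  have hb : Big ↥(Lie.chevG2.group F) 7 7 6 := big_G2_6 (F := F) (q := 3) hF (by norm_num) prim_367
  exact kill_two_r (hb.congr e.symm) (by norm_num) hy (pow_mem_of_index S hi y)

theorem two_list {n k : ℕ} (hnk : S.index * n ∣ 12) (hcard : Nat.card S = n * 13 * (1 + k * 13))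
    {w : G} {j : ℕ} (hw : orderOf w = 2 ^ j) (hj : 4 ≤ j) {y : G} (hy : orderOf y = 4 * 7)
    (h : (∃ g X l a, IsNamed g S ∧ IsLie g X l a ∧ Art.Real X l a (Nat.card S) ∧ (X, l, a) ∈ L12) ∨
      Nat.card S ∈ [17971200]) : False := by
  have hi : S.index ∣ 12 := (Dvd.intro _ rfl).trans hnk
  have hn12 : n ∣ 12 := (Dvd.intro_left _ rfl).trans hnk
  have hn : n ≤ 12 := Nat.le_of_dvd (by norm_num) hn12
  rcases h with ⟨g, X, l, a, hg, hl, hR, hmem⟩ | hmem
  · simp only [L12, List.mem_cons, List.not_mem_nil, or_false, Prod.mk.injEq] at hmem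
    rcases hmem with ⟨rfl, rfl, rfl⟩ | ⟨rfl, rfl, rfl⟩ | ⟨rfl, rfl, rfl⟩ | ⟨rfl, rfl, rfl⟩ | ⟨rfl, rfl, rfl⟩ | ⟨rfl, rfl, rfl⟩
    · have h1 : Nat.card S = 9828 := card_of hR (c := 2) (by decide +kernel) (by decide +kernel) (by norm_num)
      have h2 : n = 2 := by
        rw [hcard] at h1
        interval_cases n <;> (clear * - hn12 h1; omega)
      subst h2
      exact kill16 S (n := 6) (Nat.dvd_of_mul_dvd_mul_right (k := 2) (by norm_num) hnk) h1 (by norm_num) hw hj
    · have h1 : Nat.card S = 7800 := card_of hR (c := 2) (by decide +kernel) (by decide +kernel) (by norm_num)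
      exact kill7 S hi h1 (by norm_num) hy
    · have h1 : Nat.card S = 1092 := card_of hR (c := 2) (by decide +kernel) (by decide +kernel) (by norm_num)
      have h2 : n = 6 := by
        rw [hcard] at h1
        interval_cases n <;> (clear * - hn12 h1; omega)
      subst h2
      exact kill16 S (n := 2) (Nat.dvd_of_mul_dvd_mul_right (k := 6) (by norm_num) hnk) h1 (by norm_num) hw hj
    · have h1 : Nat.card S = 5616 := card_of hR (c := 1) (by decide +kernel) (by decide +kernel) (by norm_num)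
      exact kill7 S hi h1 (by norm_num) hy
    · have h1 : Nat.card S = 6065280 := card_of hR (c := 2) (by decide +kernel) (by decide +kernel) (by norm_num)
      exact kill7 S hi h1 (by norm_num) hy
    · have h1 : Nat.card S = 4245696 := card_of hR (c := 1) (by decide +kernel) (by decide +kernel) (by norm_num)
      have h2 : n = 6 := by
        rw [hcard] at h1
        interval_cases n <;> (clear * - hn12 h1; omega)
      subst h2
      exact two_g2 S (Nat.dvd_of_mul_dvd_mul_right (k := 6) (by norm_num) hnk) hg hl hy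
  · simp only [List.mem_singleton] at hmem
    exact kill7 S hi hmem (by norm_num) hy

end Two

/-- **Overgroups of the torus of order `q⁴ - q² + 1`.** -/
theorem twelve (tb : OrderTable.{0}) (hcyc : CycFixSolv.{0}) (hcf : CF) {F : Type} [Field F] [Fintype F] [CharP F 2]
    {f : ℕ} (hf : 1 ≤ f) (hF : Fintype.card F = 2 ^ f) {B : Subgroup ↥(Lie.chevF4.group F)} (hB : B ≠ ⊤)
    {x : ↥(Lie.chevF4.group F)} (hx : orderOf x = (2 ^ f) ^ 4 - (2 ^ f) ^ 2 + 1) (hxB : x ∈ B)
    {g : ↥(Lie.chevF4.group F)} (hw : g * _root_.Cfsg.Agent.H351.F4Out.Elt.reg F * g⁻¹ ∈ B) {r : ℕ} (hr : Prim (2 ^ f) 3 r) {y : B}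
    (hy : orderOf y = 4 * r) : False := by
  have hq2 : 2 ≤ 2 ^ f := Nat.le_self_pow (by omega) 2
  have h12 := ncl12_two f
  have hM13 : 13 ≤ (2 ^ f) ^ 4 - (2 ^ f) ^ 2 + 1 := by rw [← h12]; exact (ncl12_ge hf).1
  have hMB : (2 ^ f) ^ 4 - (2 ^ f) ^ 2 + 1 ∣ Nat.card B := by
    have h1 := orderOf_dvd_natCard (⟨x, hxB⟩ : B)
    rwa [Subgroup.orderOf_mk, hx] at h1
  obtain ⟨j, hj, hwj⟩ := reg_order_two (F := F)
  set w : B := ⟨g * _root_.Cfsg.Agent.H351.F4Out.Elt.reg F * g⁻¹, hw⟩ with hwd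
  have hwo : orderOf w = 2 ^ j := by
    rw [hwd, Subgroup.orderOf_mk, ← hwj, ← MulAut.conj_apply]
    exact (MulAut.conj g).orderOf_eq _
  by_cases hsep : Nat.card B ∣ 12 * ((2 ^ f) ^ 4 - (2 ^ f) ^ 2 + 1)
  · have h1 : r ∣ 12 * ((2 ^ f) ^ 4 - (2 ^ f) ^ 2 + 1) :=
      ((Dvd.intro_left 4 hy.symm).trans (orderOf_dvd_natCard y)).trans hsep
    rcases hr.prime.dvd_mul.1 h1 with h2 | h2
    · exact prim3_not hq2 hr (le3_of_dvd (by norm_num)) h2
    · rw [← h12] at h2
      have h3 := (prim_of_dvd c12' (by omega) hr.prime h2).unique hr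
      omega
  have hbig : ∀ r, r.Prime → r ∣ (2 ^ f) ^ 4 - (2 ^ f) ^ 2 + 1 →
      Big ↥(Lie.chevF4.group F) r ((2 ^ f) ^ 4 - (2 ^ f) ^ 2 + 1) 12 := fun r hr hd => big12 hF r hr hd
  obtain ⟨S, hSn, hSs, hSna, hxS, hbS, ⟨n, k, hnk, hcard⟩, hdS, hname⟩ := main1 tb hcyc hcf hf hF
    (L := L12) (L' := [17971200]) bndR_52_12 sv2_12 bndS_12 svS2_12 c12' (by norm_num) (fun q _ => le_seven12) h12
    hM13 (fun h2 => by
      have := (ncl12_ge hf).2 h2
      omega) hbig hx hxB hsep (red12 tb hcyc hf hF hMB hr hy)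
  have hSs' : IsSimpleGroup S := hSs
  have hn12 : n ∣ 12 := (Dvd.intro_left _ rfl).trans hnk
  rcases hname with ⟨g', hg, hch⟩ | ⟨hf1, hname⟩
  · have hdv : ∀ s, Prim 2 (f * 12) s → s ∣ Nat.card S := by
      intro s hs
      have h1 : Prim (2 ^ f) 12 s := _root_.Cfsg.Agent.H264.GN.prim_pow hf hs
      have h2 : s ∣ (2 ^ f) ^ 4 - (2 ^ f) ^ 2 + 1 := by rw [← h12]; exact dvd_ncl c12' (by omega) h1
      rw [hcard]
      exact (h2.mul_left _).mul_right _
    rcases charp12 hf hn12 hg.cond hch hg.eq hdS hcard hdv with rfl | ⟨rfl, rfl⟩ | ⟨rfl, rfl⟩ | ⟨rfl, rfl⟩ | ⟨rfl, rfl, rfl⟩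
    · have hT := named_f4 (F := F) tb
      rw [hF] at hT
      exact absurd (eq_top_of_name hT hg) hB
    · exact twelve_psu S hq2 (Nat.dvd_of_mul_dvd_mul_right (k := 3) (by norm_num) hnk) hg hr hy
    · exact twelve_g2 S (Nat.dvd_of_mul_dvd_mul_right (k := 6) (by norm_num) hnk) rfl hf hg hr hy
    · have hi : S.index ∣ 3 := Nat.dvd_of_mul_dvd_mul_right (k := 4) (by norm_num) hnk
      obtain ⟨K, _, _, hK, ⟨e⟩⟩ := hg.real
      rw [← hF] at hK e
      exact td4_kill (G := S) (φ := B.subtype.comp S.subtype) (B.subtype_injective.comp S.subtype_injective)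
        (w := ⟨w, mem_of_index3 S hi hwo⟩) (g := g) rfl hK hSs' e
    · exact twelve_sz S (Nat.dvd_of_mul_dvd_mul_right (k := 4) (by norm_num) hnk) hg hwo (by omega)
  · subst hf1
    have hr7 : r = 7 := by
      have h4 : r ∣ 7 := hr.dvd (dvd_refl 3)
      exact (Nat.prime_dvd_prime_iff_eq hr.prime (by norm_num)).1 h4
    subst hr7
    have h13 : (2 ^ 1) ^ 4 - (2 ^ 1) ^ 2 + 1 = 13 := by norm_num
    rw [h13] at hcard
    exact two_list S hnk hcard hwo hj hy hname

end Cfsg.Agent.H351.CovF4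
end

-- part: H351/CovF4/EltY
section
/-!
# Elements of order `4 r` in `F₄(q)`, `q` even, `r` a prime divisor of `q² + q + 1` (helper351, for S2499)

`s` of order `r` in the subsystem subgroup `A₂` of the short roots, `v` of order 4 in the `A₂` of the long roots.
-/

set_option autoImplicit false
set_option linter.unusedSectionVars false

namespace Cfsg.Agent.H351.CovF4.EltY

open CoxeterSystem Cfsg Cfsg.Lie Cfsg.Lie.ChevalleyDatum
open Cfsg.Agent.ChevalleyStructure Cfsg.Agent.ChevalleyStructure.Elts Cfsg.Agent.ChevalleyStructure.CoxeterGeom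
  Cfsg.Agent.ChevalleyStructure.CoxeterGeomTypes Cfsg.Agent.ChevalleyStructure.NPerm
open Cfsg.Agent.Tits.Roots Cfsg.Agent.Tits.Core Cfsg.Agent.Nodes.Reps Cfsg.Agent.Nodes.BNOf
  Cfsg.Agent.Nodes.RGDChev Cfsg.Agent.Nodes.Bruhat
open Cfsg.Agent.KFacts.RgdField Cfsg.Agent.KFacts.RgdChevCoord Cfsg.Agent.BpExc.TorCent Cfsg.Agent.BpExc.TorChev
open Cfsg.Agent.BpExc.Tow Cfsg.Agent.BpExc.TowChev Cfsg.Agent.BpExc.FamExt Cfsg.Agent.BpExc.FamUntw
  Cfsg.Agent.BpExc.FamInst Cfsg.Agent.BpExc.LangFr Cfsg.Agent.BpExc.FamField Cfsg.Agent.BpExc.Fr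
open Cfsg.Agent.GpExc.Field (glMap emb coe_emb glMap_xG emb_injective coe_glMap)
open Cfsg.Agent.H129.TorusChar (cX cX_vec cX_one cX_inj IsMC exists_cX)
open Cfsg.Agent.H628.Exc.Func (SJ exists_fixed lin lin_apply lin_sr ev ev_apply EigOK)
open Cfsg.Agent.H628.Exc.Elem (exists_tor pow_val_ne_one CT ct_of_cX ct_of_mem_Sup)
open Cfsg.Agent.H129.CycT (typeF4)
open Cfsg.Agent.H92.ExcSL2 (Orth4)
open Cfsg.Agent.H666.SigFr (xs coe_xs)
open Cfsg.Agent.LangThm

universe u

/-! ### the tables -/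

/-- the Coxeter element of the short `A₂` -/
def L : List (Fin 4) := [0, 1]

/-- the eigenfunctional -/
def V : Fin 4 → Fin (1 + 1) → ℤ := ![![1, 2], ![-2, -1], ![2, 0], ![0, 0]]

/-- `x ^ 2 + x + 1` -/
def Phi : Fin (1 + 1) → ℤ := ![1, 1]

theorem eig : EigOK H129.DataF4.Am L id V Phi := by decide +kernel

/-- the nodes of the short `A₂` -/
def J : Set (Fin 4) := {i | i = 0 ∨ i = 1}

theorem L_mem : ∀ i ∈ L, i ∈ J := by
  intro i hi
  have : ∀ i ∈ L, i = 0 ∨ i = 1 := by decide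
  exact this i hi

theorem orth0 : ∀ j : Fin 4, (j = 0 ∨ j = 1) → Orth4 chevF4 0 (chevF4.simple j) = true := by decide +kernel
theorem orth24 : ∀ j : Fin 4, (j = 0 ∨ j = 1) → Orth4 chevF4 24 (chevF4.simple j) = true := by decide +kernel
theorem vec0 : ∑ j, vec chevF4 4 0 j • V j = 0 := by decide +kernel
theorem vec24 : ∑ j, vec chevF4 4 24 j • V j = 0 := by decide +kernel
theorem comm0 : chevF4.commTerms 24 0 = [(1, 1, 1, 1)] ∨ chevF4.commTerms 24 0 = [(1, -1, 1, 1)] := by decide +kernel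

/-! ### the closure -/

section Clo

variable {k : Type u} [Field k] [IsAlgClosed k] (hk : LocFin k) (p : ℕ) [Fact p.Prime] [CharP k p]

include hk in
theorem exists_k {m : ℕ} (hm : 0 < m) {r : ℕ} (hr : r.Prime) (hr2 : r ≠ 2) (hd : r ∣ (p ^ m) ^ 2 + p ^ m + 1) :
    ∃ y : ↥(chevF4.group k), y ^ r = 1 ∧ y ≠ 1 ∧ phi chevF4 k p m y = y ∧ CT typeF4.inList 0 y ∧ CT typeF4.inList 24 y := by
  have hfr : Fact r.Prime := ⟨hr⟩
  have hp := typeF4
  let cs := (CoxeterMatrix.F₄).toCoxeterSystem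
  have hpr : (r : k) ≠ 0 := by
    intro h0
    have h1 : p ∣ r := (CharP.cast_eq_zero_iff k p r).1 h0
    have h2 : p = r := (Nat.prime_dvd_prime_iff_eq Fact.out hr).1 h1
    have h3 : r ∣ (p ^ m) ^ 2 + p ^ m := by
      rw [← h2]
      exact dvd_add ((dvd_pow_self p hm.ne').trans (dvd_pow_self _ (by norm_num))) (dvd_pow_self p hm.ne')
    exact hr.one_lt.ne' (Nat.dvd_one.1 ((Nat.dvd_add_right h3).1 hd))
  -- a root of unity
  have : NeZero (r : k) := ⟨hpr⟩
  obtain ⟨ζ, hζ⟩ := HasEnoughRootsOfUnity.exists_primitiveRoot k r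
  have hζr : ζ ^ r = 1 := hζ.pow_eq_one
  have hζ1 : ζ ≠ 1 := hζ.ne_one hr.one_lt
  obtain ⟨z, hz, hzσ⟩ := _root_.Cfsg.Agent.H628.Exc.Func.exists_fixed hp cs hk hm (phi_isFrob p m) (phi_fr hp cs p hk m)
    (J := J) (π := id) (L := L) (fun _ => rfl) (fun _ h => h) L_mem
  have hx : ((p ^ m : ℕ) : ZMod r) ^ (1 + 1) + _root_.Cfsg.Agent.H628.Exc.Func.ev ((p ^ m : ℕ) : ZMod r) Phi = 0 := by
    have h1 := (ZMod.natCast_eq_zero_iff ((p ^ m) ^ 2 + p ^ m + 1) r).2 hd
    rw [ev_apply]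
    simp only [Phi, Fin.sum_univ_succ, Fin.sum_univ_zero]
    simp only [_root_.Nat.cast_pow, _root_.Nat.reduceAdd, _root_.Fin.isValue, _root_.Matrix.cons_val_zero, _root_.Int.cast_one, _root_.Fin.coe_ofNat_eq_mod, _root_.Nat.zero_mod, _root_.pow_zero, _root_.mul_one, _root_.Fin.succ_zero_eq_one, _root_.Matrix.cons_val_one, _root_.Matrix.cons_val_fin_one, _root_.Nat.mod_succ, _root_.pow_one, _root_.one_mul, _root_.add_zero]
    push_cast at h1
    linear_combination h1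
  obtain ⟨t, ht, htr, hχ, hθ⟩ := _root_.Cfsg.Agent.H628.Exc.Elem.exists_tor (r := p) (e := m) hp cs H129.TorusChar.invC_F4 one_ne_zero hζr
    (g := AddEquiv.refl _) H129.DataF4.hA (π := id) (fun _ => rfl) eig hx
  have ht1 : t ≠ 1 := by
    rintro rfl
    have h3 := hχ (sr 2)
    rw [cX_one, lin_sr] at h3
    refine pow_val_ne_one hζr hζ1 ?_ h3.symm
    rw [ev_apply]
    simp only [V, Fin.sum_univ_succ, Fin.sum_univ_zero]
    simp only [_root_.Nat.reduceAdd, _root_.Int.reduceNeg, _root_.Fin.isValue, _root_.Matrix.cons_val', _root_.Matrix.cons_val_zero, _root_.Matrix.cons_val_fin_one, _root_.Matrix.cons_val, _root_.Matrix.cons_val_one, _root_.Int.cast_ofNat, _root_.Nat.cast_pow, _root_.Fin.coe_ofNat_eq_mod, _root_.Nat.zero_mod, _root_.pow_zero, _root_.mul_one, _root_.Fin.succ_zero_eq_one, _root_.Int.cast_zero, _root_.Nat.mod_succ, _root_.pow_one, _root_.MulZeroClass.zero_mul, _root_.add_zero, _root_.ne_eq]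
    intro h2
    have h4 : ((2 : ℕ) : ZMod r) = 0 := by exact_mod_cast h2
    rw [ZMod.natCast_eq_zero_iff] at h4
    exact hr2 ((Nat.prime_dvd_prime_iff_eq hr Nat.prime_two).1 h4)
  have key : ∀ θ : ℕ, θ < chevF4.nroots → (∀ j : Fin 4, (j = 0 ∨ j = 1) → Orth4 chevF4 θ (chevF4.simple j) = true) →
      ∑ j, vec chevF4 4 θ j • V j = 0 → CT hp.inList θ (z * t * z⁻¹) := by
    intro θ hθ' hO hV
    refine CT.conj (ct_of_cX hp hθ' ht ?_) (ct_of_mem_Sup hp hθ' (J := J) (fun j hj => hO j hj) hz)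
    have h4 : lin (fun j => _root_.Cfsg.Agent.H628.Exc.Func.ev ((p ^ m : ℕ) : ZMod r) (V j)) (vec chevF4 4 θ) = 0 := by
      have h5 := congrArg (ev ((p ^ m : ℕ) : ZMod r)) hV
      rw [map_sum, map_zero] at h5
      rw [lin_apply, ← h5]
      exact Finset.sum_congr rfl fun j _ => (map_zsmul _ _ _).symm
    rw [hχ, h4, ZMod.val_zero, pow_zero]
  refine ⟨z * t * z⁻¹, ?_, ?_, hzσ t ht hθ, key 0 (by decide) orth0 vec0, key 24 (by decide) orth24 vec24⟩
  · rw [conj_pow, htr, mul_one, mul_inv_cancel]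
  · intro h1
    apply ht1
    have h2 := mul_inv_eq_one.1 h1
    exact mul_eq_left.1 h2

end Clo

/-! ### the finite group -/

section Fin

variable {F : Type u} [Field F]

/-- root elements -/
noncomputable def xe' (r : ℕ) (t : F) : ↥(chevF4.group F) := xs typeF4.inList r t

theorem v_order [CharP F 2] : ∃ v : ↥(chevF4.group F), orderOf v = 4 ∧ v = xe' 0 1 * xe' 24 1 := by
  have hD := typeF4.inList
  refine ⟨_, ?_, rfl⟩
  set v : ↥(chevF4.group F) := xe' 0 1 * xe' 24 1 with hv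
  have hv' : (v : GL chevF4.Idx F) = xG hD 0 1 * xG hD 24 1 := rfl
  have h2 : (2 : F) = 0 := by exact_mod_cast CharP.cast_eq_zero F 2
  have hneg : ∀ a : F, -a = a := fun a => by linear_combination (-a) * h2
  have hsq : ∀ (j : ℕ) (a : F), xG hD j a * xG hD j a = 1 := by
    intro j a
    rw [xG_add, ← two_mul, h2, zero_mul, xG_zero]
  -- the commutator
  obtain ⟨c, hc, e⟩ : ∃ c : F, c ≠ 0 ∧ xG hD 0 1 * xG hD 24 1 = xG hD 24 1 * xG hD 0 1 * xG hD 1 c := by
    have key : ∀ C : ℤ, chevF4.commTerms 24 0 = [(1, C, 1, 1)] →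
        xG hD 0 (1 : F) * xG hD 24 1 = xG hD 24 1 * xG hD 0 1 * xG hD 1 ((C : F) * (-1) ^ 1 * 1 ^ 1) := by
      intro C hC
      have e : xG hD 0 (1 : F) * xG hD 24 1 = xG hD 24 1 * xG hD 0 1 * wordG hD (chevF4.commWord F 24 0 1 1) := by
        apply Units.ext
        rw [Units.val_mul, Units.val_mul, Units.val_mul, coe_xG, coe_xG, coe_wordG]
        exact Cfsg.Agent.S1025.result chevF4 hD 24 0 (by decide) (by decide) (by decide) (by decide +kernel) 1 1
      rw [commWord, hC, List.map_cons, List.map_nil, wordG_cons, wordG_nil, mul_one] at e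
      exact e
    rcases comm0 with h | h
    · exact ⟨_, by simp, key 1 h⟩
    · exact ⟨_, by simp, key (-1) h⟩
  have hvv : v * v = ⟨xG hD 1 c, xG_mem_group hD _ _⟩ := by
    apply Subtype.ext
    rw [Subgroup.coe_mul, hv']
    calc xG hD 0 1 * xG hD 24 1 * (xG hD 0 1 * xG hD 24 1)
        = xG hD 0 1 * xG hD 24 1 * (xG hD 24 1 * xG hD 0 1 * xG hD 1 c) := by rw [← e]
      _ = xG hD 0 1 * (xG hD 24 1 * xG hD 24 1) * xG hD 0 1 * xG hD 1 c := by group
      _ = xG hD 1 c := by rw [hsq, mul_one, hsq, one_mul]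
  have h4 : v ^ 4 = 1 := by
    have h5 : v ^ 4 = (v * v) * (v * v) := by rw [← sq, ← sq, ← pow_mul]
    rw [h5, hvv]
    apply Subtype.ext
    rw [Subgroup.coe_mul]
    exact hsq 1 c
  have hv2 : v ^ 2 ≠ 1 := by
    rw [sq, hvv]
    intro h
    have h5 : xG hD 1 c = 1 := congrArg Subtype.val h
    rw [← xG_zero hD 1] at h5
    exact hc (xG_injective hD (by decide : 1 < chevF4.nroots) h5)
  have h6 : orderOf v ∣ 2 ^ 2 := orderOf_dvd_of_pow_eq_one h4
  obtain ⟨i, hi, hi2⟩ := (Nat.dvd_prime_pow Nat.prime_two).1 h6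
  interval_cases i
  · exfalso
    rw [pow_zero, orderOf_eq_one_iff] at hi2
    apply hv2
    rw [hi2, one_pow]
  · exfalso
    apply hv2
    rw [← orderOf_dvd_iff_pow_eq_one, hi2]
    norm_num
  · exact hi2

theorem exists_y [Finite F] [hc2 : CharP F 2] {r : ℕ} (hr : r.Prime) (hd : r ∣ Nat.card F ^ 2 + Nat.card F + 1) :
    ∃ y : ↥(chevF4.group F), orderOf y = 4 * r := by
  have hp := typeF4
  have : Fintype F := Fintype.ofFinite F
  obtain ⟨k, _, _, f, p, _, hcp, n, hk, -, hn0, hn⟩ := H378.TorFin.exists_closure F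
  have hpp : p.Prime := Fact.out
  have hcF : CharP F p := (f.charP_iff f.injective p).2 hcp
  obtain rfl : p = 2 := CharP.eq F hcF hc2
  have hr2 : r ≠ 2 := by
    rintro rfl
    rw [hn] at hd
    have h1 : 2 ∣ (2 ^ n) ^ 2 + 2 ^ n := dvd_add ((dvd_pow_self 2 hn0.ne').trans (dvd_pow_self _ (by norm_num)))
      (dvd_pow_self 2 hn0.ne')
    exact absurd ((Nat.dvd_add_right h1).1 hd) (by norm_num)
  obtain ⟨y, hy1, hy2, hy3, hy4, hy5⟩ := exists_k hk 2 hn0 hr hr2 (by rw [← hn]; exact hd)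
  obtain ⟨x, hx⟩ := H378.RootTor.mem_of_pow hp f 2 hn H129.TorusChar.invC_F4 one_ne_zero hy3 hy1
    (by simp only [_root_.Nat.card_eq_fintype_card, _root_.Nat.gcd_one_left, _root_.Nat.coprime_one_right_eq_true])
  have hinj := emb_injective hp.inList f
  obtain ⟨v, hv, hve⟩ := v_order (F := F)
  have hfr : Fact r.Prime := ⟨hr⟩
  have hxo : orderOf x = r := by
    refine orderOf_eq_prime (hinj ?_) fun h1 => ?_
    · rw [map_pow, hx, hy1, map_one]
    · rw [h1, map_one] at hx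
      exact hy2 hx.symm
  have hemb : ∀ (j : ℕ) (a : F), emb hp.inList f (xe' j a) = xs hp.inList j (f a) := by
    intro j a
    apply Subtype.ext
    rw [coe_emb]
    exact glMap_xG hp.inList f j a
  have hcomm : Commute x v := by
    rw [hve]
    have h1 : ∀ j, CT hp.inList j y → Commute x (xe' j (1 : F)) := by
      intro j hj
      apply hinj
      rw [map_mul, map_mul, hx, hemb]
      exact (hj _).1
    exact (h1 0 hy4).mul_right (h1 24 hy5)
  refine ⟨v * x, ?_⟩
  rw [hcomm.symm.orderOf_mul_eq_mul_orderOf_of_coprime, hv, hxo]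
  rw [hv, hxo]
  have : Nat.Coprime 2 r := (Nat.coprime_primes Nat.prime_two hr).2 (Ne.symm hr2)
  exact Nat.Coprime.pow_left 2 this

end Fin

end Cfsg.Agent.H351.CovF4.EltY
end

-- part: H351/CovF4/Final
section
/-!
# `F₄(q)`, `q` even, is not the union of the conjugates of two proper subgroups (helper351, for S2499)

* `noTwo_chevF4_even` : `NoTwo` for `chevF4.group F`, `F` finite of characteristic 2;
* `noTwo_f4_even` : for every group named `F₄(q)`, `q` even.
-/

set_option autoImplicit false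
set_option exponentiation.threshold 700

namespace Cfsg.Agent.H351.CovF4

open Cfsg Cfsg.Agent.OrdDiv Cfsg.Agent.H436 Cfsg.Agent.H56.Exc Cfsg.Agent.H563.KG Cfsg.Agent.H278.Cov
  Cfsg.Agent.H351.F4Out.Elt

/-- the index of a subgroup containing a full cyclic torus (copy of `H406.Cov.off_one`, helper406) -/
theorem off_one {G : Type*} [Group G] [Finite G] {r m e : ℕ} (hb : Big G r m e) {x : G} (hx : orderOf x = m)
    (hrm : r ∣ m) {B : Subgroup G} (hxB : x ∈ B) : ¬ r ∣ B.index := by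
  have hr := hb.prime
  have := Fact.mk hr
  have hm0 : 0 < m := hx ▸ orderOf_pos x
  have hy : orderOf (x ^ (m / r)) = r := by
    rw [orderOf_pow_of_dvd (Nat.div_pos (Nat.le_of_dvd hm0 hrm) hr.pos).ne' (by rw [hx]; exact Nat.div_dvd_of_dvd hrm),
      hx, Nat.div_div_self hrm hm0.ne']
  set y := x ^ (m / r) with hyd
  have hle : Subgroup.zpowers x ≤ Subgroup.centralizer {y} := by
    rw [Subgroup.zpowers_le, Subgroup.mem_centralizer_singleton_iff]
    exact (Commute.pow_right (Commute.refl x) _).eq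
  have hC : Subgroup.zpowers x = Subgroup.centralizer {y} := by
    apply Subgroup.eq_of_le_of_card_ge hle
    rw [Nat.card_zpowers, hx]
    exact Nat.le_of_dvd hm0 (hb.card y hy)
  have hyp : IsPGroup r (Subgroup.zpowers y) := IsPGroup.of_card (n := 1) (by rw [Nat.card_zpowers, hy, pow_one])
  obtain ⟨P, hP⟩ := hyp.exists_le_sylow
  have hPc := hb.isCyclic_sylow P
  have hPB : (P : Subgroup G) ≤ B := by
    intro a ha
    have h1 : a ∈ Subgroup.centralizer {y} := by
      rw [Subgroup.mem_centralizer_singleton_iff]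
      let _ := IsCyclic.commGroup (α := ↥(P : Subgroup G))
      have h1 : (⟨a, ha⟩ : ↥(P : Subgroup G)) * ⟨y, hP (Subgroup.mem_zpowers y)⟩ =
        ⟨y, hP (Subgroup.mem_zpowers y)⟩ * ⟨a, ha⟩ := mul_comm _ _
      exact congrArg Subtype.val h1
    rw [← hC] at h1
    exact (Subgroup.zpowers_le.2 hxB) h1
  intro h
  exact P.not_dvd_index (h.trans (Subgroup.index_dvd_of_le hPB))

theorem orderOf_cj {G : Type*} [Group G] (g x : G) : orderOf (g * x * g⁻¹) = orderOf x :=
  orderOf_injective (MulAut.conj g).toMonoidHom (MulAut.conj g).injective x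

section Four

variable {F : Type} [Field F] [Fintype F] {p f e : ℕ}

/-- the torus generators (copy of `H406.Cov.exists_torus`, helper406) -/
theorem exists_torus (he : e = 12 ∨ e = 8) (hp : p.Prime) (hf : 1 ≤ f) (hq : Fintype.card F = p ^ f) :
    ∃ x : ↥(Lie.chevF4.group F), orderOf x = Ph e (p ^ f) := by
  have hq1 : 1 ≤ p ^ f := Nat.one_le_pow _ _ hp.pos
  have hq2 : 2 ≤ p ^ f := hp.two_le.trans (Nat.le_self_pow (by omega) p)
  obtain ⟨r, hr⟩ := exists_prim hq2 (show 3 ≤ e by omega) (by omega)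
  have hlt := lt_of_prim hq2 (by omega) hr
  have key : ∀ {m : ℕ}, Cfsg.Agent.H129.CycCard.CycCard ↥(Lie.chevF4.group F) r m 1 →
      ∃ x : ↥(Lie.chevF4.group F), orderOf x = m := by
    rintro m ⟨C, hC, h1, h2, -, -⟩
    obtain ⟨x, hx⟩ := hC.exists_generator
    refine ⟨(x : ↥(Lie.chevF4.group F)), ?_⟩
    rw [Subgroup.orderOf_coe, orderOf_eq_card_of_forall_mem_zpowers hx]
    rw [one_mul] at h2
    exact Nat.dvd_antisymm h1 h2
  rcases he with rfl | rfl
  · exact key (Cfsg.Agent.H129.CycCard.card_F4_12 hq (m := Ph 12 (p ^ f)) (by rw [cast_Ph12 _ hq1]; ring) hr.prime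
      (prim_dvd_12 hr))
  · exact key (Cfsg.Agent.H129.CycCard.card_F4_8 hq (m := Ph 8 (p ^ f)) (by rw [cast_Ph8]; ring) hr.prime
      (prim_dvd_8 hr) (by omega))

/-- the element of order `4 r` -/
theorem exists_four_r [CharP F 2] {r : ℕ} (hr : Prim (Fintype.card F) 3 r) :
    ∃ y : ↥(Lie.chevF4.group F), orderOf y = 4 * r := by
  refine EltY.exists_y hr.prime ?_
  rw [Nat.card_eq_fintype_card]
  have h1 := hr.dvd (dvd_refl 3)
  have h2 := hr.not_dvd_sub (m := 1) (by norm_num)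
  rw [pow_one] at h2
  have h3 : Fintype.card F ^ 3 - 1 = (Fintype.card F - 1) * (Fintype.card F ^ 2 + Fintype.card F + 1) := by
    obtain ⟨c, hc⟩ : ∃ c, Fintype.card F = c + 1 := ⟨Fintype.card F - 1, by
      have := Fintype.card_pos (α := F)
      omega⟩
    rw [hc, Nat.add_sub_cancel]
    have h4 : (c + 1) ^ 3 = c * ((c + 1) ^ 2 + (c + 1) + 1) + 1 := by ring
    omega
  rw [h3] at h1
  exact (hr.prime.dvd_mul.1 h1).resolve_left h2

/-- the combinatorics of the four classes -/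
theorem pick {ax az aw ay bx bz bw by' : Prop} (h2 : az ∨ (aw ∧ ay)) (h1 : bx ∨ bz) (h3 : bz ∨ (bw ∧ by'))
    (h4 : ax ∨ aw ∨ ay) (h5 : bx ∨ bw ∨ by') (h6 : ax ∨ az) (cx : ax → ¬ bx) (cz : az → ¬ bz) (cw : aw → ¬ bw)
    (cy : ay → ¬ by') : False := by
  (solve | grind only | itauto)

/-- **`F₄(q)`, `q` even.** -/
theorem noTwo_chevF4_even (tb : OrderTable.{0}) (hcyc : CycFixSolv.{0}) (hcf : CF) [CharP F 2] :
    NoTwo ↥(Lie.chevF4.group F) := by
  obtain ⟨⟨f, hf⟩, -, hF⟩ := FiniteField.card F 2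
  simp only [PNat.mk_coe] at hF
  have hf1 : 1 ≤ f := hf
  have hfin : Finite ↥(Lie.chevF4.group F) := inferInstance
  have hq2 : 2 ≤ 2 ^ f := Nat.le_self_pow (by omega) 2
  have hP12 : Ph 12 (2 ^ f) = (2 ^ f) ^ 4 - (2 ^ f) ^ 2 + 1 := rfl
  have hP8 : Ph 8 (2 ^ f) = (2 ^ f) ^ 4 + 1 := rfl
  obtain ⟨x, hx⟩ := exists_torus (F := F) (e := 12) (Or.inl rfl) Nat.prime_two hf1 hF
  obtain ⟨z, hz⟩ := exists_torus (F := F) (e := 8) (Or.inr rfl) Nat.prime_two hf1 hF
  obtain ⟨r, hr⟩ := exists_prim hq2 (show 3 ≤ 3 by norm_num) (by norm_num)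
  obtain ⟨y, hy⟩ := exists_four_r (F := F) (r := r) (by rw [hF]; exact hr)
  obtain ⟨j, hj, hw⟩ := reg_order_two (F := F)
  rw [hP12] at hx
  rw [hP8] at hz
  -- the two tori
  have hA : ∀ B : Subgroup ↥(Lie.chevF4.group F), B ≠ ⊤ → Av x B ∨ Av z B := by
    intro B hB
    by_contra hcon
    push Not at hcon
    obtain ⟨g, hg⟩ := not_av hcon.1
    obtain ⟨g', hg'⟩ := not_av hcon.2
    refine hB (K_F4 tb hcyc hcf B fun e he r hr => ?_)
    rw [hF] at hr
    simp only [List.mem_cons, List.not_mem_nil, or_false] at he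
    rcases he with rfl | rfl
    · have h1 : r ∣ (2 ^ f) ^ 4 - (2 ^ f) ^ 2 + 1 := by
        rw [← ncl12_two]
        exact dvd_ncl c12' (by omega) hr
      exact off_one (big12 hF r hr.prime h1) (by rw [orderOf_cj, hx]) h1 hg
    · have h1 : r ∣ (2 ^ f) ^ 4 + 1 := by
        rw [← ncl8_eq2 hf1]
        exact dvd_ncl c8' (by omega) hr
      exact off_one (big8 hF r hr.prime h1 hf1) (by rw [orderOf_cj, hz]) h1 hg'
  -- the torus of order `q⁴ + 1`
  have hC : ∀ B : Subgroup ↥(Lie.chevF4.group F), B ≠ ⊤ → Av z B ∨ (Av (reg F) B ∧ Av y B) := by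
    intro B hB
    by_cases hzB : Av z B
    · exact Or.inl hzB
    · right
      obtain ⟨g, hg⟩ := not_av hzB
      constructor
      · intro k hk
        refine (eight tb hcyc hcf hf1 hF hB (x := g * z * g⁻¹) (by rw [orderOf_cj, hz]) hg ⟨_, hk⟩).1 ?_
        rw [Subgroup.orderOf_mk, orderOf_cj, hw]
        exact pow_dvd_pow 2 hj
      · intro k hk
        refine (eight tb hcyc hcf hf1 hF hB (x := g * z * g⁻¹) (by rw [orderOf_cj, hz]) hg ⟨_, hk⟩).2 r hr ?_
        rw [Subgroup.orderOf_mk, orderOf_cj, hy]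
  -- the torus of order `q⁴ - q² + 1`
  have hD : ∀ B : Subgroup ↥(Lie.chevF4.group F), B ≠ ⊤ → Av x B ∨ Av (reg F) B ∨ Av y B := by
    intro B hB
    by_contra hcon
    push Not at hcon
    obtain ⟨g, hg⟩ := not_av hcon.1
    obtain ⟨g', hg'⟩ := not_av hcon.2.1
    obtain ⟨g'', hg''⟩ := not_av hcon.2.2
    exact twelve tb hcyc hcf hf1 hF hB (x := g * x * g⁻¹) (by rw [orderOf_cj, hx]) hg hg' hr
      (y := ⟨_, hg''⟩) (by rw [Subgroup.orderOf_mk, orderOf_cj, hy])
  intro H K hH hK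
  by_contra hcon
  push Not at hcon
  have cx := hcon x
  have cz := hcon z
  have cw := hcon (reg F)
  have cy := hcon y
  exact pick (hC H hH) (hA K hK) (hC K hK) (hD H hH) (hD K hK) (hA H hH) cx cz cw cy

end Four

/-- **`F₄(q)`, `q` even.** -/
theorem noTwo_f4_even (tb : OrderTable.{0}) (hcyc : CycFixSolv.{0}) (hcf : CF) {q : ℕ} {T : Type*} [Group T]
    (h : IsNamed (.f4 q) T) {f : ℕ} (hq : q = 2 ^ f) : NoTwo T := by
  obtain ⟨F, _, _, hF, ⟨e⟩⟩ := h.real
  have := charP2 (F := F) (k := f) (hF.trans hq)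
  exact (noTwo_chevF4_even (F := F) tb hcyc hcf).congr e.symm

end Cfsg.Agent.H351.CovF4
end

-- part: H351/CovF4/FinalF
section
/-!
# `F₄(q)`, `q` even, is not the union of the conjugates of two proper subgroups, without hypotheses (helper351)
-/

set_option autoImplicit false

namespace Cfsg.Agent.H351.CovF4

open Cfsg.Agent.H436 Cfsg.Agent.H563.KG Cfsg.Agent.H278.Cov

/-- **`F₄(q)`, `q` even.** -/
theorem noTwo_f4_even' {q : ℕ} {T : Type*} [Group T] (h : IsNamed (.f4 q) T) {f : ℕ} (hq : q = 2 ^ f) : NoTwo T :=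
  noTwo_f4_even Cfsg.Agent.OrdDiv.table cycFixSolv (fun _ _ _ _ => Cfsg.Agent.S0000.result) h hq

end Cfsg.Agent.H351.CovF4
end

private theorem dce_eaa0b427ca29 : _root_.True := by
  try have : _root_.True := by simp only [_root_.Cfsg.Agent.H351.CovF4.EltY.Phi.eq_1]
  try have : _root_.True := by simp only [_root_.Cfsg.Agent.H351.CovF4.L8.eq_1]
  try have : _root_.True := by simp only [_root_.Cfsg.Agent.H351.CovF4.L12.eq_1]
  try have : _root_.True := by simp only [_root_.Cfsg.Agent.H351.CovF4.EltY.V.eq_1]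
  exact _root_.True.intro
end

-- part: H983/Cov/IncThree
section
prune_inst 0xe53020440800000000000586110020044c0005900020000088800c440000032200002140048010000208220000010020014400d00040000004000400000400000088000421400000000096000080000000000000000000000000000000000004000000000
set_option linter.all false
open scoped Cfsg.Agent.FastGrp

-- part: H983/Cov/Count
section
/-!
# Counting subgroups of big prime order (helper983)

* `index_mod` : the number of conjugates of a subgroup of big prime order `r` is 1 modulo `r`;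
* `index_mul` : `S ⊲ G`, `y ∈ S` of order `N`: `|S| = n e N`, `n ≡ 1`, `|G : S| e` divides `6`.
-/

set_option autoImplicit false

namespace Cfsg.Agent.H983.Cov

open Cfsg.Agent.H56.Exc Subgroup

variable {G : Type*} [Group G] [Finite G] {r m e : ℕ}

theorem mem_zpowers_of_normalizes (h : Big G r m e) {x z : G} (hx : orderOf x = r) (hz : orderOf z = r)
    (hn : z * x * z⁻¹ ∈ zpowers x) : z ∈ zpowers x := by
  have h1 := h.aut x z hx hn
  have h2 : Commute z x := by
    have hcop : Nat.Coprime (orderOf z) e := by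
      rw [hz]
      exact (Nat.Prime.coprime_iff_not_dvd h.prime).2 h.ndvd
    obtain ⟨k, hk⟩ := exists_pow_eq_self_of_coprime hcop.symm
    rw [← hk]
    exact h1.pow_left k
  refine mem_zpowers_of_cyclic (h.cyc x hx) (mem_centralizer_singleton_iff.2 rfl) (mem_centralizer_singleton_iff.2 ?_)
    (by rw [hx, hz])
  exact h2.eq

theorem index_mod (h : Big G r m e) {x : G} (hx : orderOf x = r) :
    (normalizer (zpowers x : Set G)).index ≡ 1 [MOD r] := by
  have hr := h.prime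
  have := Fact.mk hr
  set K : Subgroup G := normalizer (zpowers x : Set G) with hK
  have hmemK : ∀ g : G, g * x * g⁻¹ ∈ zpowers x → g ∈ K := by
    intro g hg
    rw [hK, mem_normalizer_iff]
    have hle : (zpowers x).map (MulAut.conj g).toMonoidHom = zpowers x := by
      apply Subgroup.eq_of_le_of_card_ge
      · rintro _ ⟨_, ⟨k, rfl⟩, rfl⟩
        show g * x ^ k * g⁻¹ ∈ _
        rw [← conj_zpow]
        exact zpow_mem hg k
      · rw [Subgroup.card_map_of_injective (MulAut.conj g).injective]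
    intro a
    constructor
    · intro ha
      rw [← hle]
      exact ⟨a, ha, rfl⟩
    · intro ha
      rw [← hle] at ha
      obtain ⟨b, hb, hba⟩ := ha
      have : b = a := (MulAut.conj g).injective hba
      rwa [← this]
  have hP : IsPGroup r (zpowers x) := IsPGroup.of_card (n := 1) (by rw [Nat.card_zpowers, hx, pow_one])
  have h1 := hP.card_modEq_card_fixedPoints (G ⧸ K)
  have h2 : Nat.card (MulAction.fixedPoints (zpowers x) (G ⧸ K)) = 1 := by
    rw [Nat.card_eq_one_iff_unique]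
    have key : ∀ a : MulAction.fixedPoints (zpowers x) (G ⧸ K), (a : G ⧸ K) = QuotientGroup.mk 1 := by
      rintro ⟨a, ha⟩
      induction a using QuotientGroup.induction_on with
      | _ g =>
      have h3 : x • (QuotientGroup.mk g : G ⧸ K) = QuotientGroup.mk g := ha ⟨x, mem_zpowers x⟩
      have h4 : (QuotientGroup.mk (x * g) : G ⧸ K) = QuotientGroup.mk g := h3
      rw [eq_comm, QuotientGroup.eq] at h4
      have h5 : g⁻¹ * x * g ∈ K := by rw [mul_assoc]; exact h4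
      have h6 : orderOf (g⁻¹ * x * g) = r := by
        rw [← hx]
        have := (MulAut.conj g⁻¹).orderOf_eq x
        simpa only [_root_.map_inv, _root_.MulAut.inv_apply, _root_.MulAut.conj_symm_apply] using this
      have h7 : g⁻¹ * x * g ∈ zpowers x :=
        mem_zpowers_of_normalizes h hx h6 ((mem_normalizer_iff.1 h5 x).1 (mem_zpowers x))
      have h8 : g⁻¹ ∈ K := hmemK _ (by rwa [inv_inv])
      show (QuotientGroup.mk g : G ⧸ K) = QuotientGroup.mk 1
      rw [QuotientGroup.eq, mul_one]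
      exact h8
    refine ⟨⟨fun a b => Subtype.ext ((key a).trans (key b).symm)⟩, ⟨⟨QuotientGroup.mk 1, ?_⟩⟩⟩
    rintro ⟨y, hy⟩
    show (QuotientGroup.mk (y * 1) : G ⧸ K) = QuotientGroup.mk 1
    rw [QuotientGroup.eq, mul_one, mul_one]
    exact K.inv_mem (le_normalizer hy)
  rw [h2] at h1
  rwa [Subgroup.index_eq_card]

/-- **Counting in a normal subgroup.** -/
theorem index_mul {N : ℕ} (h : Big G r N 6) {S : Subgroup G} [S.Normal] {y : S} (hy : orderOf y = N) (hrN : r ∣ N)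
    (hN0 : N ≠ 0) : ∃ e n, S.index * e ∣ 6 ∧ e ≠ 0 ∧ Nat.card S = n * (e * N) ∧ n ≡ 1 [MOD r] := by
  have hr := h.prime
  have := Fact.mk hr
  set x : S := y ^ (N / r) with hxdef
  have hx : orderOf x = r := by
    rw [hxdef, orderOf_pow_of_dvd (Nat.div_pos (Nat.le_of_dvd (Nat.pos_of_ne_zero hN0) hrN) hr.pos).ne'
      (by rw [hy]; exact Nat.div_dvd_of_dvd hrN), hy, Nat.div_div_self hrN hN0]
  have hxG : orderOf (x : G) = r := by rw [Subgroup.orderOf_coe, hx]
  have hbS := h.subgroup S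
  set K : Subgroup G := normalizer (zpowers (x : G) : Set G) with hK
  set KS : Subgroup S := normalizer (zpowers x : Set S) with hKS
  have hKd := h.card_normalizer_dvd hxG
  have hyx : Commute y x := (Commute.refl y).pow_right _
  have hyKS : y ∈ KS := by
    rw [hKS, mem_normalizer_iff]
    have hh : ∀ a ∈ zpowers x, y * a * y⁻¹ = a := by
      rintro _ ⟨k, rfl⟩
      show y * x ^ k * y⁻¹ = x ^ k
      rw [(hyx.zpow_right k).eq, mul_inv_cancel_right]
    intro a
    constructor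
    · intro ha
      rw [hh a ha]
      exact ha
    · intro ha
      have h1 : y * a * y⁻¹ = y * (y * a * y⁻¹) * y⁻¹ := (hh _ ha).symm
      have h2 : a = y * a * y⁻¹ := by
        have := mul_left_cancel (mul_right_cancel h1)
        exact this
      rw [h2]
      exact ha
  have hNKS : N ∣ Nat.card KS := by
    rw [← hy, ← Subgroup.orderOf_mk y hyKS]
    exact _root_.orderOf_dvd_natCard _
  obtain ⟨e, he⟩ := hNKS
  -- `KS` is `K ∩ S`
  have hKS' : KS = K.subgroupOf S := by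
    ext a
    rw [mem_subgroupOf, hKS, hK, mem_normalizer_iff, mem_normalizer_iff]
    have hz : ∀ b : S, b ∈ zpowers x ↔ (b : G) ∈ zpowers (x : G) := by
      intro b
      constructor
      · rintro ⟨k, rfl⟩
        exact ⟨k, by simp⟩
      · rintro ⟨k, hk⟩
        exact ⟨k, Subtype.ext (by simpa using hk)⟩
    constructor
    · intro ha b
      constructor
      · intro hb
        have hbS : b ∈ S := by
          obtain ⟨k, rfl⟩ := hb
          exact S.zpow_mem x.2 k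
        have := (ha ⟨b, hbS⟩).1 ((hz _).2 hb)
        exact (hz _).1 this
      · intro hb
        have hbS : b ∈ S := by
          have h1 : (a : G) * b * (a : G)⁻¹ ∈ S := by
            obtain ⟨k, hk⟩ := hb
            rw [← hk]
            exact S.zpow_mem x.2 k
          have h2 : (a : G)⁻¹ * ((a : G) * b * (a : G)⁻¹) * (a : G)⁻¹⁻¹ ∈ S :=
            (inferInstance : S.Normal).conj_mem _ h1 _
          have e1 : (a : G)⁻¹ * ((a : G) * b * (a : G)⁻¹) * (a : G)⁻¹⁻¹ = b := by group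
          rwa [e1] at h2
        exact (hz ⟨b, hbS⟩).1 ((ha ⟨b, hbS⟩).2 ((hz _).2 hb))
    · intro ha b
      rw [hz, hz]
      exact ha b
  -- Frattini
  obtain ⟨P₀, hP₀⟩ : ∃ P : Sylow r S, zpowers x ≤ P := by
    have hxp : IsPGroup r (zpowers x) := IsPGroup.of_card (n := 1) (by rw [Nat.card_zpowers, hx, pow_one])
    obtain ⟨P, hP⟩ := hxp.exists_le_sylow
    exact ⟨P, hP⟩
  have hxP₀ : x ∈ (P₀ : Subgroup S) := hP₀ (mem_zpowers x)
  have hcyc : IsCyclic ↥((P₀ : Subgroup S).map S.subtype) := h.isCyclic_of_isPGroup (P₀.2.map _)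
  have hF := Sylow.normalizer_sup_eq_top P₀
  have hNle : normalizer (((P₀ : Subgroup S).map S.subtype : Subgroup G) : Set G) ≤ K := by
    have hsub : ∀ y ∈ normalizer (((P₀ : Subgroup S).map S.subtype : Subgroup G) : Set G),
        y * (x : G) * y⁻¹ ∈ zpowers (x : G) := by
      intro y hy
      have h1 : y * (x : G) * y⁻¹ ∈ (P₀ : Subgroup S).map S.subtype :=
        (mem_normalizer_iff.1 hy (x : G)).1 ⟨x, hxP₀, rfl⟩
      exact mem_zpowers_of_cyclic hcyc ⟨x, hxP₀, rfl⟩ h1 (by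
        rw [show orderOf (y * (x : G) * y⁻¹) = orderOf (x : G) from by
          rw [← MulAut.conj_apply]; exact (MulAut.conj y).orderOf_eq _])
    have hsub' : ∀ y ∈ normalizer (((P₀ : Subgroup S).map S.subtype : Subgroup G) : Set G),
        ∀ a ∈ zpowers (x : G), y * a * y⁻¹ ∈ zpowers (x : G) := by
      rintro y hy _ ⟨j, rfl⟩
      show y * (x : G) ^ j * y⁻¹ ∈ _
      rw [← conj_zpow]
      exact zpow_mem (hsub y hy) j
    intro y hy
    rw [hK, mem_normalizer_iff]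
    intro a
    refine ⟨fun ha => hsub' y hy a ha, fun ha => ?_⟩
    have := hsub' y⁻¹ (inv_mem hy) _ ha
    have e1 : y⁻¹ * (y * a * y⁻¹) * y⁻¹⁻¹ = a := by group
    rwa [e1] at this
  have hKS2 : K ⊔ S = ⊤ := by
    rw [eq_top_iff, ← hF]
    exact sup_le_sup_right hNle S
  have hidx : S.index = S.relIndex K := by
    rw [← relIndex_top_right, ← hKS2, sup_comm, relIndex_sup_left]
  have hcard : S.index * Nat.card KS = Nat.card K := by
    rw [hidx, hKS', mul_comm]
    have h1 : Nat.card (K.subgroupOf S) = Nat.card (S.subgroupOf K) := by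
      have e1 := Nat.card_congr (Subgroup.subgroupOfEquivOfLe (inf_le_right : K ⊓ S ≤ S)).toEquiv
      have e2 := Nat.card_congr (Subgroup.subgroupOfEquivOfLe (inf_le_left : K ⊓ S ≤ K)).toEquiv
      rw [Subgroup.inf_subgroupOf_right] at e1
      rw [Subgroup.inf_subgroupOf_left] at e2
      rw [e1, e2]
    rw [h1]
    exact Subgroup.card_mul_index (S.subgroupOf K)
  have he0 : e ≠ 0 := by
    rintro rfl
    rw [mul_zero] at he
    exact absurd he Nat.card_pos.ne'
  refine ⟨e, KS.index, ?_, he0, ?_, index_mod hbS hx⟩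
  · have h1 : (S.index * e) * N ∣ 6 * N := by
      refine dvd_trans (dvd_of_eq ?_) hKd
      rw [← hcard, he]
      ring
    exact Nat.dvd_of_mul_dvd_mul_right (Nat.pos_of_ne_zero hN0) h1
  · rw [← KS.card_mul_index, he]
    ring

end Cfsg.Agent.H983.Cov
end

-- part: H983/Cov/Alt
section
/-!
# Big primes of the alternating groups (helper983)

* `alt_aut` : if `r ≥ 5` is a prime divisor of `|A_m|` with cyclic centralisers and automizers of exponent dividing 6,
  then `r - 1` divides 12.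
-/

set_option autoImplicit false

namespace Cfsg.Agent.H983.Cov

open Cfsg.Agent.H56.Exc Subgroup Equiv

theorem cyc_of_prime {m r : ℕ} (h2 : m < 2 * r) {σ : Perm (Fin m)} (hr : r.Prime) (ho : orderOf σ = r) :
    σ.cycleType = {r} := by
  obtain ⟨n, hn⟩ := Equiv.Perm.cycleType_prime_order (σ := σ) (by rw [ho]; exact hr)
  rw [ho] at hn
  have h1 : σ.cycleType.sum ≤ m := by
    rw [Equiv.Perm.sum_cycleType]
    exact (Finset.card_le_univ _).trans (by simp only [_root_.Fintype.card_fin, _root_.Std.le_refl])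
  rw [hn, Multiset.sum_replicate, smul_eq_mul] at h1
  have h3 : n = 0 := by
    by_contra h0
    have : 2 * r ≤ (n + 1) * r := Nat.mul_le_mul_right r (by omega)
    omega
  rw [hn, h3]
  rfl

theorem alt_aut {S : Type*} [Group S] [Finite S] {m r N : ℕ} (hb : Big S r N 6) (h5 : 5 ≤ r)
    (e : S ≃* alternatingGroup (Fin m)) (hd : r ∣ Nat.card S) : r - 1 ∣ 12 := by
  have hr := hb.prime
  have := Fact.mk hr
  have hm : m ≤ r + 3 := by
    refine Cfsg.Agent.H290.ElRich.alt_le hr h5 e hd (fun x hx => ?_)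
    have := hb.cyc x hx
    let _ := IsCyclic.commGroup (α := ↥(Subgroup.centralizer ({x} : Set S)))
    infer_instance
  obtain ⟨x, hx⟩ := exists_prime_orderOf_dvd_card' r hd
  set σ : Perm (Fin m) := ((e x : alternatingGroup (Fin m)) : Perm (Fin m)) with hσ
  have hσo : orderOf σ = r := by
    rw [hσ, Subgroup.orderOf_coe, MulEquiv.orderOf_eq, hx]
  obtain ⟨g, hg⟩ := (ZMod.isCyclic_units_prime hr).exists_generator
  set k : ℕ := ((g : ZMod r)).val with hk
  have hkr : (k : ZMod r) = g := by rw [hk, ZMod.natCast_zmod_val]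
  have hk0 : Nat.Coprime r k := by
    rw [Nat.Prime.coprime_iff_not_dvd hr]
    intro h
    rw [← ZMod.natCast_eq_zero_iff, hkr] at h
    exact g.ne_zero h
  have hc1 := cyc_of_prime (by omega) hr hσo
  have hσk : orderOf (σ ^ k) = r := by
    rw [orderOf_pow, hσo, hk0, Nat.div_one]
  have hc2 := cyc_of_prime (by omega) hr hσk
  obtain ⟨τ, hτ⟩ := isConj_iff.1 (Equiv.Perm.isConj_iff_cycleType_eq.2 (hc1.trans hc2.symm))
  -- the square of `τ`
  have hτ2 : τ ^ 2 ∈ alternatingGroup (Fin m) := by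
    rw [Equiv.Perm.mem_alternatingGroup, map_pow]
    rcases Int.units_eq_one_or (Equiv.Perm.sign τ) with h | h <;> rw [h] <;> rfl
  have hconj : ∀ j : ℕ, τ ^ j * σ * (τ ^ j)⁻¹ = σ ^ (k ^ j) := by
    intro j
    induction j with
    | zero => simp
    | succ n ih =>
      have h1 : τ ^ (n + 1) * σ * (τ ^ (n + 1))⁻¹ = τ * (τ ^ n * σ * (τ ^ n)⁻¹) * τ⁻¹ := by
        rw [pow_succ']; group
      rw [h1, ih, ← conj_pow, hτ, ← pow_mul, pow_succ']
  set y : S := e.symm ⟨τ ^ 2, hτ2⟩ with hy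
  have hey : ((e y : alternatingGroup (Fin m)) : Perm (Fin m)) = τ ^ 2 := by rw [hy, e.apply_symm_apply]
  have hyx : y * x * y⁻¹ = x ^ (k ^ 2) := by
    apply e.injective
    apply Subtype.ext
    rw [map_mul, map_mul, map_inv, map_pow]
    show ((e y : alternatingGroup (Fin m)) : Perm (Fin m)) * σ * ((e y : alternatingGroup (Fin m)) : Perm (Fin m))⁻¹ =
      σ ^ (k ^ 2)
    rw [hey]
    exact hconj 2
  have h1 := hb.aut x y hx (by rw [hyx]; exact pow_mem (mem_zpowers x) _)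
  have h2 : σ ^ (k ^ 12) = σ := by
    rw [← hconj 12]
    have h3 : (y ^ 6) * x * (y ^ 6)⁻¹ = x := by rw [h1.eq, mul_inv_cancel_right]
    have h4 := congrArg (fun z => ((e z : alternatingGroup (Fin m)) : Perm (Fin m))) h3
    simp only [map_mul, map_inv, map_pow] at h4
    have h5 : ((e y : alternatingGroup (Fin m)) : Perm (Fin m)) ^ 6 * σ *
        (((e y : alternatingGroup (Fin m)) : Perm (Fin m)) ^ 6)⁻¹ = σ := h4
    rw [hey, ← pow_mul] at h5
    exact h5
  have h3 : k ^ 12 ≡ 1 [MOD r] := by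
    rw [← hσo, ← pow_eq_pow_iff_modEq, h2, pow_one]
  have h4 : g ^ 12 = 1 := by
    apply Units.ext
    rw [Units.val_pow_eq_pow_val, ← hkr, Units.val_one]
    have := (ZMod.natCast_eq_natCast_iff _ _ _).2 h3
    push_cast at this
    exact this
  have h5 : orderOf g = r - 1 := by
    rw [orderOf_eq_card_of_forall_mem_zpowers hg, Nat.card_eq_fintype_card, ZMod.card_units_eq_totient,
      Nat.totient_prime hr]
  rw [← h5]
  exact orderOf_dvd_of_pow_eq_one h4

/-- the primes -/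
theorem alt_prime {S : Type*} [Group S] [Finite S] {m r N : ℕ} (hb : Big S r N 6) (h7 : 7 ≤ r)
    (e : S ≃* alternatingGroup (Fin m)) (hd : r ∣ Nat.card S) : (r = 7 ∨ r = 13) ∧ m ≤ r + 3 := by
  have hr := hb.prime
  have h1 := alt_aut hb (by omega) e hd
  have hm : m ≤ r + 3 := by
    refine Cfsg.Agent.H290.ElRich.alt_le hr (by omega) e hd (fun x hx => ?_)
    have := hb.cyc x hx
    let _ := IsCyclic.commGroup (α := ↥(Subgroup.centralizer ({x} : Set S)))
    infer_instance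
  refine ⟨?_, hm⟩
  have h2 : r ≤ 13 := by
    have := Nat.le_of_dvd (by norm_num) h1
    omega
  interval_cases r <;> first | (left; rfl) | (right; rfl) | (exfalso; revert h1; norm_num)

end Cfsg.Agent.H983.Cov
end

-- part: H983/Cov/AltKill
section
/-!
# S2499, the row `G₂(q)`, `q` odd: no alternating section (helper983)
-/

set_option autoImplicit false

namespace Cfsg.Agent.H983.Cov

open Cfsg Cfsg.Agent.H56.Exc Subgroup Cfsg.Agent.H563.KG Cfsg.Agent.H902
open Cfsg.Agent.H946.Num Cfsg.Agent.H946.Rad Cfsg.Agent.H983.KG2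

/-- the number `c` is 7 or 13 -/
theorem alt_c {S : Type*} [Group S] [Finite S] {m N c : ℕ} (hm5 : 5 ≤ m)
    (hb : ∀ r : ℕ, r.Prime → r ∣ c → Big S r N 6) (h7 : ∀ r : ℕ, r.Prime → r ∣ c → 7 ≤ r) (h1 : c ≠ 1)
    (e : S ≃* alternatingGroup (Fin m)) (hc : c ∣ Nat.card S) :
    (c = 7 ∧ 7 ≤ m ∧ m ≤ 10) ∨ (c = 13 ∧ 13 ≤ m ∧ m ≤ 16) := by
  have hcard : 2 * Nat.card S = Nat.factorial m := by
    have : Nontrivial (Fin m) := ⟨⟨⟨0, by omega⟩, ⟨1, by omega⟩, by simp⟩⟩
    rw [Nat.card_congr e.toEquiv, Nat.card_eq_fintype_card, two_mul_card_alternatingGroup, Fintype.card_perm,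
      Fintype.card_fin]
  obtain ⟨r, hr, hrc⟩ := Nat.exists_prime_and_dvd h1
  have key : ∀ s : ℕ, s.Prime → s ∣ c → (s = 7 ∨ s = 13) ∧ m ≤ s + 3 ∧ s ≤ m := by
    intro s hs hsc
    obtain ⟨h2, h3⟩ := alt_prime (hb s hs hsc) (h7 s hs hsc) e (hsc.trans hc)
    exact ⟨h2, h3, Cfsg.Agent.H290.ElRich.le_of_dvd_alt hs (by omega) e (hsc.trans hc)⟩
  have hall : ∀ s : ℕ, s.Prime → s ∣ c → s = r := by
    intro s hs hsc
    have h2 := key s hs hsc
    have h3 := key r hr hrc
    omega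
  -- `c` is a power of `r`
  have hc0 : c ≠ 0 := by
    rintro rfl
    exact absurd (Nat.eq_zero_of_zero_dvd hc) Nat.card_pos.ne'
  have hpow : c = r ^ c.primeFactorsList.length := by
    have h2 : c.primeFactorsList = List.replicate c.primeFactorsList.length r := by
      rw [List.eq_replicate_iff]
      exact ⟨rfl, fun s hs => hall s (Nat.prime_of_mem_primeFactorsList hs) (Nat.dvd_of_mem_primeFactorsList hs)⟩
    conv_lhs => rw [← Nat.prod_primeFactorsList hc0, h2, List.prod_replicate]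
  obtain ⟨h2, h3, h4⟩ := key r hr hrc
  have hr2 : ¬ r ^ 2 ∣ c := by
    intro h
    have h5 : r ^ 2 ∣ Nat.factorial m := by
      rw [← hcard]
      exact (h.trans hc).mul_left _
    have h6 : r ^ 2 ∣ Nat.factorial (r + 3) := h5.trans (Nat.factorial_dvd_factorial h3)
    rcases h2 with rfl | rfl
    · revert h6; decide
    · revert h6; decide
  have hlen : c.primeFactorsList.length = 1 := by
    generalize c.primeFactorsList.length = k at hpow
    rcases Nat.lt_or_ge k 2 with h | h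
    · interval_cases k
      · exact absurd (by rw [hpow, pow_zero]) h1
      · rfl
    · exact absurd (by rw [hpow]; exact pow_dvd_pow r h) hr2
  rw [hlen, pow_one] at hpow
  rcases h2 with h | h
  · left; omega
  · right; omega

theorem five_dvd_alt {m : ℕ} (h5 : 5 ≤ m) {S : Type*} [Group S] [Finite S] (e : S ≃* alternatingGroup (Fin m)) :
    5 ∣ Nat.card S := by
  have hcard : 2 * Nat.card S = Nat.factorial m := by
    have : Nontrivial (Fin m) := ⟨⟨⟨0, by omega⟩, ⟨1, by omega⟩, by simp⟩⟩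
    rw [Nat.card_congr e.toEquiv, Nat.card_eq_fintype_card, two_mul_card_alternatingGroup, Fintype.card_perm,
      Fintype.card_fin]
  have h1 : 5 ∣ 2 * Nat.card S := by
    rw [hcard]
    exact (Nat.Prime.dvd_factorial (by norm_num)).2 h5
  exact (Nat.Coprime.dvd_of_dvd_mul_left (by norm_num) h1)

/-- **Class 3.** -/
theorem alt3 {S : Type*} [Group S] [Finite S] {m q : ℕ} (hm5 : 5 ≤ m) (h3q : 3 ≤ q) (ho : q % 2 = 1)
    (hb : ∀ r : ℕ, r.Prime → r ∣ c3 q → Big S r (N3 q) 6) (e : S ≃* alternatingGroup (Fin m))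
    (hc : c3 q ∣ Nat.card S) (hd : Nat.card S ∣ OL .G2 q) : False := by
  have h1 : c3 q ≠ 1 := by
    have h1 := le_c3 q
    have h3 : 3 ^ 2 ≤ q ^ 2 := Nat.pow_le_pow_left h3q 2
    omega
  have h7 : ∀ r : ℕ, r.Prime → r ∣ c3 q → 7 ≤ r := fun r hr h => by
    refine seven_le hr ?_ (Or.inl (h.trans (c3_dvd _)))
    rintro rfl
    exact not_three_c3 _ h
  have hq : q < 7 := by
    by_contra hcon
    have h2 := le_c3 q
    have h3 : 7 ^ 2 ≤ q ^ 2 := Nat.pow_le_pow_left (by omega) 2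
    rcases alt_c hm5 hb h7 h1 e hc with h | h <;> omega
  have hq' : q = 3 ∨ q = 5 := by omega
  rcases hq' with rfl | rfl
  · have h2 := (five_dvd_alt hm5 e).trans hd
    revert h2; decide
  · have h2 : c3 5 = 31 := by decide
    rcases alt_c hm5 hb h7 h1 e hc with h | h <;> omega

/-- **Class 6.** -/
theorem alt6 {S : Type*} [Group S] [Finite S] {m q : ℕ} (hm5 : 5 ≤ m) (h3q : 3 ≤ q) (ho : q % 2 = 1)
    (hb : ∀ r : ℕ, r.Prime → r ∣ c6 q → Big S r (N6 q) 6) (e : S ≃* alternatingGroup (Fin m))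
    (hc : c6 q ∣ Nat.card S) (hd : Nat.card S ∣ OL .G2 q) (h25 : q = 5 → 25 ∣ Nat.card S) : False := by
  have h1 : c6 q ≠ 1 := by
    have h1 := le_c6 (q := q)
    have h3 : 3 * q ≤ q ^ 2 := by rw [pow_two]; exact Nat.mul_le_mul_right _ h3q
    omega
  have h7 : ∀ r : ℕ, r.Prime → r ∣ c6 q → 7 ≤ r := fun r hr h => by
    have := prim_lt (by omega) (by norm_num) (prim_c6 (q := q) (by omega) hr h)
    omega
  have hq : q < 7 := by
    by_contra hcon
    have h2 := le_c6 (q := q)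
    have h3 : 7 * q ≤ q ^ 2 := by rw [pow_two]; exact Nat.mul_le_mul_right _ (by omega)
    rcases alt_c hm5 hb h7 h1 e hc with h | h <;> (clear * - hcon h2 h3 h; omega)
  have hq' : q = 3 ∨ q = 5 := by omega
  rcases hq' with rfl | rfl
  · have h2 := (five_dvd_alt hm5 e).trans hd
    revert h2; decide
  · have h2 : c6 5 = 7 := by decide
    have h3 : m ≤ 10 := by rcases alt_c hm5 hb h7 h1 e hc with h | h <;> omega
    have hcard : 2 * Nat.card S = Nat.factorial m := by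
      have : Nontrivial (Fin m) := ⟨⟨⟨0, by omega⟩, ⟨1, by omega⟩, by simp⟩⟩
      rw [Nat.card_congr e.toEquiv, Nat.card_eq_fintype_card, two_mul_card_alternatingGroup, Fintype.card_perm,
        Fintype.card_fin]
    have h4 : 25 ∣ Nat.factorial m := by
      rw [← hcard]
      exact (h25 rfl).mul_left _
    have h5 : Nat.factorial m ∣ 2 * OL .G2 5 := by
      rw [← hcard]
      exact Nat.mul_dvd_mul_left 2 hd
    interval_cases m <;> first | (revert h4; decide) | (revert h5; decide)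

end Cfsg.Agent.H983.Cov
end

-- part: H983/Cov/RULem
section
/-!
# S2499, the row `G₂(q)`, `q` odd: consequences of the package `RU` (helper983)

* `RU.le_U` : a `p`-subgroup containing `u` lies in `U`;
* `RU.mem_B` : an element normalising a `p`-subgroup containing `u` lies in `B`.
-/

set_option autoImplicit false

namespace Cfsg.Agent.H983.Cov

open Cfsg Cfsg.Lie Cfsg.Agent.OrdDiv Cfsg.Agent.H436 Cfsg.Agent.H902 Cfsg.Agent.H902.Names Cfsg.Agent.H915.GN
  Cfsg.Agent.H290.ElReg Cfsg.Agent.H264.FKS Cfsg.Agent.H563.KG Cfsg.Agent.H56.Exc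
open Cfsg.Agent.H946.Num Cfsg.Agent.H946.Rad Cfsg.Agent.H983.KG2
open Subgroup

variable {p f : ℕ} {T : Type} [Group T] [Finite T] {u : T} {B U : Subgroup T}

theorem not_dvd_ord (hp : p.Prime) (hf : 1 ≤ f) : ¬ p ∣ ((p ^ f) ^ 2 - 1) * ((p ^ f) ^ 6 - 1) := by
  have hpq : p ∣ p ^ f := dvd_pow_self p (by omega)
  have key : ∀ k, 1 ≤ k → ¬ p ∣ (p ^ f) ^ k - 1 := by
    intro k hk h
    have h1 : p ∣ (p ^ f) ^ k := hpq.trans (dvd_pow_self _ (by omega))
    have h2 : 1 ≤ (p ^ f) ^ k := Nat.one_le_pow _ _ (Nat.pow_pos hp.pos)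
    have h3 := Nat.dvd_sub h1 h
    rw [Nat.sub_sub_self h2] at h3
    exact hp.one_lt.ne' (Nat.dvd_one.1 h3)
  intro h
  rcases hp.dvd_mul.1 h with h | h
  · exact key 2 (by norm_num) h
  · exact key 6 (by norm_num) h

theorem RU.exists_sylow (R : RU (p ^ f) p u B U) (hp : p.Prime) (hf : 1 ≤ f) (hT : Nat.card T = OL .G2 (p ^ f)) :
    haveI := Fact.mk hp
    ∃ Q : Sylow p T, (Q : Subgroup T) = U := by
  have := Fact.mk hp
  obtain ⟨Q, hQ⟩ := R.isP.exists_le_sylow
  refine ⟨Q, ?_⟩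
  symm
  apply Subgroup.eq_of_le_of_card_ge hQ
  have h1 : Nat.card Q ∣ Nat.card U * (((p ^ f) ^ 2 - 1) * ((p ^ f) ^ 6 - 1)) := by
    rw [R.cardU]
    refine (Subgroup.card_subgroup_dvd_card (Q : Subgroup T)).trans (dvd_of_eq ?_)
    rw [hT]
    rfl
  obtain ⟨k, hk⟩ := IsPGroup.iff_card.1 Q.2
  have h2 : Nat.Coprime (Nat.card Q) (((p ^ f) ^ 2 - 1) * ((p ^ f) ^ 6 - 1)) := by
    rw [hk]
    exact Nat.Coprime.pow_left _ ((Nat.Prime.coprime_iff_not_dvd hp).2 (not_dvd_ord hp hf))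
  exact Nat.le_of_dvd Nat.card_pos (h2.dvd_of_dvd_mul_right h1)

theorem RU.le_U (R : RU (p ^ f) p u B U) (hp : p.Prime) (hf : 1 ≤ f) (hT : Nat.card T = OL .G2 (p ^ f))
    {P : Subgroup T} (hP : IsPGroup p P) (hu : u ∈ P) : P ≤ U := by
  have := Fact.mk hp
  obtain ⟨Q, hQ⟩ := R.exists_sylow hp hf hT
  obtain ⟨P1, hP1⟩ := hP.exists_le_sylow
  obtain ⟨g, hg⟩ := MulAction.exists_smul_eq T P1 Q
  have hsub : ∀ x ∈ P, g * x * g⁻¹ ∈ U := by
    intro x hx
    rw [← hQ, ← hg, Sylow.coe_subgroup_smul]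
    exact Subgroup.smul_mem_pointwise_smul _ (MulAut.conj g) _ (hP1 hx)
  have hgB := R.reg g (hsub u hu)
  intro x hx
  have h1 := R.norm g⁻¹ (B.inv_mem hgB) _ (hsub x hx)
  have e : g⁻¹ * (g * x * g⁻¹) * g⁻¹⁻¹ = x := by group
  rwa [e] at h1

theorem RU.mem_B (R : RU (p ^ f) p u B U) (hp : p.Prime) (hf : 1 ≤ f) (hT : Nat.card T = OL .G2 (p ^ f))
    {P : Subgroup T} (hP : IsPGroup p P) (hu : u ∈ P) {h : T} (hh : h * u * h⁻¹ ∈ P) : h ∈ B :=
  R.reg h (R.le_U hp hf hT hP hu hh)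

omit [Finite T] in
/-- the order of `u` -/
theorem RU.order (R : RU (p ^ f) p u B U) (hp : p.Prime) : ∃ k, orderOf u = p ^ k := by
  have := Fact.mk hp
  obtain ⟨k, hk⟩ := IsPGroup.iff_orderOf.1 R.isP ⟨u, R.mem⟩
  exact ⟨k, by rw [← hk, Subgroup.orderOf_mk]⟩

theorem RU.ne_one (R : RU (p ^ f) p u B U) (hp : p.Prime) (hf : 1 ≤ f) (h3q : 3 ≤ p ^ f)
    (hT : Nat.card T = OL .G2 (p ^ f)) : u ≠ 1 := by
  rintro rfl
  have := Fact.mk hp
  have h1 : Nat.card T ∣ Nat.card ↥(centralizer ({(1 : T)} : Set T)) := by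
    have h2 : centralizer ({(1 : T)} : Set T) = ⊤ := by
      rw [eq_top_iff]
      intro x _
      rw [mem_centralizer_singleton_iff, mul_one, one_mul]
    rw [h2, Subgroup.card_top]
  obtain ⟨k, hk⟩ := IsPGroup.iff_card.1 R.cent
  rw [hk, hT] at h1
  have h2 : (p ^ f) ^ 2 - 1 ∣ p ^ k := by
    refine dvd_trans ?_ h1
    show (p ^ f) ^ 2 - 1 ∣ (p ^ f) ^ 6 * (((p ^ f) ^ 2 - 1) * ((p ^ f) ^ 6 - 1))
    exact (Dvd.intro _ rfl).mul_left _
  have h3 : Nat.Coprime ((p ^ f) ^ 2 - 1) (p ^ k) := by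
    refine Nat.Coprime.pow_right _ (Nat.Coprime.symm ((Nat.Prime.coprime_iff_not_dvd hp).2 fun h => ?_))
    exact not_dvd_ord hp hf (h.mul_right _)
  have h4 := Nat.dvd_gcd dvd_rfl h2
  rw [h3] at h4
  have h5 := Nat.dvd_one.1 h4
  have h6 : 3 ^ 2 ≤ (p ^ f) ^ 2 := Nat.pow_le_pow_left h3q 2
  omega

/-- the centraliser in a subgroup -/
theorem RU.cent_sub (R : RU (p ^ f) p u B U) {M : Subgroup T} (hu : u ∈ M) :
    IsPGroup p ↥(centralizer ({(⟨u, hu⟩ : M)} : Set M)) := by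
  let φ : ↥(centralizer ({(⟨u, hu⟩ : M)} : Set M)) →* ↥(centralizer ({u} : Set T)) :=
    (M.subtype.comp (centralizer ({(⟨u, hu⟩ : M)} : Set M)).subtype).codRestrict _ fun y => by
      rw [mem_centralizer_singleton_iff]
      have h1 := mem_centralizer_singleton_iff.1 y.2
      exact congrArg Subtype.val h1
  exact R.cent.of_injective φ fun a b hab => by
    have h2 : ((a : M) : T) = ((b : M) : T) := congrArg (fun z : ↥(centralizer ({u} : Set T)) => (z : T)) hab
    exact Subtype.ext (Subtype.ext h2)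

/-- the separation condition -/
theorem RU.sep (R : RU (p ^ f) p u B U) (hp : p.Prime) (h2 : p ≠ 2) (hf : 1 ≤ f) (h3q : 3 ≤ p ^ f)
    (hT : Nat.card T = OL .G2 (p ^ f)) {M : Subgroup T} (hu : u ∈ M) {N : ℕ} (hpN : ¬ p ∣ N) :
    ¬ Nat.card M ∣ 6 * N := by
  intro h
  obtain ⟨k, hk⟩ := R.order hp
  have hne := R.ne_one hp hf h3q hT
  have h1 : orderOf u ∣ Nat.card M := by
    rw [← Subgroup.orderOf_mk u hu]
    exact _root_.orderOf_dvd_natCard _
  rw [hk] at h1
  have hk1 : k ≠ 0 := by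
    rintro rfl
    rw [pow_zero, orderOf_eq_one_iff] at hk
    exact hne hk
  by_cases h5 : 5 ≤ p
  · have h3 : p ∣ 6 * N := (dvd_pow_self p hk1).trans (h1.trans h)
    rcases hp.dvd_mul.1 h3 with h4 | h4
    · have h6 : p ∣ 2 * 3 := h4
      rcases hp.dvd_mul.1 h6 with h7 | h7
      · exact h2 ((Nat.prime_dvd_prime_iff_eq hp Nat.prime_two).1 h7)
      · have := (Nat.prime_dvd_prime_iff_eq hp Nat.prime_three).1 h7
        omega
    · exact hpN h4
  · have h3 : p = 3 := by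
      have := hp.two_le
      have h4 : p ≠ 4 := by rintro rfl; revert hp; norm_num
      omega
    subst h3
    have hk2 : 2 ≤ k := by
      by_contra hcon
      have : k = 1 := by omega
      subst this
      apply R.ord (by norm_num)
      rw [pow_one] at hk
      rw [← hk, pow_orderOf_eq_one]
    have h4 : 3 ^ 2 ∣ 6 * N := (pow_dvd_pow 3 hk2).trans (h1.trans h)
    have h6 : 3 * 3 ∣ 3 * (2 * N) := by
      have e : 3 * (2 * N) = 6 * N := by ring
      rw [e]; exact h4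
    have h5 := Nat.dvd_of_mul_dvd_mul_left (by norm_num) h6
    rcases Nat.prime_three.dvd_mul.1 h5 with h7 | h7
    · exact absurd (Nat.le_of_dvd (by norm_num) h7) (by norm_num)
    · exact hpN h7

end Cfsg.Agent.H983.Cov
end

-- part: H265/LQ/SLThree
section
/-!
# `PSL₃(F)` in matrices: the overgroups of the Borel subgroup (helper265, for S4114)

`SL = SL₃(F)`, `um s t z` the unitriangular matrices. A proper subgroup of `PSL₃(F)` containing (the image of) the upper
triangular matrices properly is one of the two maximal parabolic subgroups.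
-/

set_option autoImplicit false
set_option linter.unusedSectionVars false
set_option linter.unusedSimpArgs false

namespace Cfsg.Agent.H265.LQ

open Matrix Subgroup
open Cfsg.Agent.ClassicalGeometry.AutPSL.Root
open Cfsg.Agent.ClassicalGeometry.AutPSL.SylowU

variable {F : Type*} [Field F]

local notation "SL" => Matrix.SpecialLinearGroup (Fin 3) F

/-- the unitriangular matrices -/
def um (s t z : F) : Matrix.SpecialLinearGroup (Fin 3) F :=
  ⟨!![1, s, z; 0, 1, t; 0, 0, 1], by simp [Matrix.det_fin_three]⟩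

/-- a matrix of determinant one -/
def mk (A : Matrix (Fin 3) (Fin 3) F) (h : A.det = 1) : Matrix.SpecialLinearGroup (Fin 3) F := ⟨A, h⟩

theorem ext3 {g h : SL} (h00 : g.1 0 0 = h.1 0 0) (h01 : g.1 0 1 = h.1 0 1) (h02 : g.1 0 2 = h.1 0 2)
    (h10 : g.1 1 0 = h.1 1 0) (h11 : g.1 1 1 = h.1 1 1) (h12 : g.1 1 2 = h.1 1 2)
    (h20 : g.1 2 0 = h.1 2 0) (h21 : g.1 2 1 = h.1 2 1) (h22 : g.1 2 2 = h.1 2 2) : g = h := by
  apply Subtype.ext
  ext i j
  fin_cases i <;> fin_cases j <;> assumption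

theorem mul_apply3 (g h : SL) (i j : Fin 3) :
    (g * h).1 i j = g.1 i 0 * h.1 0 j + g.1 i 1 * h.1 1 j + g.1 i 2 * h.1 2 j := by
  rw [show (g * h).1 = g.1 * h.1 from rfl, Matrix.mul_apply, Fin.sum_univ_three]

theorem um_mul (s t z s' t' z' : F) : um s t z * um s' t' z' = um (s + s') (t + t') (z + z' + s * t') := by
  apply ext3 <;> rw [mul_apply3] <;> simp only [um, _root_.Fin.isValue, _root_.Matrix.of_apply, _root_.Matrix.cons_val', _root_.Matrix.cons_val_zero, _root_.Matrix.cons_val_fin_one, _root_.mul_one, _root_.Matrix.cons_val_one, _root_.MulZeroClass.mul_zero, _root_.add_zero, _root_.Matrix.cons_val, _root_.one_mul, _root_.MulZeroClass.zero_mul, _root_.zero_add] <;> ring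

theorem um_mul0 (s t z : F) (g : SL) (j : Fin 3) : (um s t z * g).1 0 j = g.1 0 j + s * g.1 1 j + z * g.1 2 j := by
  rw [mul_apply3]
  simp only [um, _root_.Fin.isValue, _root_.Matrix.of_apply, _root_.Matrix.cons_val', _root_.Matrix.cons_val_zero, _root_.Matrix.cons_val_fin_one, _root_.one_mul, _root_.Matrix.cons_val_one, _root_.Matrix.cons_val]

theorem um_mul1 (s t z : F) (g : SL) (j : Fin 3) : (um s t z * g).1 1 j = g.1 1 j + t * g.1 2 j := by
  rw [mul_apply3]
  simp [um]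

theorem um_mul2 (s t z : F) (g : SL) (j : Fin 3) : (um s t z * g).1 2 j = g.1 2 j := by
  rw [mul_apply3]
  simp [um]

theorem um_zero : (um 0 0 0 : SL) = 1 := by
  apply ext3 <;> simp [um]

theorem mem_upper_iff [Finite F] {g : SL} : g ∈ upper 3 F ↔ ∃ s t z, g = um s t z := by
  rw [mem_upper]
  constructor
  · intro h
    refine ⟨g.1 0 1, g.1 1 2, g.1 0 2, ?_⟩
    have h00 := h 0 0 le_rfl
    have h11 := h 1 1 le_rfl
    have h22 := h 2 2 le_rfl
    have h10 := h 1 0 (by decide)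
    have h20 := h 2 0 (by decide)
    have h21 := h 2 1 (by decide)
    simp only [if_true, Fin.reduceEq, if_false] at h00 h11 h22 h10 h20 h21
    apply ext3 <;> simp [um, h00, h11, h22, h10, h20, h21]
  · rintro ⟨s, t, z, rfl⟩ i j hij
    fin_cases i <;> fin_cases j <;> first | (exact absurd hij (by decide)) | simp [um]

/-- upper triangular -/
def IsT (g : SL) : Prop := g.1 1 0 = 0 ∧ g.1 2 0 = 0 ∧ g.1 2 1 = 0

/-- the stabiliser of a point -/
def IsP (g : SL) : Prop := g.1 1 0 = 0 ∧ g.1 2 0 = 0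

/-- the stabiliser of a line -/
def IsL (g : SL) : Prop := g.1 2 0 = 0 ∧ g.1 2 1 = 0

theorem inv3 (g : SL) : (g⁻¹).1 = !![g.1 1 1 * g.1 2 2 - g.1 1 2 * g.1 2 1,
      -(g.1 0 1 * g.1 2 2) + g.1 0 2 * g.1 2 1, g.1 0 1 * g.1 1 2 - g.1 0 2 * g.1 1 1;
    -(g.1 1 0 * g.1 2 2) + g.1 1 2 * g.1 2 0, g.1 0 0 * g.1 2 2 - g.1 0 2 * g.1 2 0,
      -(g.1 0 0 * g.1 1 2) + g.1 0 2 * g.1 1 0;
    g.1 1 0 * g.1 2 1 - g.1 1 1 * g.1 2 0, -(g.1 0 0 * g.1 2 1) + g.1 0 1 * g.1 2 0,
      g.1 0 0 * g.1 1 1 - g.1 0 1 * g.1 1 0] := by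
  have h : (g⁻¹).1 = Matrix.adjugate g.1 := Matrix.SpecialLinearGroup.coe_inv g
  rw [h, Matrix.adjugate_fin_three]

theorem det3 (g : SL) : g.1 0 0 * g.1 1 1 * g.1 2 2 - g.1 0 0 * g.1 1 2 * g.1 2 1 - g.1 0 1 * g.1 1 0 * g.1 2 2 +
    g.1 0 1 * g.1 1 2 * g.1 2 0 + g.1 0 2 * g.1 1 0 * g.1 2 1 - g.1 0 2 * g.1 1 1 * g.1 2 0 = 1 := by
  have := g.2
  rw [Matrix.det_fin_three] at this
  exact this

section sub

variable {M : Subgroup (Matrix.SpecialLinearGroup (Fin 3) F)}

end sub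

section core

variable [Finite F]

theorem mem_U {u : Matrix.ProjectiveSpecialLinearGroup (Fin 3) F} :
    u ∈ (upper 3 F).map pr ↔ ∃ s t z, u = pr (um s t z) := by
  constructor
  · rintro ⟨g, hg, rfl⟩
    obtain ⟨s, t, z, rfl⟩ := mem_upper_iff.1 hg
    exact ⟨s, t, z, rfl⟩
  · rintro ⟨s, t, z, rfl⟩
    exact ⟨_, mem_upper_iff.2 ⟨s, t, z, rfl⟩, rfl⟩

theorem core_point {s z : F} {g : SL} (hg : IsP g) : pr (g * um s 0 z * g⁻¹) ∈ (upper 3 F).map pr := by
  have hd := det3 g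
  obtain ⟨h10, h20⟩ := hg
  rw [h10, h20] at hd
  refine mem_U.2 ⟨g.1 0 0 * g.1 0 0 * (s * g.1 2 2 - z * g.1 2 1), 0, g.1 0 0 * g.1 0 0 * (z * g.1 1 1 - s * g.1 1 2), ?_⟩
  congr 1
  rw [mul_inv_eq_iff_eq_mul]
  apply ext3
  all_goals
    rw [mul_apply3]
    first | rw [um_mul0] | rw [um_mul1] | rw [um_mul2]
    simp only [um, h10, h20, _root_.Fin.isValue, _root_.Matrix.of_apply, _root_.Matrix.cons_val', _root_.Matrix.cons_val_zero, _root_.Matrix.cons_val_fin_one, _root_.mul_one, _root_.Matrix.cons_val_one, _root_.MulZeroClass.mul_zero, _root_.add_zero, _root_.Matrix.cons_val, _root_.MulZeroClass.zero_mul, _root_.zero_add]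
  · linear_combination (-g.1 0 0 * s) * hd
  · linear_combination (-g.1 0 0 * z) * hd

theorem core_line {t z : F} {g : SL} (hg : IsL g) : pr (g * um 0 t z * g⁻¹) ∈ (upper 3 F).map pr := by
  have hd := det3 g
  obtain ⟨h20, h21⟩ := hg
  rw [h20, h21] at hd
  refine mem_U.2 ⟨0, (g.1 0 0 * g.1 1 1 - g.1 0 1 * g.1 1 0) * (g.1 1 0 * z + g.1 1 1 * t),
    (g.1 0 0 * g.1 1 1 - g.1 0 1 * g.1 1 0) * (g.1 0 0 * z + g.1 0 1 * t), ?_⟩
  congr 1
  rw [mul_inv_eq_iff_eq_mul]
  apply ext3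
  all_goals
    rw [mul_apply3]
    first | rw [um_mul0] | rw [um_mul1] | rw [um_mul2]
    simp only [um, h20, h21, _root_.Fin.isValue, _root_.Matrix.of_apply, _root_.Matrix.cons_val', _root_.Matrix.cons_val_zero, _root_.Matrix.cons_val_fin_one, _root_.mul_one, _root_.Matrix.cons_val_one, _root_.MulZeroClass.mul_zero, _root_.add_zero, _root_.Matrix.cons_val, _root_.MulZeroClass.zero_mul, _root_.zero_add]
  · linear_combination (-(g.1 0 0 * z + g.1 0 1 * t)) * hd
  · linear_combination (-(g.1 1 0 * z + g.1 1 1 * t)) * hd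

/-- upper triangular elements normalise `U` -/
theorem mem_normalizer_of_isT {g : SL} (hg : IsT g) :
    pr g ∈ normalizer (((upper 3 F).map pr : Subgroup (Matrix.ProjectiveSpecialLinearGroup (Fin 3) F)) : Set _) := by
  have key : ∀ g : SL, IsT g → ∀ u ∈ (upper 3 F).map pr, pr g * u * (pr g)⁻¹ ∈ (upper 3 F).map pr := by
    rintro g ⟨h10, h20, h21⟩ u hu
    obtain ⟨s, t, z, rfl⟩ := mem_U.1 hu
    have e : um s t z = um s 0 z * um 0 t (-(s * t)) := by
      rw [um_mul]; congr 1 <;> ring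
    rw [e, map_mul]
    have h1 := core_point (s := s) (z := z) (g := g) ⟨h10, h20⟩
    have h2 := core_line (t := t) (z := -(s * t)) (g := g) ⟨h20, h21⟩
    rw [map_mul, map_mul, map_inv] at h1 h2
    have h3 := mul_mem h1 h2
    have e2 : pr g * pr (um s 0 z) * (pr g)⁻¹ * (pr g * pr (um 0 t (-(s * t))) * (pr g)⁻¹) =
        pr g * (pr (um s 0 z) * pr (um 0 t (-(s * t)))) * (pr g)⁻¹ := by group
    rwa [e2] at h3
  have hinv : IsT g⁻¹ := by
    obtain ⟨h10, h20, h21⟩ := hg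
    refine ⟨?_, ?_, ?_⟩ <;> rw [inv3] <;> simp [h10, h20, h21]
  rw [mem_normalizer_iff]
  intro u
  refine ⟨fun hu => key g hg u hu, fun hu => ?_⟩
  have h1 := key g⁻¹ hinv _ hu
  rw [map_inv] at h1
  have e : (pr g)⁻¹ * (pr g * u * (pr g)⁻¹) * (pr g)⁻¹⁻¹ = u := by group
  rwa [e] at h1

end core

end Cfsg.Agent.H265.LQ
end

-- part: H983/Cov/LThree
section
/-!
# The Borel subgroup of `PSL₃(q)` (helper983)

* `pow_eq_one` : the `p`-elements of `PSL₃(q)` have order dividing `p`, `p` odd;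
* `exists_tor` : a Sylow `p`-subgroup normalised by a `p'`-subgroup of order at least `(q - 1)² / 3`.
-/

set_option autoImplicit false

namespace Cfsg.Agent.H983.Cov.L3

open Matrix Subgroup Cfsg.Agent.H265.LQ
open Cfsg.Agent.ClassicalGeometry.AutPSL.Root
open Cfsg.Agent.ClassicalGeometry.AutPSL.SylowU

variable {F : Type*} [Field F]

local notation "SL" => Matrix.SpecialLinearGroup (Fin 3) F
local notation "PSL" => Matrix.ProjectiveSpecialLinearGroup (Fin 3) F

theorem um_pow (s t z : F) (n : ℕ) : (um s t z : SL) ^ n = um (n * s) (n * t) (n * z + (n.choose 2 : ℕ) * (s * t)) := by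
  induction n with
  | zero => simp [um_zero]
  | succ n ih =>
    rw [pow_succ, ih, um_mul, Nat.choose_succ_succ' n 1, Nat.choose_one_right]
    congr 1 <;> push_cast <;> ring

theorem um_pow_p {p : ℕ} [Fact p.Prime] [CharP F p] (h2 : p ≠ 2) (s t z : F) : (um s t z : SL) ^ p = 1 := by
  have hp : p.Prime := Fact.out
  have h3 : 2 < p := by have := hp.two_le; omega
  rw [um_pow, ← um_zero]
  have h1 : ((p : ℕ) : F) = 0 := CharP.cast_eq_zero F p
  have h4 : ((p.choose 2 : ℕ) : F) = 0 := (CharP.cast_eq_zero_iff F p _).2 (hp.dvd_choose_self (by norm_num) h3)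
  rw [h1, h4]
  simp

variable [Fintype F]

/-- **The `p`-elements have order dividing `p`.** -/
theorem pow_eq_one {p : ℕ} [hp : Fact p.Prime] [CharP F p] (h2 : p ≠ 2) {x : PSL} {k : ℕ} (hx : orderOf x = p ^ k) :
    x ^ p = 1 := by
  obtain ⟨S, hS⟩ := exists_sylow 3 (F := F) p
  have hP : IsPGroup p (zpowers x) := IsPGroup.of_card (n := k) (by rw [Nat.card_zpowers, hx])
  obtain ⟨Q, hQ⟩ := hP.exists_le_sylow
  obtain ⟨g, hg⟩ := MulAction.exists_smul_eq PSL Q S
  have h1 : g * x * g⁻¹ ∈ (upper 3 F).map pr := by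
    rw [← hS, ← hg, Sylow.coe_subgroup_smul]
    exact Subgroup.smul_mem_pointwise_smul _ (MulAut.conj g) _ (hQ (mem_zpowers x))
  obtain ⟨s, t, z, h3⟩ := mem_U.1 h1
  have h4 : (g * x * g⁻¹) ^ p = 1 := by
    rw [h3, ← map_pow, um_pow_p h2, map_one]
  rw [conj_pow, mul_inv_eq_one] at h4
  exact mul_eq_left.1 h4

omit [Fintype F] in
theorem dm_det (a b : Fˣ) : (!![(a : F), 0, 0; 0, (b : F), 0; 0, 0, ((a * b)⁻¹ : Fˣ)] : Matrix (Fin 3) (Fin 3) F).det = 1 := by
  rw [Matrix.det_fin_three]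
  simp only [_root_.mul_inv_rev, _root_.Units.val_mul, _root_.Units.val_inv_eq_inv_val, _root_.Fin.isValue, _root_.Matrix.of_apply, _root_.Matrix.cons_val', _root_.Matrix.cons_val_zero, _root_.Matrix.cons_val_fin_one, _root_.Matrix.cons_val_one, _root_.Matrix.cons_val, _root_.MulZeroClass.mul_zero, _root_.sub_zero, _root_.MulZeroClass.zero_mul, _root_.add_zero]
  field_simp

/-- a diagonal matrix -/
def dm (a b : Fˣ) : SL := _root_.Cfsg.Agent.H265.LQ.mk !![(a : F), 0, 0; 0, (b : F), 0; 0, 0, ((a * b)⁻¹ : Fˣ)] (dm_det a b)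

omit [Fintype F] in
theorem dm_val (a b : Fˣ) : (dm a b : SL).1 = !![(a : F), 0, 0; 0, (b : F), 0; 0, 0, ((a * b)⁻¹ : Fˣ)] := rfl

omit [Fintype F] in
theorem dm_mul (a b a' b' : Fˣ) : (dm a b * dm a' b' : SL) = dm (a * a') (b * b') := by
  apply ext3 <;> rw [mul_apply3, dm_val, dm_val, dm_val] <;> simp only [mul_comm, mul_left_comm, mul_assoc, _root_.mul_inv_rev, _root_.Units.val_mul, _root_.Units.val_inv_eq_inv_val, _root_.Fin.isValue, _root_.Matrix.of_apply, _root_.Matrix.cons_val', _root_.Matrix.cons_val_zero, _root_.Matrix.cons_val_fin_one, _root_.Matrix.cons_val_one, _root_.MulZeroClass.mul_zero, _root_.add_zero, _root_.Matrix.cons_val, _root_.zero_add]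

omit [Fintype F] in
theorem dm_one : (dm 1 1 : SL) = 1 := by
  apply ext3 <;> rw [dm_val] <;> simp

/-- the diagonal matrices -/
def dg : Fˣ × Fˣ →* SL where
  toFun x := dm x.1 x.2
  map_one' := dm_one
  map_mul' _ _ := (dm_mul _ _ _ _).symm

omit [Fintype F] in
theorem dg_val (x : Fˣ × Fˣ) :
    (dg x : SL).1 = !![(x.1 : F), 0, 0; 0, (x.2 : F), 0; 0, 0, ((x.1 * x.2)⁻¹ : Fˣ)] := rfl

omit [Fintype F] in
theorem dg_isT (x : Fˣ × Fˣ) : IsT (dg x : SL) := by
  unfold IsT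
  rw [dg_val]
  simp only [_root_.mul_inv_rev, _root_.Units.val_mul, _root_.Units.val_inv_eq_inv_val, _root_.Fin.isValue, _root_.Matrix.of_apply, _root_.Matrix.cons_val', _root_.Matrix.cons_val_zero, _root_.Matrix.cons_val_fin_one, _root_.Matrix.cons_val_one, _root_.Matrix.cons_val, _root_.and_self]

/-- **The torus.** -/
theorem exists_tor {p : ℕ} [hp : Fact p.Prime] [CharP F p] {q : ℕ} (hF : Fintype.card F = q) :
    ∃ (S : Sylow p PSL) (H : Subgroup PSL), Nat.card S = q ^ 3 ∧ H ≤ normalizer ((S : Subgroup PSL) : Set PSL) ∧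
      (Nat.card H).Coprime p ∧ (q - 1) ^ 2 ≤ 3 * Nat.card H := by
  obtain ⟨S, hS⟩ := exists_sylow 3 (F := F) p
  let φ : Fˣ × Fˣ →* PSL := (pr : SL →* PSL).comp dg
  have hcardF : Nat.card (Fˣ × Fˣ) = (q - 1) ^ 2 := by
    rw [Nat.card_prod, Nat.card_units, Nat.card_eq_fintype_card, hF, pow_two]
  have hcard : Nat.card φ.ker * Nat.card φ.range = (q - 1) ^ 2 := by
    have h1 := Subgroup.card_mul_index φ.ker
    rw [Subgroup.index_ker, hcardF] at h1
    exact h1
  have hker : Nat.card φ.ker ≤ 3 := by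
    have h3 : ∀ x ∈ φ.ker, x.1 = x.2 ∧ x.1 ^ 3 = 1 := by
      intro x hx
      have h1 : pr (dg x : SL) = pr (1 : SL) := by rw [map_one]; exact hx
      obtain ⟨c, hc⟩ := exists_smul_of_pr_eq h1
      rw [dg_val] at hc
      have e0 := congrFun (congrFun hc 0) 0
      have e1 := congrFun (congrFun hc 1) 1
      have e2 := congrFun (congrFun hc 2) 2
      simp only [_root_.Fin.isValue, _root_.Matrix.SpecialLinearGroup.coe_one, _root_.Matrix.one_apply_eq, _root_.mul_inv_rev, _root_.Units.val_mul, _root_.Units.val_inv_eq_inv_val, _root_.Matrix.smul_apply, _root_.Matrix.of_apply, _root_.Matrix.cons_val', _root_.Matrix.cons_val_zero, _root_.Matrix.cons_val_fin_one, _root_.smul_eq_mul, _root_.Matrix.cons_val_one, _root_.Matrix.cons_val] at e0 e1 e2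
      have hc0 : c ≠ 0 := by
        rintro rfl
        simp at e0
      have h4 : x.1 = x.2 := by
        apply Units.ext
        exact mul_left_cancel₀ hc0 (e0.symm.trans e1)
      refine ⟨h4, ?_⟩
      rw [← h4] at e2
      have h5 : (x.1 : F) * x.1 * x.1 = 1 := by
        have h6 : (x.1 : F) ≠ 0 := x.1.ne_zero
        have h7 : (x.1 : F) * x.1 = c := by
          field_simp at e2
          linear_combination e2
        rw [h7]
        exact e0.symm
      apply Units.ext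
      rw [Units.val_pow_eq_pow_val, Units.val_one, pow_succ, pow_two]
      exact h5
    classical
    let g : φ.ker → {a : Fˣ // a ^ 3 = 1} := fun x => ⟨x.1.1, (h3 x x.2).2⟩
    have hg : Function.Injective g := by
      intro x y h
      have h1 : x.1.1 = y.1.1 := congrArg Subtype.val h
      apply Subtype.ext
      exact Prod.ext h1 (by rw [← (h3 x x.2).1, ← (h3 y y.2).1, h1])
    refine (Nat.card_le_card_of_injective g hg).trans ?_
    rw [Nat.card_eq_fintype_card, Fintype.card_subtype]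
    exact IsCyclic.card_pow_eq_one_le (by norm_num)
  refine ⟨S, φ.range, ?_, ?_, ?_, ?_⟩
  · rw [hS, card_map_upper, hF]
  · rintro _ ⟨x, rfl⟩
    rw [hS]
    exact mem_normalizer_of_isT (dg_isT x)
  · have h1 : Nat.card φ.range ∣ (q - 1) ^ 2 := hcard ▸ Dvd.intro_left _ rfl
    refine Nat.Coprime.coprime_dvd_left h1 (Nat.Coprime.pow_left 2 ?_)
    rw [Nat.coprime_comm, Nat.Prime.coprime_iff_not_dvd hp.out]
    intro h
    obtain ⟨n, -, hn⟩ := FiniteField.card F p
    rw [hF] at hn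
    have h2 : p ∣ q := by rw [hn]; exact dvd_pow_self p n.ne_zero
    have h3 : 1 ≤ q := by rw [hn]; exact Nat.one_le_pow _ _ hp.out.pos
    have h4 := Nat.dvd_sub h2 h
    rw [Nat.sub_sub_self h3] at h4
    exact hp.out.one_lt.ne' (Nat.dvd_one.1 h4)
  · rw [← hcard]
    exact Nat.mul_le_mul_right _ hker

end Cfsg.Agent.H983.Cov.L3
end

-- part: H983/Cov/Kill
section
/-!
# S2499, `G₂(q)`, `q` odd: the overgroups `L₃(q)` and `U₃(q)` (helper983)

* `kill_l3`, `kill_u3` : the regular unipotent element `u` is not contained in a subgroup `L₃(q)` or `U₃(q)`.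
-/

set_option autoImplicit false

namespace Cfsg.Agent.H983.Cov

open Cfsg Cfsg.Lie Cfsg.Agent.OrdDiv Cfsg.Agent.H436 Cfsg.Agent.H902 Cfsg.Agent.H902.Names Cfsg.Agent.H915.GN
  Cfsg.Agent.H290.ElReg Cfsg.Agent.H264.FKS Cfsg.Agent.H563.KG Cfsg.Agent.H56.Exc
open Cfsg.Agent.H946.Num Cfsg.Agent.H946.Rad Cfsg.Agent.H983.KG2
open Subgroup

variable {p f : ℕ} {T : Type} [Group T] [Finite T] {u : T} {B U : Subgroup T}

/-- conjugation of a `p`-element into a Sylow subgroup of an embedded group -/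
theorem exists_hom {X T : Type*} [Group X] [Finite X] [Group T] {p : ℕ} [hp : Fact p.Prime] (P : Sylow p X)
    (ι : X →* T) (hι : Function.Injective ι) {u : T} {k : ℕ} (hu : orderOf u = p ^ k) (hur : u ∈ ι.range) :
    ∃ φ : X →* T, Function.Injective φ ∧ u ∈ (P : Subgroup X).map φ := by
  obtain ⟨x, rfl⟩ := hur
  rw [orderOf_injective ι hι] at hu
  have hP : IsPGroup p (zpowers x) := IsPGroup.of_card (n := k) (by rw [Nat.card_zpowers, hu])
  obtain ⟨Q, hQ⟩ := hP.exists_le_sylow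
  obtain ⟨g, hg⟩ := MulAction.exists_smul_eq X Q P
  have h1 : g * x * g⁻¹ ∈ (P : Subgroup X) := by
    rw [← hg, Sylow.coe_subgroup_smul]
    exact Subgroup.smul_mem_pointwise_smul _ (MulAut.conj g) _ (hQ (mem_zpowers x))
  refine ⟨ι.comp (MulAut.conj g⁻¹).toMonoidHom, hι.comp (MulAut.conj g⁻¹).injective, g * x * g⁻¹, h1, ?_⟩
  change ι (g⁻¹ * (g * x * g⁻¹) * g⁻¹⁻¹) = ι x
  congr 1
  group

/-- a `p'`-element normalising a `p`-subgroup containing `u` has order dividing `q - 1` -/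
theorem RU.pow_eq_one (R : RU (p ^ f) p u B U) (hp : p.Prime) (hf : 1 ≤ f) (hT : Nat.card T = OL .G2 (p ^ f))
    {P : Subgroup T} (hP : IsPGroup p P) (hu : u ∈ P) {h : T} (hh : h * u * h⁻¹ ∈ P) (ho : (orderOf h).Coprime p) :
    h ^ (p ^ f - 1) = 1 := by
  have hB : h ∈ B := R.mem_B hp hf hT hP hu hh
  have h1 := R.expo h hB
  obtain ⟨k, hk⟩ := R.isP ⟨_, h1⟩
  have h2 : (h ^ (p ^ f - 1)) ^ p ^ k = 1 := congrArg Subtype.val hk
  have h3 : orderOf (h ^ (p ^ f - 1)) ∣ p ^ k := orderOf_dvd_of_pow_eq_one h2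
  have h4 : orderOf (h ^ (p ^ f - 1)) ∣ orderOf h := orderOf_pow_dvd _
  have h5 : Nat.Coprime (orderOf (h ^ (p ^ f - 1))) (p ^ k) := Nat.Coprime.coprime_dvd_left h4 (ho.pow_right k)
  exact orderOf_eq_one_iff.1 (Nat.Coprime.eq_one_of_dvd h5 h3)

/-- **`L₃(q)`.** -/
theorem kill_l3 (R : RU (p ^ f) p u B U) (hp : p.Prime) (h2 : p ≠ 2) (hf : 1 ≤ f)
    (hT : Nat.card T = OL .G2 (p ^ f)) {F : Type} [Field F] [Fintype F] (hF : Fintype.card F = p ^ f)
    {ι : Matrix.ProjectiveSpecialLinearGroup (Fin 3) F →* T} (hι : Function.Injective ι) (hur : u ∈ ι.range) :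
    False := by
  have i1 := Fact.mk hp
  have i2 : CharP F p := charP_of_pow hp hF
  obtain ⟨k, hk⟩ := R.order hp
  by_cases h5 : p ≤ 5
  · apply R.ord h5
    obtain ⟨x, rfl⟩ := hur
    rw [orderOf_injective ι hι] at hk
    rw [← map_pow, L3.pow_eq_one h2 hk, map_one]
  · have h7 : 7 ≤ p := by
      by_contra h7
      have : p = 6 := by omega
      rw [this] at hp
      revert hp
      decide
    obtain ⟨S, H, hS, hH, hHp, hHc⟩ := L3.exists_tor (F := F) (p := p) hF
    obtain ⟨φ, hφ, huS⟩ := exists_hom S ι hι hk hur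
    have hP : IsPGroup p ↥((S : Subgroup _).map φ) := S.isPGroup'.map φ
    have hle : (S : Subgroup _).map φ ≤ U := R.le_U hp hf hT hP huS
    have hn : ∀ h ∈ H.map φ, ∀ x ∈ (S : Subgroup _).map φ, h * x * h⁻¹ ∈ (S : Subgroup _).map φ := by
      rintro _ ⟨h, hh, rfl⟩ _ ⟨x, hx, rfl⟩
      refine ⟨h * x * h⁻¹, ?_, by rw [map_mul, map_mul, map_inv]⟩
      exact (mem_normalizer_iff.1 (hH hh) x).1 hx
    have hB : H.map φ ≤ B := fun h hh => R.mem_B hp hf hT hP huS (hn h hh u huS)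
    have hc : Nat.card ↥(H.map φ) = Nat.card H := Subgroup.card_map_of_injective hφ
    have h8 := R.frat h7 _ hle huS (H.map φ) hB (by rw [hc]; exact hHp) hn (by rw [hc]; exact hHc)
    have h9 : Nat.card ↥((S : Subgroup _).map φ) = (p ^ f) ^ 3 := by
      rw [Subgroup.card_map_of_injective hφ]
      exact hS
    rw [h8, R.cardU] at h9
    have hq : 1 < p ^ f := Nat.one_lt_pow (by omega) hp.one_lt
    have h10 := Nat.pow_right_injective hq h9
    norm_num at h10

/-- **`U₃(q)`.** -/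
theorem kill_u3 (R : RU (p ^ f) p u B U) (hp : p.Prime) (h2 : p ≠ 2) (hf : 1 ≤ f) (h3q : 3 ≤ p ^ f)
    (hT : Nat.card T = OL .G2 (p ^ f)) {F : Type} [Field F] [Fintype F] (hF : Fintype.card F = (p ^ f) ^ 2)
    {ι : Cfsg.PSU 3 F (p ^ f) →* T} (hι : Function.Injective ι) (hur : u ∈ ι.range) : False := by
  have i1 := Fact.mk hp
  have i2 : CharP F p := charP_of_pow hp (a := f * 2) (by rw [hF, ← pow_mul])
  obtain ⟨k, hk⟩ := R.order hp
  obtain ⟨P, t, hP, -, -, hPi, hPt, hto, ht1⟩ := U3.exists_tor (F := F) (p := p) (q := p ^ f) h2 hF (by omega)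
  obtain ⟨φ, hφ, huS⟩ := exists_hom (hP.toSylow hPi) ι hι hk hur
  have huP : u ∈ P.map φ := huS
  have h1 : φ t * u * (φ t)⁻¹ ∈ P.map φ := by
    obtain ⟨x, hx, hxu⟩ := huP
    exact ⟨t * x * t⁻¹, hPt x hx, by rw [map_mul, map_mul, map_inv, hxu]⟩
  have h3 := R.pow_eq_one hp hf hT (hP.map φ) huP h1 (by rw [orderOf_injective φ hφ]; exact hto)
  apply ht1
  apply hφ
  rw [map_pow, h3, map_one]

end Cfsg.Agent.H983.Cov
end

-- part: H983/Cov/Core
section
/-!
# S2499, `G₂(q)`, `q` odd: the overgroups of `{y, u}`: common part (helper983)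
-/

set_option autoImplicit false

namespace Cfsg.Agent.H983.Cov

open Cfsg Cfsg.Lie Cfsg.Agent.OrdDiv Cfsg.Agent.H436 Cfsg.Agent.H902 Cfsg.Agent.H902.Names Cfsg.Agent.H915.GN
  Cfsg.Agent.H290.ElReg Cfsg.Agent.H264.FKS Cfsg.Agent.H563.KG Cfsg.Agent.H56.Exc
open Cfsg.Agent.H946.Num Cfsg.Agent.H946.Rad Cfsg.Agent.H983.KG2
open Subgroup

variable {p f N c : ℕ} {T : Type} [Group T] [Finite T] {u y : T} {B U : Subgroup T}

/-- the facts on the simple normal subgroup `S` of an overgroup `M` of `{y, u}` -/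
structure Core (f p N c : ℕ) (u : T) (M : Subgroup T) (S : Subgroup M) (g : Grp) : Prop where
  nm : S.Normal
  simp : IsSimpleGroup S
  named : IsNamed g S
  na : ¬ ∀ a b : S, a * b = b * a
  cS : c ∣ Nat.card S
  i18 : S.index ∣ 18
  z : ∃ z : S, orderOf z = c
  big : ∀ r, r.Prime → r ∣ c → Big S r N 6
  cnt : N = c → ∀ r, r.Prime → r ∣ c → ∃ e n, S.index * e ∣ 6 ∧ e ≠ 0 ∧ Nat.card S = n * (e * N) ∧ n ≡ 1 [MOD r]
  dvd : Nat.card S ∣ OL .G2 (p ^ f)
  /-- `u` is the image of an element of `S` if the index is prime to `p` -/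
  uS : S.index.Coprime p → ∃ v : S, ((v : M) : T) = u
  uM : ∃ v : M, (v : T) = u

theorem ClsD.core (hnm : ∀ (S : Type) [Group S] [Finite S] [IsSimpleGroup S], ¬ IsMulCommutative S → ∃ g, IsNamed g S)
    (D : ClsD T p N c) (R : RU (p ^ f) p u B U) (hf : 1 ≤ f) (h3q : 3 ≤ p ^ f)
    (hT : Nat.card T = OL .G2 (p ^ f)) {M : Subgroup T} (hyo : orderOf y = N) (hyM : y ∈ M) (huM : u ∈ M)
    (hE : NoEl p c M) : ∃ (S : Subgroup M) (g : Grp), Core f p N c u M S g := by
  have hc0 : c ≠ 0 := fun h => by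
    subst h
    have h1 := D.seven 2 Nat.prime_two (dvd_zero _)
    norm_num at h1
  have hN0 : N ≠ 0 := by
    intro h
    have h1 := D.Nc
    rw [h] at h1
    have h2 := Nat.eq_zero_of_zero_dvd h1
    omega
  have hyM' : orderOf (⟨y, hyM⟩ : M) = N := by rw [Subgroup.orderOf_mk, hyo]
  have hcM : c ∣ Nat.card M := D.cN.trans (hyM' ▸ _root_.orderOf_dvd_natCard _)
  obtain ⟨S, hSn, hSs, hna, -, hcS, hi, hir⟩ := D.struct hcM hE (R.sep D.hp D.h2 hf h3q hT huM D.pN)
  obtain ⟨g, hg⟩ := hnm S hna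
  have hcop : Nat.Coprime c S.index := Nat.coprime_of_dvd fun k hk h1 h2 => hir k hk h1 h2
  obtain ⟨k, hk⟩ := R.order D.hp
  have hzo : orderOf ((⟨y, hyM⟩ : M) ^ (N / c)) = c := by
    rw [orderOf_pow_of_dvd (Nat.div_pos (Nat.le_of_dvd (Nat.pos_of_ne_zero hN0) D.cN) (Nat.pos_of_ne_zero hc0)).ne'
      (by rw [hyM']; exact Nat.div_dvd_of_dvd D.cN), hyM', Nat.div_div_self D.cN hN0]
  have hzS : (⟨y, hyM⟩ : M) ^ (N / c) ∈ S := mem_of_coprime_index (by rw [hzo]; exact hcop)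
  refine ⟨S, g, hSn, hSs, hg, fun h => hna ⟨⟨h⟩⟩, hcS, (index_dvd_six D.cN D.Nc hi hir hc0).2, ⟨⟨_, hzS⟩, ?_⟩,
    fun r hr hrc => ((D.big r hr hrc).subgroup M).subgroup S, ?_, ?_, ?_, ⟨⟨u, huM⟩, rfl⟩⟩
  · rw [Subgroup.orderOf_mk]
    exact hzo
  · intro hNc r hr hrc
    have hyS : (⟨y, hyM⟩ : M) ∈ S := mem_of_coprime_index (by rw [hyM', hNc]; exact hcop)
    exact index_mul ((D.big r hr hrc).subgroup M) (y := ⟨_, hyS⟩) (by rw [Subgroup.orderOf_mk, hyM'])
      (hrc.trans D.cN) hN0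
  · rw [← hT]
    exact (Subgroup.card_subgroup_dvd_card S).trans (Subgroup.card_subgroup_dvd_card M)
  · intro hco
    have huS : (⟨u, huM⟩ : M) ∈ S := mem_of_coprime_index (by
      rw [Subgroup.orderOf_mk, hk]
      exact (hco.pow_right k).symm)
    exact ⟨⟨_, huS⟩, rfl⟩

variable {M : Subgroup T} {S : Subgroup M} {g : Grp}

/-- the inclusion of `S` -/
def inc (S : Subgroup M) : S →* T := M.subtype.comp S.subtype

omit [Finite T] in
theorem inc_inj (S : Subgroup M) : Function.Injective (inc S) := M.subtype_injective.comp S.subtype_injective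

/-- `L₃(q)` -/
theorem Core.no_l3 (C : Core f p N c u M S g) (R : RU (p ^ f) p u B U) (hp : p.Prime) (h2 : p ≠ 2) (hf : 1 ≤ f)
    (hT : Nat.card T = OL .G2 (p ^ f)) (hg : g = .psl 3 (p ^ f)) (hi : S.index.Coprime p) : False := by
  subst hg
  obtain ⟨F, _, _, hF, ⟨e⟩⟩ := C.named.real
  obtain ⟨v, hv⟩ := C.uS hi
  refine kill_l3 R hp h2 hf hT hF (ι := (inc S).comp e.symm.toMonoidHom) ((inc_inj S).comp e.symm.injective) ?_
  exact ⟨e v, by change inc S (e.symm (e v)) = u; rw [e.symm_apply_apply]; exact hv⟩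

/-- `U₃(q)` -/
theorem Core.no_u3 (C : Core f p N c u M S g) (R : RU (p ^ f) p u B U) (hp : p.Prime) (h2 : p ≠ 2) (hf : 1 ≤ f)
    (h3q : 3 ≤ p ^ f) (hT : Nat.card T = OL .G2 (p ^ f)) (hg : g = .psu 3 (p ^ f)) (hi : S.index.Coprime p) :
    False := by
  subst hg
  obtain ⟨F, _, _, hF, ⟨e⟩⟩ := C.named.real
  obtain ⟨v, hv⟩ := C.uS hi
  refine kill_u3 R hp h2 hf h3q hT hF (ι := (inc S).comp e.symm.toMonoidHom) ((inc_inj S).comp e.symm.injective) ?_
  exact ⟨e v, by change inc S (e.symm (e v)) = u; rw [e.symm_apply_apply]; exact hv⟩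

/-- the index is prime to `p ≥ 5` -/
theorem Core.coprime (C : Core f p N c u M S g) (hp : p.Prime) (h5 : 5 ≤ p) : S.index.Coprime p := by
  rw [Nat.coprime_comm, hp.coprime_iff_not_dvd]
  intro h
  have h1 : p ∣ 2 * (3 * 3) := h.trans C.i18
  have k2 : ¬ p ∣ 2 := fun h => by have := Nat.le_of_dvd (by norm_num) h; omega
  have k3 : ¬ p ∣ 3 := fun h => by have := Nat.le_of_dvd (by norm_num) h; omega
  rcases hp.dvd_mul.1 h1 with h | h
  · exact k2 h
  · rcases hp.dvd_mul.1 h with h | h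
    · exact k3 h
    · exact k3 h

end Cfsg.Agent.H983.Cov
end

-- part: H983/Cov/CntNum
section
/-!
# S2499, `G₂(q)`, `q` odd: counting the conjugates of a torus in `L₃(q)` and `U₃(q)` (helper983)
-/

set_option autoImplicit false

namespace Cfsg.Agent.H983.Cov

open Cfsg Cfsg.Agent.OrdDiv Cfsg.Agent.H436
open Cfsg.Agent.H946.Num Cfsg.Agent.H946.Rad Cfsg.Agent.H983.KG2

theorem six_cases {i e : ℕ} (h : i * e ∣ 6) (r : ℕ) (h7 : 7 ≤ r) (he : (r : ℤ) ∣ (e : ℤ) - 3) : i ∣ 2 := by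
  have he6 : e ≤ 6 := Nat.le_of_dvd (by norm_num) ((Dvd.intro_left i rfl).trans h)
  have h3 : e = 3 := by
    obtain ⟨k, hk⟩ := he
    have hk0 : k = 0 := by
      by_contra hne
      rcases lt_or_gt_of_ne hne with h1 | h1
      · have h2 : (r : ℤ) * k ≤ (r : ℤ) * (-1) := by
          apply mul_le_mul_of_nonneg_left <;> omega
        omega
      · have h2 : (r : ℤ) * 1 ≤ (r : ℤ) * k := by
          apply mul_le_mul_of_nonneg_left <;> omega
        omega
    rw [hk0, mul_zero] at hk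
    omega
  subst h3
  have h4 : i * 3 ∣ 2 * 3 := h
  exact Nat.dvd_of_mul_dvd_mul_right (by norm_num) h4

theorem cnt_l3 {q n e C r i : ℕ} (hq : 3 ≤ q) (h3 : q % 3 = 0)
    (hnum : den (.psl 3 q) * C = num (.psl 3 q)) (hS : C = n * (e * N3 q)) (hn : n ≡ 1 [MOD r])
    (hr : r ∣ N3 q) (h7 : 7 ≤ r) (hi : i * e ∣ 6) : i ∣ 2 := by
  have hg : Nat.gcd 3 (q - 1) = 1 := by
    rw [Nat.Coprime.eq_1 3 (q - 1) |>.symm]
    rw [Nat.prime_three.coprime_iff_not_dvd]
    omega
  have hnum' : Nat.gcd 3 (q - 1) * (q - 1) * C = (q ^ 3 - q ^ 0) * ((q ^ 3 - q ^ 1) * ((q ^ 3 - q ^ 2) * 1)) := hnum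
  rw [hg, one_mul, pow_zero, pow_one, mul_one, hS] at hnum'
  have l1 : 1 ≤ q ^ 3 := Nat.one_le_pow _ _ (by omega)
  have l2 : q ≤ q ^ 3 := Nat.le_self_pow (by norm_num) q
  have l3 : q ^ 2 ≤ q ^ 3 := Nat.pow_le_pow_right (by omega) (by norm_num)
  have l4 : 1 ≤ q := by omega
  have hz : ((q : ℤ) - 1) * ((n : ℤ) * (e * (q ^ 2 + q + 1))) = (q ^ 3 - 1) * ((q ^ 3 - q) * (q ^ 3 - q ^ 2)) := by
    have := congrArg (Nat.cast : ℕ → ℤ) hnum'
    unfold N3 at this
    push_cast [Nat.cast_sub l1, Nat.cast_sub l2, Nat.cast_sub l3, Nat.cast_sub l4] at this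
    exact this
  have hq1 : ((q : ℤ) - 1) * (q ^ 2 + q + 1) ≠ 0 := by
    apply mul_ne_zero
    · omega
    · positivity
  have hz2 : (n : ℤ) * e = (q ^ 3 - q) * (q ^ 3 - q ^ 2) := by
    apply mul_left_cancel₀ hq1
    linear_combination hz
  apply six_cases hi r h7
  have hr' : (r : ℤ) ∣ (q : ℤ) ^ 2 + q + 1 := by
    have := Int.natCast_dvd_natCast.2 hr
    unfold N3 at this
    push_cast at this
    exact this
  have hn' : (r : ℤ) ∣ (n : ℤ) - 1 := by
    have := (Nat.modEq_iff_dvd.1 hn.symm)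
    push_cast at this
    exact this
  have e1 : (e : ℤ) - 3 = -(((n : ℤ) - 1) * e) + ((q : ℤ) ^ 2 + q + 1) * (q ^ 4 - 2 * q ^ 3 + 3 * q - 3) := by
    linear_combination hz2
  rw [e1]
  exact dvd_add (dvd_neg.2 (hn'.mul_right _)) (hr'.mul_right _)

theorem cnt_u3 {q n e C r i : ℕ} (hq : 3 ≤ q) (h3 : q % 3 = 0)
    (hnum : den (.psu 3 q) * C = num (.psu 3 q)) (hS : C = n * (e * N6 q)) (hn : n ≡ 1 [MOD r])
    (hr : r ∣ N6 q) (h7 : 7 ≤ r) (hi : i * e ∣ 6) : i ∣ 2 := by
  have hg : Nat.gcd 3 (q + 1) = 1 := by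
    rw [Nat.Coprime.eq_1 3 (q + 1) |>.symm]
    rw [Nat.prime_three.coprime_iff_not_dvd]
    omega
  have hnum' : Nat.gcd 3 (q + 1) * (q + 1) * C = q ^ 3 * ((q ^ 1 + 1) * ((q ^ 2 - 1) * ((q ^ 3 + 1) * 1))) := hnum
  rw [hg, one_mul, pow_one, mul_one, hS] at hnum'
  have l1 : 1 ≤ q ^ 2 := Nat.one_le_pow _ _ (by omega)
  have hN := cast_N6 q
  have hz : ((q : ℤ) + 1) * ((n : ℤ) * (e * (q ^ 2 - q + 1))) = q ^ 3 * ((q + 1) * ((q ^ 2 - 1) * (q ^ 3 + 1))) := by
    have := congrArg (Nat.cast : ℕ → ℤ) hnum'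
    push_cast [Nat.cast_sub l1, hN] at this
    exact this
  have hq1 : ((q : ℤ) + 1) * (q ^ 2 - q + 1) ≠ 0 := by
    apply mul_ne_zero
    · omega
    · rw [← hN]
      have h1 : (3 : ℤ) ≤ q := by exact_mod_cast hq
      have h2 : (0 : ℤ) < (N6 q : ℕ) := by rw [hN]; nlinarith only []
      exact h2.ne'
  have hz2 : (n : ℤ) * e = q ^ 3 * ((q ^ 2 - 1) * (q + 1)) := by
    apply mul_left_cancel₀ hq1
    linear_combination hz
  apply six_cases hi r h7
  have hr' : (r : ℤ) ∣ (q : ℤ) ^ 2 - q + 1 := by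
    have := Int.natCast_dvd_natCast.2 hr
    rwa [hN] at this
  have hn' : (r : ℤ) ∣ (n : ℤ) - 1 := by
    have := (Nat.modEq_iff_dvd.1 hn.symm)
    push_cast at this
    exact this
  have e1 : (e : ℤ) - 3 = -(((n : ℤ) - 1) * e) + ((q : ℤ) ^ 2 - q + 1) * (q ^ 4 + 2 * q ^ 3 - 3 * q - 3) := by
    linear_combination hz2
  rw [e1]
  exact dvd_add (dvd_neg.2 (hn'.mul_right _)) (hr'.mul_right _)

/-- if `3 ∣ q` the tori have order prime to 3 -/
theorem N3_eq {q : ℕ} (h : q % 3 = 0) : N3 q = c3 q := by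
  have h1 := c3_mul q
  have h2 : Nat.gcd 3 (N3 q) = 1 := by
    rw [← Nat.coprime_iff_gcd_eq_one, Nat.prime_three.coprime_iff_not_dvd]
    intro h3
    unfold N3 at h3
    have h4 := Nat.mod_eq_zero_of_dvd h3
    rw [Nat.add_mod, Nat.add_mod (q ^ 2), Nat.pow_mod, h] at h4
    norm_num at h4
  rw [h2, one_mul] at h1
  exact h1.symm

theorem N6_eq {q : ℕ} (h : q % 3 = 0) : N6 q = c6 q := by
  have h1 := c6_mul q
  have h2 : Nat.gcd 3 (N6 q) = 1 := by
    rw [← Nat.coprime_iff_gcd_eq_one, Nat.prime_three.coprime_iff_not_dvd]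
    intro h3
    have h4 : (3 : ℤ) ∣ (N6 q : ℕ) := by exact_mod_cast h3
    rw [cast_N6] at h4
    have h5 : (3 : ℤ) ∣ (q : ℤ) := by
      have : 3 ∣ q := Nat.dvd_of_mod_eq_zero h
      exact_mod_cast this
    have h6 : (3 : ℤ) ∣ (q : ℤ) ^ 2 - q := by
      have : (q : ℤ) ^ 2 - q = q * (q - 1) := by ring
      rw [this]
      exact h5.mul_right _
    have h7 := (Int.dvd_add_right h6).1 h4
    norm_num at h7
  rw [h2, one_mul] at h1
  exact h1.symm

end Cfsg.Agent.H983.Cov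
end

-- part: H983/Cov/IncThree
section
/-!
# S2499, `G₂(q)`, `q` odd: the overgroups of `{y, u}`, `y` of order `q² + q + 1` (helper983)

* `inc3` : no proper subgroup contains an element `y` of order `q² + q + 1` and the regular unipotent element `u`.
-/

set_option autoImplicit false

namespace Cfsg.Agent.H983.Cov

open Cfsg Cfsg.Lie Cfsg.Agent.OrdDiv Cfsg.Agent.H436 Cfsg.Agent.H902 Cfsg.Agent.H902.Names Cfsg.Agent.H915.GN
  Cfsg.Agent.H290.ElReg Cfsg.Agent.H264.FKS Cfsg.Agent.H563.KG Cfsg.Agent.H56.Exc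
open Cfsg.Agent.H946.Num Cfsg.Agent.H946.Rad Cfsg.Agent.H983.KG2
open Subgroup

/-- the element orders of `G₂(q₀)` -/
def KillG2 : Prop := ∀ {p a : ℕ} {S : Type} [Group S] [Finite S], p.Prime → p ≠ 2 → 1 ≤ a →
  IsNamed (.g2 (p ^ a)) S → ∀ z : S, orderOf z ≠ c3 (p ^ (2 * a))

/-- the element orders of `L₂(q₀³)` -/
def KillL2 : Prop := ∀ {p a : ℕ} {S : Type} [Group S] [Finite S], p.Prime → p ≠ 2 → 1 ≤ a →
  IsNamed (.psl 2 (p ^ (3 * a))) S → ∀ z : S, orderOf z ≠ c3 (p ^ (2 * a))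

/-- the element orders of `²G₂(q)` -/
def KillRee : Prop := ∀ {f : ℕ} {S : Type} [Group S] [Finite S], 1 ≤ f →
  IsNamed (.ree (3 ^ f)) S → ∀ z : S, orderOf z ≠ c6 (3 ^ f)

variable {p f : ℕ} {T : Type} [Group T] [Finite T] {u y : T} {B U : Subgroup T} {M : Subgroup T}

/-- the condition on elementary abelian normal subgroups, class 3 -/
theorem noEl3 (D : ClsD T p (N3 (p ^ f)) (c3 (p ^ f))) (R : RU (p ^ f) p u B U) (hf : 1 ≤ f)
    (h3q : 3 ≤ p ^ f) (hT : Nat.card T = OL .G2 (p ^ f)) (hyo : orderOf y = N3 (p ^ f)) (hyM : y ∈ M)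
    (huM : u ∈ M) : NoEl p (c3 (p ^ f)) M := by
  obtain ⟨k, hk⟩ := R.order D.hp
  have ho := odd_of (f := f) D.hp D.h2
  by_cases h : 14 < c3 (p ^ f)
  · exact D.noEl h (y := ⟨y, hyM⟩) (u := ⟨u, huM⟩) (by rw [Subgroup.orderOf_mk, hyo])
      (by rw [Subgroup.orderOf_mk, hk]) (R.cent_sub huM)
  · have h1 := le_c3 (p ^ f)
    have h7 : p ^ f < 7 := by
      by_contra h7
      have : 7 ^ 2 ≤ (p ^ f) ^ 2 := Nat.pow_le_pow_left (by omega) 2
      omega
    have h5 : p ^ f ≠ 5 := by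
      intro h5
      rw [h5] at h
      exact h (by decide)
    have h3 : p ^ f = 3 := by omega
    obtain ⟨hp3, -⟩ : p = 3 ∧ f = 1 := by
      have hd : p ∣ 3 := by rw [← h3]; exact dvd_pow_self p (by omega)
      have hp3 := (Nat.prime_dvd_prime_iff_eq D.hp Nat.prime_three).1 hd
      subst hp3
      exact ⟨rfl, by
        have := Nat.pow_right_injective (le_refl 2 |>.trans (by norm_num : 2 ≤ 3)) (h3.trans (pow_one 3).symm)
        exact this⟩
    subst hp3
    rw [h3] at D hT hyo ⊢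
    have e1 : N3 3 = 13 := by decide
    have e2 : c3 3 = 13 := by decide
    rw [e1, e2] at D
    rw [e1] at hyo
    rw [e2]
    refine noEl_three D ?_ (y := ⟨y, hyM⟩) (by rw [Subgroup.orderOf_mk, hyo])
    rw [hT]
    decide

omit [Finite T] in
/-- no sporadic group -/
theorem Core.no_spor3 {S : Subgroup M} {g : Grp} (C : Core f p (N3 (p ^ f)) (c3 (p ^ f)) u M S g) (hp : p.Prime)
    (h2 : p ≠ 2) (h3q : 3 ≤ p ^ f) (hsp : (g, ordN g) ∈ spor) : False := by
  have h1 : Nat.card S = ordN g := C.named.ord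
  have hcS := C.cS
  have hd := C.dvd
  rw [h1] at hcS hd
  obtain ⟨h11, h12⟩ := spor3 hsp h3q (odd_of hp h2) hcS hd
  have h12' : Nat.card S = 175560 := h1.trans h12
  have hN : N3 (p ^ f) = c3 (p ^ f) := by rw [h11]; decide
  obtain ⟨e, n, hie, he0, hc, hn⟩ := C.cnt hN 19 (by norm_num) (by rw [h11]; decide)
  have he6 : e ∣ 6 := (Dvd.intro_left _ rfl).trans hie
  have he : e ≤ 6 := Nat.le_of_dvd (by norm_num) he6
  have hn' : n % 19 = 1 := hn
  have e1 : N3 11 = 133 := by decide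
  rw [h12', h11, e1] at hc
  have he1 : 1 ≤ e := Nat.one_le_iff_ne_zero.2 he0
  interval_cases e <;> (clear * - hn' hc; omega)

/-- cross characteristic -/
theorem Core.no_cross3 {S : Subgroup M} {g : Grp} (C : Core f p (N3 (p ^ f)) (c3 (p ^ f)) u M S g)
    (R : RU (p ^ f) p u B U) (hp : p.Prime) (h2 : p ≠ 2) (hf : 1 ≤ f) (hF : ∃ (F : Type) (_ : Field F) (_ : CharP F p), Fth 14 F T)
    {l : ℕ} (hl : l.Prime) (hpl : p ≠ l) (hch : HasChar l g) : False := by
  obtain ⟨X, f₁, h1, h2', -⟩ := exists_lie hl C.named hch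
  obtain ⟨F, _, hcF, hFth⟩ := hF
  have hlF : (l : F) ≠ 0 := by
    intro h
    exact hpl ((Nat.prime_dvd_prime_iff_eq hp hl).1 ((CharP.cast_eq_zero_iff F p l).1 h))
  have := C.simp
  have h3 := lb_le C.na (by norm_num) ((hFth.sub M.subtype M.subtype_injective).sub S.subtype S.subtype_injective)
    h1 C.named.real h2' hlF
  rcases cross3 h2' h3 hp h2 hf hpl C.cS C.dvd with ⟨h3', rfl, rfl, rfl⟩ | ⟨h9, ⟨rfl, rfl, rfl⟩ | ⟨rfl, rfl, rfl⟩⟩
  · -- `q = 3`, `L₂(13)`
    have hgr : OrdDiv.Real (.psl 2 13) S := by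
      have hgr := C.named.real
      cases h1
      simpa using hgr
    obtain ⟨-, hcard⟩ := aut13 hgr
    have hN : N3 (p ^ f) = c3 (p ^ f) := by rw [h3']; decide
    obtain ⟨e, n, hie, he0, hc, hn⟩ := C.cnt hN 13 (by norm_num) (by rw [h3']; decide)
    have he6 : e ∣ 6 := (Dvd.intro_left _ rfl).trans hie
    have he : e ≤ 6 := Nat.le_of_dvd (by norm_num) he6
    have hn' : n % 13 = 1 := hn
    have e1 : N3 3 = 13 := by decide
    rw [hcard, h3', e1] at hc
    have he1 : 1 ≤ e := Nat.one_le_iff_ne_zero.2 he0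
    have he' : e = 6 := by
      interval_cases e
      · omega
      · omega
      · omega
      · omega
      · omega
      · rfl
    subst he'
    have hi1 : S.index = 1 := by
      have h4 : S.index * 6 ∣ 1 * 6 := hie
      exact Nat.dvd_one.1 (Nat.dvd_of_mul_dvd_mul_right (by norm_num) h4)
    obtain ⟨v, hv⟩ := C.uS (by rw [hi1]; exact Nat.coprime_one_left p)
    have hp3 : p = 3 := by
      have hd : p ∣ 3 := by rw [← h3']; exact dvd_pow_self p (by omega)
      exact (Nat.prime_dvd_prime_iff_eq hp Nat.prime_three).1 hd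
    obtain ⟨k, hk⟩ := R.order hp
    have hvo : orderOf v = p ^ k := by
      rw [← hk, ← hv, Subgroup.orderOf_coe, Subgroup.orderOf_coe]
    have h5 : p ^ k ∣ 1092 := by
      rw [← hvo, ← hcard]
      exact _root_.orderOf_dvd_natCard v
    rw [hp3] at h5 hk
    have hk1 : k ≤ 1 := by
      by_contra hcon
      have h6 : 3 ^ 2 ∣ 1092 := (pow_dvd_pow 3 (by omega)).trans h5
      norm_num at h6
    apply R.ord (by omega)
    rw [hp3]
    have h7 : 3 ^ k ∣ 3 ^ 1 := pow_dvd_pow 3 hk1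
    rw [pow_one] at h7
    exact orderOf_dvd_iff_pow_eq_one.1 (hk ▸ h7)
  · -- `q = 9`, `L₂(13)`
    have hgr : OrdDiv.Real (.psl 2 13) S := by
      have hgr := C.named.real
      cases h1
      simpa using hgr
    obtain ⟨-, hcard⟩ := aut13 hgr
    have hN : N3 (p ^ f) = c3 (p ^ f) := by rw [h9]; decide
    obtain ⟨e, n, hie, he0, hc, hn⟩ := C.cnt hN 13 (by norm_num) (by rw [h9]; decide)
    have he6 : e ∣ 6 := (Dvd.intro_left _ rfl).trans hie
    have he : e ≤ 6 := Nat.le_of_dvd (by norm_num) he6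
    have hn' : n % 13 = 1 := hn
    have e1 : N3 9 = 91 := by decide
    rw [hcard, h9, e1] at hc
    have he1 : 1 ≤ e := Nat.one_le_iff_ne_zero.2 he0
    interval_cases e <;> (clear * - hn' hc; omega)
  · -- `q = 9`, `Sz(8)`
    have hcard : Nat.card S = 29120 := by
      have h4 := h2'.eq
      have e1 : Art.dd .Sz (2 ^ 3) = 1 := by decide
      have e2 : (2 ^ 3) ^ Art.NN .Sz * Art.num .Sz (2 ^ 3) = 29120 := by decide
      rw [e1, e2, one_mul] at h4
      exact h4
    have hN : N3 (p ^ f) = c3 (p ^ f) := by rw [h9]; decide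
    obtain ⟨e, n, hie, he0, hc, hn⟩ := C.cnt hN 13 (by norm_num) (by rw [h9]; decide)
    have he6 : e ∣ 6 := (Dvd.intro_left _ rfl).trans hie
    have he : e ≤ 6 := Nat.le_of_dvd (by norm_num) he6
    have hn' : n % 13 = 1 := hn
    have e1 : N3 9 = 91 := by decide
    rw [hcard, h9, e1] at hc
    have he1 : 1 ≤ e := Nat.one_le_iff_ne_zero.2 he0
    interval_cases e <;> (clear * - hn' hc; omega)

/-- `L₃(q)` -/
theorem Core.no_l3' {S : Subgroup M} {g : Grp} (C : Core f p (N3 (p ^ f)) (c3 (p ^ f)) u M S g)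
    (D : ClsD T p (N3 (p ^ f)) (c3 (p ^ f)))
    (R : RU (p ^ f) p u B U) (hp : p.Prime) (h2 : p ≠ 2) (hf : 1 ≤ f) (h3q : 3 ≤ p ^ f)
    (hT : Nat.card T = OL .G2 (p ^ f)) (hg : g = .psl 3 (p ^ f)) : False := by
  by_cases h5 : 5 ≤ p
  · exact C.no_l3 R hp h2 hf hT hg (C.coprime hp h5)
  · have h3 : p = 3 := by
      have := hp.two_le
      have h4 : p ≠ 4 := by rintro rfl; revert hp; norm_num
      omega
    refine C.no_l3 R hp h2 hf hT hg ?_
    have hm : p ^ f % 3 = 0 := by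
      rw [h3]
      exact Nat.mod_eq_zero_of_dvd (dvd_pow_self 3 (by omega))
    obtain ⟨r, hr, hrc⟩ : ∃ r, r.Prime ∧ r ∣ c3 (p ^ f) := Nat.exists_prime_and_dvd D.c1
    obtain ⟨e, n, hie, he0, hc, hn⟩ := C.cnt (N3_eq hm) r hr hrc
    have h6 : S.index ∣ 2 := by
      refine cnt_l3 h3q hm ?_ hc hn (hrc.trans (c3_dvd _)) (D.seven r hr hrc) hie
      rw [← hg]
      exact C.named.eq
    rw [h3]
    exact Nat.Coprime.coprime_dvd_left h6 (by norm_num)

/-- **The overgroups of `{y, u}`, `y` of order `q² + q + 1`.** -/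
theorem inc3 (hnm : ∀ (S : Type) [Group S] [Finite S] [IsSimpleGroup S], ¬ IsMulCommutative S → ∃ g, IsNamed g S)
    (hC : CharThree) (hK1 : KillG2) (hK2 : KillL2) (hp : p.Prime) (h2 : p ≠ 2) (hf : 1 ≤ f)
    (hT : IsNamed (.g2 (p ^ f)) T) (R : RU (p ^ f) p u B U) (hM : M ≠ ⊤) (hyo : orderOf y = N3 (p ^ f))
    (hyM : y ∈ M) (huM : u ∈ M) : False := by
  have D0 := dat_of hT hp hf
  have D := Dat.cls3 D0 hT h2
  have h3q := D0.h3q
  have hTc := D0.card
  obtain ⟨S, g, C⟩ := D.core hnm R hf h3q hTc hyo hyM huM (noEl3 D R hf h3q hTc hyo hyM huM)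
  have hnS := C.nm
  have hsS := C.simp
  rcases Cfsg.Agent.H192.Singer.cases_name C.named.cond with ⟨m, rfl⟩ | hsp | ⟨l, hl, hch⟩
  · obtain ⟨e'⟩ := C.named.real
    exact alt3 C.named.cond h3q (odd_of hp h2) C.big e' C.cS C.dvd
  · exact C.no_spor3 hp h2 h3q (Cfsg.Agent.H192.Singer.spor_mem hsp)
  · by_cases hpl : p = l
    · subst hpl
      have hq : 1 ≤ p ^ f := by omega
      rcases hC hp h2 hf C.named.cond hch C.named.eq (Cfsg.Agent.H264.FKS.IsNamed.card_dvd hT S)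
          (fun s hs => (dvd_c3 hq hs).trans C.cS) with h | h | h | ⟨a, rfl, h | h⟩
      · subst h
        exact hM (eq_top_of_name hT C.named)
      · subst h
        obtain ⟨r3, p3, -⟩ := exists_cl hp hf h3q (Or.inl rfl)
        exact H325.Same.kill_psl2 hp C.named p3 (((D0.iso r3 p3).sub M).sub S)
      · exact C.no_l3' D R hp h2 hf h3q hTc h
      · subst h
        obtain ⟨z, hz⟩ := C.z
        exact hK1 hp h2 (by omega) C.named z hz
      · subst h
        obtain ⟨z, hz⟩ := C.z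
        exact hK2 hp h2 (by omega) C.named z hz
    · exact C.no_cross3 R hp h2 hf D0.fth hl hpl hch

end Cfsg.Agent.H983.Cov
end

private theorem dce_909fae818daa : _root_.True := by
  try have : _root_.True := by simp only [_root_.Cfsg.Agent.H265.LQ.mk.congr_simp]
  try have : _root_.True := by simp only [_root_.Cfsg.Agent.H265.LQ.IsP.eq_1]
  try have : _root_.True := by simp only [_root_.Cfsg.Agent.H265.LQ.um.eq_1]
  try have : _root_.True := by simp only [_root_.Cfsg.Agent.H265.LQ.IsT.eq_1]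
  try have : _root_.True := by simp only [_root_.Cfsg.Agent.H265.LQ.IsL.eq_1]
  exact _root_.True.intro
end

-- part: H781/Cov9/Final
section
set_option linter.all false

/-!
# S2499, row `Ω_9(q)` (COV-O9, helper781)

* `noTwo_o9` : `Ω_9(q)`, `q` odd, is not the union of two conjugacy classes of proper subgroups.
-/

set_option autoImplicit false

namespace Cfsg.Agent.H781.Cov9

open Cfsg Cfsg.Agent.H278.Cov

/-- **COV-O9** -/
theorem noTwo_o9 {F : Type} [Field F] [Fintype F] (hodd : Odd (Fintype.card F)) :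
    NoTwo (POmega F (quadFormOdd 4 F)) :=
  noTwo_of_res hodd fun H hH hS => Cfsg.Agent.S5836.result hodd H hH hS

end Cfsg.Agent.H781.Cov9
end

-- part: H507/Cov/RU_mg
section
prune_inst 0x353015404922020000000586110022045c00059000208001c80002440308c3228002214004801002122a220000010060014400c0424000000e00040000040100008840042340010404009e800084400000000000000000000000000000000004000000000
set_option linter.all false
open scoped Cfsg.Agent.FastGrp

-- part: H507/Cov/RU
section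
/-!
# The facts on the regular unipotent element of `G₂(q)`, `q` odd (helper507, S2499)

* `uu` : `x_b(1) x_a(1)`; `reg_uu`; `uu_pow_ne` : `uu ^ p ≠ 1` for `p = 3, 5`;
* `eq_U_of_large` : subgroups of `U` normalized by a large `p'`-subgroup of the Borel subgroup;
* `exRU : ExRU`.
-/

set_option autoImplicit false

namespace Cfsg.Agent.H507.Cov

open Cfsg Cfsg.Lie Cfsg.Agent.ChevalleyStructure.Elts Cfsg.Agent.ChevalleyStructure.SparseAct
  Cfsg.Agent.ChevalleyStructure.RootVec Cfsg.Agent.ChevalleyStructure.RootVecTab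
  Cfsg.Agent.H610.ChevRegular Cfsg.Agent.H610.OddRegLie Cfsg.Agent.H406.Cov

universe u

section Ord

theorem hD : InList chevG2 := by simp

variable {F : Type u} [Field F]

/-- the element `x_b(1) x_a(1)` -/
def uu (F : Type u) [Field F] : GL chevG2.Idx F := xG hD 6 1 * xG hD 7 1

theorem reg_uu : Reg hD (uu F) := by
  have e0 : chevG2.simple 0 = 7 := rfl
  have e1 : chevG2.simple 1 = 6 := rfl
  have h6 : chevG2.IsPosRoot 6 := by decide +kernel
  have h7 : chevG2.IsPosRoot 7 := by decide +kernel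
  refine ⟨mul_mem (xG_mem_posUnipotent hD h6 _) (xG_mem_posUnipotent hD h7 _), fun i hi => ?_⟩
  have hi' : i < 2 := hi
  refine ⟨1, one_ne_zero, ?_⟩
  interval_cases i
  · have h1 := comp_mul hD hi (comp_root (F := F) hD (i := 0) h6 (by decide) 1) (comp_simple (F := F) hD 0 1)
    rwa [zero_add] at h1
  · have h1 := comp_mul hD hi (comp_simple (F := F) hD 1 1) (comp_root (F := F) hD (i := 1) h7 (by decide) 1)
    rwa [add_zero] at h1

/-- the word of the `k`-th power -/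
def wd : ℕ → List (ℕ × ℤ × ℤ)
  | 0 => []
  | k + 1 => (6, 1, 0) :: (7, 1, 0) :: wd k

theorem coe_pow (k : ℕ) : ((uu F ^ k : GL chevG2.Idx F) : Matrix chevG2.Idx chevG2.Idx F) =
    chevG2.wordMat F (letters 1 (wd k)) := by
  induction k with
  | zero =>
    rw [pow_zero]
    rfl
  | succ k ih =>
    rw [pow_succ', Units.val_mul, ih, wd, letters_cons, letters_cons, wordMat_cons, wordMat_cons, ← mul_assoc]
    congr 1
    simp [uu]

theorem ne_one {k : ℕ} {m : ℤ} (hm : (m : F) = 0) (i j : chevG2.Idx) (hij : i ≠ j) {c : ℤ}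
    (h : ((actWord chevG2 m (wd k) [(_root_.Cfsg.Agent.ChevalleyStructure.SparseAct.code chevG2 j, 0, 1)]).filter fun q => q.1 = _root_.Cfsg.Agent.ChevalleyStructure.SparseAct.code chevG2 i) = [(code chevG2 i, 0, c)])
    (hc : (c : F) ≠ 0) : uu F ^ k ≠ 1 := by
  intro h1
  have h2 := congrArg (fun g : GL chevG2.Idx F => (g : Matrix chevG2.Idx chevG2.Idx F) i j) h1
  simp only [coe_pow, Units.val_one, Matrix.one_apply_ne hij] at h2
  rw [wordMat_apply chevG2 hm one_ne_zero, eval_eq_filter, h] at h2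
  simp at h2
  exact hc h2

theorem pow_three_ne [CharP F 3] : uu F ^ 3 ≠ 1 := by
  refine ne_one (m := 3) (c := 2) ?_ (Sum.inr (3 : Fin 12)) (Sum.inr (0 : Fin 12)) ?_ ?_ ?_
  · have := CharP.cast_eq_zero F 3
    exact_mod_cast this
  · exact fun h => absurd (congrArg Fin.val (Sum.inr.inj h)) (by decide)
  · decide +kernel
  · intro h
    have h1 : ((2 : ℕ) : F) = 0 := by exact_mod_cast h
    rw [CharP.cast_eq_zero_iff F 3] at h1
    omega

theorem pow_five_ne [CharP F 5] : uu F ^ 5 ≠ 1 := by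
  refine ne_one (m := 5) (c := 1) ?_ (Sum.inr (11 : Fin 12)) (Sum.inr (0 : Fin 12)) ?_ ?_ ?_
  · have := CharP.cast_eq_zero F 5
    exact_mod_cast this
  · exact fun h => absurd (congrArg Fin.val (Sum.inr.inj h)) (by decide)
  · decide +kernel
  · simp

theorem uu_pow_ne {p : ℕ} [CharP F p] (hp : p.Prime) (hp2 : p ≠ 2) (h5 : p ≤ 5) : uu F ^ p ≠ 1 := by
  have h3 : p = 3 ∨ p = 5 := by
    have := hp.two_le
    interval_cases p
    · exact absurd rfl hp2
    · exact Or.inl rfl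
    · exact absurd hp (by decide)
    · exact Or.inr rfl
  rcases h3 with rfl | rfl
  · exact pow_three_ne
  · exact pow_five_ne

end Ord

section Frat

variable {F : Type u} [Field F] [Fintype F]

/-- the relations of `G₂` -/
theorem chk_G2 : chk chevG2 [(8, 6, 7), (9, 7, 8), (10, 7, 9), (11, 6, 10)] = true := by decide +kernel

theorem isPGroup_pos {p : ℕ} [Fact p.Prime] [CharP F p] : IsPGroup p ↥(chevG2.posUnipotent F) := by
  obtain ⟨P, hP⟩ := Cfsg.Agent.S2326.result (F := F) p chevG2 hD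
  have h1 : IsPGroup p ↥((chevG2.posUnipotent F).subgroupOf (chevG2.group F)) := by rw [← hP]; exact P.isPGroup'
  exact h1.of_equiv (Subgroup.subgroupOfEquivOfLe (posUnipotent_le_group hD F))

/-- **Large `p'`-subgroups of the Borel subgroup.** -/
theorem eq_U_of_large {p : ℕ} [hp : Fact p.Prime] [CharP F p] (h7 : 7 ≤ p)
    {P : Subgroup ↥(chevG2.group F)} (hPU : P ≤ (chevG2.posUnipotent F).subgroupOf (chevG2.group F))
    {u : ↥(chevG2.group F)} (hu : Reg hD (u : GL chevG2.Idx F)) (huP : u ∈ P)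
    {H : Subgroup ↥(chevG2.group F)} (hH : H ≤ (chevG2.borelSubgroup F).subgroupOf (chevG2.group F))
    (hHp : (Nat.card H).Coprime p) (hHP : ∀ h ∈ H, ∀ x ∈ P, h * x * h⁻¹ ∈ P)
    (hc : (Fintype.card F - 1) ^ 2 ≤ 3 * Nat.card H) :
    P = (chevG2.posUnipotent F).subgroupOf (chevG2.group F) := by
  classical
  let M : Subgroup ↥(chevG2.posUnipotent F) := (P.map (chevG2.group F).subtype).subgroupOf (chevG2.posUnipotent F)
  have hM : ∀ x : ↥(chevG2.group F), x ∈ P → ∀ hx : (x : GL chevG2.Idx F) ∈ chevG2.posUnipotent F,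
      (⟨x, hx⟩ : ↥(chevG2.posUnipotent F)) ∈ M := fun x hx hx' =>
    Subgroup.mem_subgroupOf.2 ⟨x, hx, rfl⟩
  set W := M.map (cmpH hD) with hW
  have hmemU : ∀ x ∈ P, (x : GL chevG2.Idx F) ∈ chevG2.posUnipotent F := fun x hx =>
    Subgroup.mem_subgroupOf.1 (hPU hx)
  have hconj : ∀ h : H, (h : ↥(chevG2.group F)) * u * (h : ↥(chevG2.group F))⁻¹ ∈ P := fun h => hHP h h.2 u huP
  let v : H → ↥(chevG2.posUnipotent F) := fun h => ⟨((h : ↥(chevG2.group F)) * u * (h : ↥(chevG2.group F))⁻¹ :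
    ↥(chevG2.group F)), hmemU _ (hconj h)⟩
  let g : H → W := fun h => ⟨cmpH hD (v h), ⟨_, hM _ (hconj h) _, rfl⟩⟩
  choose a ha0 ha using hu.2
  have hg : Function.Injective g := by
    intro t t' h
    have hs : (t : ↥(chevG2.group F))⁻¹ * t' ∈ H := mul_mem (inv_mem t.2) t'.2
    obtain ⟨χ, hχ, hχ1⟩ := exists_char hD (Subgroup.mem_subgroupOf.1 (hH hs))
    obtain ⟨χ', hχ', -⟩ := exists_char hD (Subgroup.mem_subgroupOf.1 (hH t.2))
    have hsU : (((t : ↥(chevG2.group F))⁻¹ * t' : ↥(chevG2.group F)) : GL chevG2.Idx F) ∈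
        chevG2.posUnipotent F := by
      apply hχ1
      intro i hi
      have h1 := hχ' i hi _ _ (ha i hi)
      have h2 := hχ' i hi _ _ (hχ i hi _ _ (ha i hi))
      have e1 : ((t : ↥(chevG2.group F)) : GL chevG2.Idx F) * (u : GL chevG2.Idx F) *
          ((t : ↥(chevG2.group F)) : GL chevG2.Idx F)⁻¹ = (v t : GL chevG2.Idx F) := rfl
      have e2 : ((t : ↥(chevG2.group F)) : GL chevG2.Idx F) *
          ((((t : ↥(chevG2.group F))⁻¹ * t' : ↥(chevG2.group F)) : GL chevG2.Idx F) * (u : GL chevG2.Idx F) *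
            (((t : ↥(chevG2.group F))⁻¹ * t' : ↥(chevG2.group F)) : GL chevG2.Idx F)⁻¹) *
          ((t : ↥(chevG2.group F)) : GL chevG2.Idx F)⁻¹ = (v t' : GL chevG2.Idx F) := by
        show _ = ((t' : ↥(chevG2.group F)) : GL chevG2.Idx F) * (u : GL chevG2.Idx F) *
          ((t' : ↥(chevG2.group F)) : GL chevG2.Idx F)⁻¹
        rw [Subgroup.coe_mul, Subgroup.coe_inv]
        group
      rw [e1] at h1
      rw [e2] at h2
      have h3 : (cmpH hD (v t)).toAdd ⟨i, hi⟩ = (cmpH hD (v t')).toAdd ⟨i, hi⟩ :=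
        congrArg (fun z : W => (Multiplicative.toAdd (z : Multiplicative (Fin chevG2.rank → F))) ⟨i, hi⟩) h
      have h4 := comp_unique hD hi h1 (cmpH_comp hD (v t) ⟨i, hi⟩)
      have h5 := comp_unique hD hi h2 (cmpH_comp hD (v t') ⟨i, hi⟩)
      rw [← h3, ← h4] at h5
      have h6 : χ' i * a i hi ≠ 0 := by
        intro h0
        rw [h0] at h1
        have hreg : Reg hD (((t : ↥(chevG2.group F)) : GL chevG2.Idx F) * (u : GL chevG2.Idx F) *
          ((t : ↥(chevG2.group F)) : GL chevG2.Idx F)⁻¹) := hu.conj (Subgroup.mem_subgroupOf.1 (hH t.2))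
        obtain ⟨c, hc0, hc⟩ := hreg.2 i hi
        rw [e1] at hc
        exact hc0 (comp_unique hD hi hc h1)
      have h7 : (χ i - 1) * (χ' i * a i hi) = 0 := by linear_combination h5
      exact sub_eq_zero.1 ((mul_eq_zero.1 h7).resolve_right h6)
    -- a `p`-element of a `p'`-group
    have h1 : orderOf ((t : ↥(chevG2.group F))⁻¹ * t') ∣ Nat.card H := by
      have := orderOf_dvd_natCard (⟨_, hs⟩ : H)
      rwa [Subgroup.orderOf_mk] at this
    obtain ⟨k, hk⟩ := IsPGroup.iff_orderOf.1 (isPGroup_pos (F := F) (p := p)) ⟨_, hsU⟩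
    rw [Subgroup.orderOf_mk, Subgroup.orderOf_coe] at hk
    have h2 : orderOf ((t : ↥(chevG2.group F))⁻¹ * t') = 1 := by
      have h3 : (orderOf ((t : ↥(chevG2.group F))⁻¹ * t')).Coprime (orderOf ((t : ↥(chevG2.group F))⁻¹ * t')) := by
        nth_rewrite 2 [hk]
        exact Nat.Coprime.pow_right _ (Nat.Coprime.coprime_dvd_left h1 hHp)
      rwa [Nat.coprime_self] at h3
    have h3 := orderOf_eq_one_iff.1 h2
    exact Subtype.ext (inv_mul_eq_one.1 h3)
  have hfin : Finite (Multiplicative (Fin chevG2.rank → F)) := inferInstanceAs (Finite (Fin chevG2.rank → F))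
  have hcard : Nat.card (Multiplicative (Fin chevG2.rank → F)) = Fintype.card F ^ 2 := by
    rw [Nat.card_congr Multiplicative.toAdd, Nat.card_fun, Nat.card_fin, Nat.card_eq_fintype_card]
    rfl
  have hgt : Nat.card H ≤ Nat.card W := Nat.card_le_card_of_injective g hg
  obtain ⟨n, -, hn⟩ := FiniteField.card F p
  have hWtop : W = ⊤ := by
    by_contra hne
    have h1 : W.index ≠ 1 := fun h => hne (Subgroup.index_eq_one.1 h)
    have h2 : Nat.card W * W.index = Fintype.card F ^ 2 := by rw [Subgroup.card_mul_index, hcard]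
    have h3 : W.index ∣ p ^ ((n : ℕ) * 2) := by
      rw [pow_mul, ← hn, ← h2]
      exact Dvd.intro_left _ rfl
    obtain ⟨k, -, hk⟩ := (Nat.dvd_prime_pow hp.out).1 h3
    have hk1 : 1 ≤ k := by
      rcases Nat.eq_zero_or_pos k with rfl | h
      · rw [pow_zero] at hk; exact absurd hk h1
      · exact h
    have h4 : p ≤ W.index := by
      rw [hk]
      calc p = p ^ 1 := (pow_one p).symm
        _ ≤ p ^ k := Nat.pow_le_pow_right hp.out.pos hk1
    have h6 : Nat.card H * 7 ≤ Fintype.card F ^ 2 := by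
      rw [← h2]
      exact Nat.mul_le_mul hgt (h7.trans h4)
    have h8 : 7 ≤ Fintype.card F := by
      rw [hn]
      calc 7 ≤ p := h7
        _ = p ^ 1 := (pow_one p).symm
        _ ≤ p ^ (n : ℕ) := Nat.pow_le_pow_right hp.out.pos n.pos
    obtain ⟨m, hm⟩ : ∃ m, Fintype.card F = m + 7 := ⟨Fintype.card F - 7, by omega⟩
    rw [hm] at hc h6
    have e : m + 7 - 1 = m + 6 := by omega
    rw [e] at hc
    nlinarith only [h6, hc, _root_.Nat.cast_nonneg (α := ℤ) (m), _root_.sq_nonneg (↑m + 6 : ℤ), _root_.sq_nonneg (↑m + 7 : ℤ)]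
  have hcc : ∀ c : ℤ, 1 ≤ c.natAbs → c.natAbs ≤ 3 → (c : F) ≠ 0 := by
    intro c h1 h3 h0
    rw [CharP.intCast_eq_zero_iff F p] at h0
    have h6 : p ∣ c.natAbs := Int.natCast_dvd.1 h0
    have := Nat.le_of_dvd h1 h6
    omega
  have hMt := eq_top_of_cmp hD chk_G2 hcc (p := p) hWtop
  apply le_antisymm hPU
  intro x hx
  have h1 : (⟨x, Subgroup.mem_subgroupOf.1 hx⟩ : ↥(chevG2.posUnipotent F)) ∈ M := by rw [hMt]; trivial
  obtain ⟨y, hy, hyx⟩ := Subgroup.mem_subgroupOf.1 h1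
  have : y = x := Subtype.ext hyx
  rw [← this]
  exact hy

end Frat

/-- commutators of the Borel subgroup -/
theorem comm_mem {F : Type} [Field F] {x y : GL chevG2.Idx F} (hx : x ∈ chevG2.borelSubgroup F)
    (hy : y ∈ chevG2.borelSubgroup F) : x * y * x⁻¹ * y⁻¹ ∈ chevG2.posUnipotent F := by
  obtain ⟨u, hu, s, hs, rfl⟩ := exists_of_mem_borel hD hx
  obtain ⟨v, hv, t, ht, rfl⟩ := exists_of_mem_borel hD hy
  obtain ⟨χ, hχ⟩ := exists_chi hD hs
  obtain ⟨ψ, hψ⟩ := exists_chi hD ht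
  have hst : s * t = t * s := by
    apply Units.ext
    rw [Units.val_mul, Units.val_mul, hχ.mat, hψ.mat, Matrix.diagonal_mul_diagonal, Matrix.diagonal_mul_diagonal]
    congr 1
    funext i
    exact mul_comm _ _
  have hcj : ∀ {b w : GL chevG2.Idx F}, b ∈ chevG2.diagonalSubgroup F → w ∈ chevG2.posUnipotent F →
      b * w * b⁻¹ ∈ chevG2.posUnipotent F := fun hb hw => conj_mem_pos hD (Subgroup.mem_sup_right hb) hw
  have e : u * s * (v * t) * (u * s)⁻¹ * (v * t)⁻¹ =
      u * (s * v * s⁻¹) * (t * u⁻¹ * t⁻¹) * v⁻¹ := by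
    have e1 : u * s * (v * t) * (u * s)⁻¹ * (v * t)⁻¹ = u * (s * v * s⁻¹) * (s * t * s⁻¹ * u⁻¹ * t⁻¹) * v⁻¹ := by
      group
    rw [e1, hst]
    group
  rw [e]
  exact mul_mem (mul_mem (mul_mem hu (hcj hs hv)) (hcj ht (inv_mem hu))) (inv_mem hv)

/-- **TASK RU.** -/
theorem exRU : H983.Cov.ExRU := by
  intro p f hp hp2 hf F _ _ hF
  have hfp : Fact p.Prime := ⟨hp⟩
  have hchar : CharP F p := by
    obtain ⟨r, hr⟩ := CharP.exists F
    obtain ⟨n, hrp, hn⟩ := FiniteField.card F r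
    have h1 : r = p := by
      rw [hF] at hn
      have h2 : r ∣ p ^ f := by rw [hn]; exact dvd_pow_self r n.ne_zero
      exact (Nat.prime_dvd_prime_iff_eq hrp hp).1 (hrp.dvd_of_dvd_pow h2)
    rwa [← h1]
  have hR := regD_of_reg (p := p) hD (reg_uu (F := F))
  rw [hF] at hR
  have hU : Nat.card ↥((chevG2.posUnipotent F).subgroupOf (chevG2.group F)) = (p ^ f) ^ 6 := by
    rw [Nat.card_congr (Subgroup.subgroupOfEquivOfLe (posUnipotent_le_group hD F)).toEquiv,
      Cfsg.Agent.S1027.result chevG2 hD, hF]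
    rfl
  have hT : Nat.card ↥(chevG2.diagonalSubgroup F) = (p ^ f - 1) ^ 2 := by
    have h1 := Cfsg.Agent.S1035.result (F := F) hF (chevG2, 1) (by simp only [_root_.List.mem_cons, _root_.Prod.mk.injEq, _root_.and_true, _root_.List.not_mem_nil, _root_.or_false, _root_.true_or])
    rw [one_mul] at h1
    exact h1
  refine ⟨⟨uu F, posUnipotent_le_group hD F (reg_uu (F := F)).1⟩,
    (chevG2.borelSubgroup F).subgroupOf (chevG2.group F),
    (chevG2.posUnipotent F).subgroupOf (chevG2.group F), ?_⟩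
  refine
    { mem := hR.mem
      le := fun x hx => Subgroup.mem_subgroupOf.2 (Subgroup.mem_sup_left (Subgroup.mem_subgroupOf.1 hx))
      isP := hR.pU
      cardU := hU
      cardB := ?_
      norm := hR.nrm
      comm := fun x hx y hy => ?_
      expo := hR.pow
      reg := fun g hg => ?_
      cent := ?_
      frat := fun h7 P hPU huP H hH hHp hHP hc => ?_
      ord := fun h5 h => ?_ }
  · rw [Nat.card_congr (Subgroup.subgroupOfEquivOfLe (borel_le_group hD)).toEquiv, card_borel hD, hT,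
      Cfsg.Agent.S1027.result chevG2 hD, hF]
    rfl
  · exact Subgroup.mem_subgroupOf.2 (comm_mem (Subgroup.mem_subgroupOf.1 hx) (Subgroup.mem_subgroupOf.1 hy))
  · have h1 := hR.conj g⁻¹ (by rwa [inv_inv])
    rwa [inv_mem_iff] at h1
  · refine hR.pU.to_le fun x hx => hR.cent x ?_
    exact (Subgroup.mem_centralizer_singleton_iff.1 hx)
  · exact eq_U_of_large h7 hPU (reg_uu (F := F)) huP hH hHp hHP (by rwa [hF])
  · exact uu_pow_ne hp hp2 h5 (congrArg (fun z : ↥(chevG2.group F) => (z : GL chevG2.Idx F)) h)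

end Cfsg.Agent.H507.Cov
end

-- part: H395/GCov/Six
section
/-!
# S2499, the row `G₂(q)`, `q` odd: simple groups of order dividing `|G₂(q)|`, class 6 (helper395)

`six` : the version of helper325's `charp_g2` with the class 6 only, `p` odd.
-/

set_option autoImplicit false

namespace Cfsg.Agent.H395.GCov

open Cfsg.Agent.OrdDiv Cfsg.Agent.H436 Cfsg.Agent.H915.GN Cfsg.Agent.H264.GN Cfsg.Agent.H264.FKS Cfsg.Agent.H325.Same

variable {p f c : ℕ} {g : Grp}

/-- `3D4(q)` in `G₂(q²)` -/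
theorem td4_false {f₁ : ℕ} (hp : p.Prime) (hf₁ : 1 ≤ f₁)
    (hc : den (.td4 (p ^ f₁)) * c = num (.td4 (p ^ f₁))) (hdvd : c ∣ num (.g2 (p ^ (f₁ * 2)))) : False := by
  have hq : 2 ≤ p ^ (f₁ * 2) := hp.two_le.trans (Nat.le_self_pow (by omega) _)
  obtain ⟨t, ht3⟩ := exists_prim (q := p ^ (f₁ * 2)) (e := 3) hq (by norm_num) (by omega)
  have b1 : 0 < p ^ (f₁ * 2) - 1 := by omega
  have b2 := sub_pos' (d := 2) hq (by norm_num)
  have b3 := sub_pos' (d := 3) hq (by norm_num)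
  have b6 := sub_pos' (d := 6) hq (by norm_num)
  have hd : c ∣ (p ^ (f₁ * 2)) ^ 6 * (((p ^ (f₁ * 2)) ^ 2 - 1) * ((p ^ (f₁ * 2)) ^ 6 - 1)) := hdvd
  have hc0 : 0 < c := pos_of_dvd (by (clear * - hq b2 b6; positivity)) hd
  have h6 : 1 * c = (p ^ f₁) ^ 12 * (((p ^ f₁) ^ 2 - 1) * ((p ^ f₁) ^ 6 - 1) * ((p ^ f₁) ^ 8 + (p ^ f₁) ^ 4 + 1)) := hc
  have e1 : (p ^ f₁) ^ 2 = p ^ (f₁ * 2) := by rw [pow_mul]
  have e2 : (p ^ f₁) ^ 6 = (p ^ (f₁ * 2)) ^ 3 := by rw [← pow_mul, ← pow_mul]; congr 1; ring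
  have e3 : (p ^ f₁) ^ 8 = (p ^ (f₁ * 2)) ^ 4 := by rw [← pow_mul, ← pow_mul]; congr 1; ring
  have e4 : (p ^ f₁) ^ 4 = (p ^ (f₁ * 2)) ^ 2 := by rw [← pow_mul, ← pow_mul]; congr 1; ring
  rw [e1, e2, e3, e4] at h6
  generalize p ^ (f₁ * 2) = Q at *
  have h7 : Q ^ 2 - 1 = (Q + 1) * (Q - 1) := by
    have := Nat.sq_sub_sq Q 1
    rwa [one_pow] at this
  have h8 : Q ^ 6 - 1 = (Q ^ 3 + 1) * (Q ^ 3 - 1) := by
    have := Nat.sq_sub_sq (Q ^ 3) 1
    rwa [one_pow, ← pow_mul] at this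
  have h9 : Q ^ 6 - 1 = (Q ^ 4 + Q ^ 2 + 1) * (Q ^ 2 - 1) := by
    obtain ⟨a, ha⟩ : ∃ a, Q ^ 2 = a + 1 := ⟨Q ^ 2 - 1, by omega⟩
    have h10 : Q ^ 6 = (a + 1) ^ 3 := by rw [← ha]; ring
    have h11 : Q ^ 4 = (a + 1) ^ 2 := by rw [← ha]; ring
    rw [h10, h11, ha, Nat.add_sub_cancel]
    have : (a + 1) ^ 3 = ((a + 1) ^ 2 + (a + 1) + 1) * a + 1 := by ring
    omega
  refine cancel_prime ht3.prime (Z := (Q - 1) * (Q ^ 3 - 1)) (by positivity) hc0 (D := 1)
    (A := (p ^ f₁) ^ 12) (x := Q ^ 4 + Q ^ 2 + 1) (B := Q ^ 6) (y := (Q + 1) * (Q ^ 3 + 1)) ?_ ?_ ?_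
    (fun h => ?_) (ht3.not_dvd_pow _) (fun h => ?_)
  · rw [h6]; ring
  · refine hd.trans (dvd_of_eq ?_)
    rw [h7, h8]; ring
  · have h12 : t ∣ Q ^ 6 - 1 := ht3.dvd (by norm_num)
    rw [h9] at h12
    exact (ht3.prime.dvd_mul.1 h12).resolve_right (ht3.not_dvd_sub (by norm_num))
  · exact ht3.prime.one_lt.ne' (Nat.dvd_one.1 h)
  · rcases ht3.prime.dvd_mul.1 h with h | h
    · exact ht3.not_dvd_qadd le_rfl h
    · exact not_dvd_add_odd ht3 rfl (by norm_num) 3 h

/-- a power of `2` is not a power of the odd prime `p` -/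
theorem ne_two_pow {f₁ m : ℕ} (hp : p.Prime) (hp2 : p ≠ 2) (hf₁ : 1 ≤ f₁) : p ^ f₁ ≠ 2 ^ (2 * m + 1) := by
  intro hqm
  have h4 : p ∣ 2 ^ (2 * m + 1) := by
    rw [← hqm]
    exact dvd_pow_self p (by omega)
  exact hp2 ((Nat.prime_dvd_prime_iff_eq hp Nat.prime_two).1 (hp.dvd_of_dvd_pow h4))

/-- the names with top exponent `6 f` -/
def Top6 (p f : ℕ) (g : Grp) : Prop :=
  g = .g2 (p ^ f) ∨ g = .psl 2 (p ^ (3 * f)) ∨ g = .psu 3 (p ^ f) ∨ g = .ree (p ^ f)

/-- **`G_2(q)`, `q` odd, top exponent `6 f`.** -/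
theorem top6 {f₁ : ℕ} (hp : p.Prime) (hp2 : p ≠ 2) (hf : 1 ≤ f) (hg : Cond g) (hch : HasChar p g)
    (hc : den g * c = num g) (hdvd : c ∣ num (.g2 (p ^ f))) (hf₁ : 1 ≤ f₁) (hfl : fld g = p ^ f₁)
    (hK : KD p f₁ c (Xg g) (Yg g) (Mg g) (ag g)) (hfM : f₁ * Mg g = f * 6) : Top6 p f g := by
  have hT := td_g2 hp hf hdvd
  have h2 : 2 * ag g ≤ 2 * Mg g := by
    have h2 := hT.pp hK.pp
    have h4 : f * (ag g * 6) ≤ f * (6 * Mg g) := by
      calc f * (ag g * 6) = (f * 6) * ag g := by ring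
        _ = (f₁ * Mg g) * ag g := by rw [hfM]
        _ = (f₁ * ag g) * Mg g := by ring
        _ ≤ (f * 6) * Mg g := Nat.mul_le_mul_right _ h2
        _ = f * (6 * Mg g) := by ring
    have := Nat.le_of_mul_le_mul_left h4 (by omega)
    omega
  have hO := elimT_g2 hg hch h2
  have hq : 2 ≤ p ^ f := hp.two_le.trans (Nat.le_self_pow (by omega) _)
  have b1 : 0 < p ^ f - 1 := by omega
  have b2 := sub_pos' (d := 2) hq (by norm_num)
  have b3 := sub_pos' (d := 3) hq (by norm_num)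
  have b6 := sub_pos' (d := 6) hq (by norm_num)
  have hd : c ∣ (p ^ f) ^ 6 * (((p ^ f) ^ 2 - 1) * ((p ^ f) ^ 6 - 1)) := hdvd
  have hc0 : 0 < c := pos_of_dvd (by (clear * - hq b2 b6; positivity)) hd
  obtain ⟨t, ht3⟩ := exists_prim (q := p ^ f) (e := 3) hq (by norm_num) (by omega)
  obtain ⟨s, hs4⟩ := exists_prim (q := p ^ f) (e := 4) hq (by norm_num) (by omega)
  have hn : ¬ s ∣ c := fun h => not_dvd_g2 hs4 (Or.inl rfl) (h.trans hdvd)
  cases g
  case psl m q =>
    have hO' : m = 2 ∨ m = 3 := hO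
    obtain rfl : q = p ^ f₁ := hfl
    rcases hO' with rfl | rfl
    · right; left
      have h5 : f₁ * 2 = f * 6 := hfM
      obtain rfl : f₁ = 3 * f := by omega
      rfl
    · exfalso
      have h5 : f₁ * 3 = f * 6 := hfM
      obtain rfl : f₁ = f * 2 := by omega
      exact hn (mq_dvd' hs4 (by norm_num) (psl_mq le_rfl (hp.two_le.trans (Nat.le_self_pow (by omega) _)) hc))
  case psp m q =>
    exfalso
    obtain rfl : m = 2 := hO
    obtain rfl : q = p ^ f₁ := hfl
    have h5 : f₁ * (2 * 2) = f * 6 := hfM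
    have h6 : Nat.gcd 2 (p ^ f₁ - 1) * c = (p ^ f₁) ^ (2 ^ 2) * prB (p ^ f₁) 2 := hc
    have e1 : (p ^ f₁) ^ 2 = (p ^ f) ^ 3 := sq_eq (k := 1) (by omega)
    have e2 : (p ^ f₁) ^ 4 = (p ^ f) ^ 6 := sq_eq (k := 2) (by (clear * - h5; omega))
    have h7 : prB (p ^ f₁) 2 = ((p ^ f₁) ^ 2 - 1) * ((p ^ f₁) ^ 4 - 1) := by
      rw [prB_eq, Finset.prod_range_succ, Finset.prod_range_succ, Finset.prod_range_zero]
      norm_num only [one_mul]
    rw [h7, e1, e2] at h6
    exact cancel_prime ht3.prime b6 hc0 h6 hd (ht3.dvd dvd_rfl) (fun h => ht3.not_dvd_two le_rfl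
      (h.trans (Nat.gcd_dvd_left _ _))) (ht3.not_dvd_pow _) (ht3.not_dvd_sub (by norm_num))
  case psu m q =>
    have hO' : m = 3 ∨ m = 4 ∨ m = 5 := hO
    obtain rfl : q = p ^ f₁ := hfl
    rcases hO' with rfl | rfl | rfl
    · have h5 : f₁ * 6 = f * 6 := hfM
      obtain rfl : f₁ = f := by omega
      exact Or.inr (Or.inr (Or.inl rfl))
    · exfalso
      have h5 : f₁ * 6 = f * 6 := hfM
      obtain rfl : f₁ = f := by omega
      obtain ⟨r, hr⟩ := exists_prim (q := p) (e := f₁ * 4) hp.two_le (by omega) (by omega)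
      have h6 : r ∣ c := hK.has (show 3 ≤ 4 ∧ ((4 ≤ 4 ∧ 4 % 2 = 0) ∨ ∃ j, 4 = 2 * j ∧ j ≤ 4 ∧ j % 2 = 1) from
        ⟨by norm_num, Or.inl ⟨le_rfl, rfl⟩⟩) (by omega) hr
      exact not_dvd_g2 (prim_pow hf hr) (Or.inl rfl) (h6.trans hdvd)
    · exfalso
      have h5 : f₁ * 10 = f * 6 := hfM
      obtain ⟨k, rfl⟩ : ∃ k, f = 5 * k := ⟨f / 5, by omega⟩
      obtain rfl : f₁ = 3 * k := by omega
      obtain ⟨r, hr⟩ := exists_prim (q := p) (e := 3 * k * 4) hp.two_le (by omega) (by omega)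
      have h6 : r ∣ c := hK.has (show 3 ≤ 4 ∧ ((4 ≤ 5 ∧ 4 % 2 = 0) ∨ ∃ j, 4 = 2 * j ∧ j ≤ 5 ∧ j % 2 = 1) from
        ⟨by norm_num, Or.inl ⟨by norm_num, rfl⟩⟩) (by omega) hr
      have h7 := Cfsg.Agent.H425.Chr.prim_quot (f := 5 * k) (by omega) hr
      have h8 : 3 * k * 4 / Nat.gcd (3 * k * 4) (5 * k) = 12 := by
        rw [show 3 * k * 4 = 12 * k by ring, Nat.gcd_mul_right, Nat.mul_div_mul_right _ _ (by omega)]
        norm_num
      rw [h8] at h7
      exact not_dvd_g2 h7 (Or.inr rfl) (h6.trans hdvd)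
  case g2 q =>
    left
    obtain rfl : q = p ^ f₁ := hfl
    rw [same_fld (M := 6) (by norm_num) hfM]
  case td4 q =>
    exfalso
    obtain rfl : q = p ^ f₁ := hfl
    have h5 : f₁ * 12 = f * 6 := hfM
    obtain rfl : f = f₁ * 2 := by omega
    exact td4_false hp hf₁ hc hdvd
  case tf4 q =>
    exfalso
    obtain rfl : q = p ^ f₁ := hfl
    obtain ⟨m, hm, hqm⟩ : ∃ m, 1 ≤ m ∧ p ^ f₁ = 2 ^ (2 * m + 1) := hg
    exact ne_two_pow hp hp2 hf₁ hqm
  case sz q =>
    exfalso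
    obtain rfl : q = p ^ f₁ := hfl
    obtain ⟨m, hm, hqm⟩ : ∃ m, 1 ≤ m ∧ p ^ f₁ = 2 ^ (2 * m + 1) := hg
    exact ne_two_pow hp hp2 hf₁ hqm
  case ree q =>
    obtain rfl : q = p ^ f₁ := hfl
    have h5 : f₁ * 6 = f * 6 := hfM
    obtain rfl : f₁ = f := by omega
    exact Or.inr (Or.inr (Or.inr rfl))
  all_goals exact absurd hO not_false

/-- the top exponent of a divisor of `|G₂(q)|`, given the class `e = 3` or `e = 6` -/
theorem top_le {f₁ e : ℕ} (hp : p.Prime) (hp2 : p ≠ 2) (hf : 1 ≤ f) (he : e = 3 ∨ e = 6)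
    (hT : TD p f c (Xg (.g2 (p ^ f))) 6 6) (hf₁ : 1 ≤ f₁) (hK : KD p f₁ c (Xg g) (Yg g) (Mg g) (ag g))
    (hY : Yg g (Mg g)) (hs : ∀ s, Prim (p ^ f) e s → s ∣ c) :
    f * e ≤ f₁ * Mg g ∧ f₁ * Mg g ∣ f * 6 := by
  have h3e : 3 ≤ f * e := by rcases he with rfl | rfl <;> omega
  obtain ⟨s, hs'⟩ := exists_prim (q := p) (e := f * e) hp.two_le h3e (by omega)
  obtain ⟨x, hx, hx2⟩ := hK.exp hs' (hs s (prim_pow hf hs'))
  have hx3 := hK.le hx
  have h1 : f * e ≤ f₁ * Mg g :=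
    (Nat.le_of_dvd (Nat.mul_pos (by omega) (by omega)) hx2).trans (Nat.mul_le_mul_left _ hx3.2)
  refine ⟨h1, ?_⟩
  obtain ⟨t, ht⟩ := exists_prim (q := p) (e := f₁ * Mg g) hp.two_le (by omega) (by omega)
  obtain ⟨i, hi, hi2⟩ := hT.exp ht (hK.has hY (by omega) ht)
  have hi' : i ∈ [2, 6] := hi
  simp only [List.mem_cons, List.not_mem_nil, or_false] at hi'
  rcases hi' with rfl | rfl
  · exact hi2.trans ⟨3, by ring⟩
  · exact hi2

/-- **Class 6.** -/
theorem six (hp : p.Prime) (hp2 : p ≠ 2) (hf : 1 ≤ f) (hg : Cond g) (hch : HasChar p g)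
    (hc : den g * c = num g) (hdvd : c ∣ num (.g2 (p ^ f))) (hs6 : ∀ s, Prim (p ^ f) 6 s → s ∣ c) :
    Top6 p f g := by
  obtain ⟨f₁, hf₁, hfl, hK, hY⟩ := kd_all hp hg hch hc
  have hT := td_g2 hp hf hdvd
  obtain ⟨h1, h2⟩ := top_le hp hp2 hf (Or.inr rfl) hT hf₁ hK hY hs6
  have h3 := Nat.le_of_dvd (by omega) h2
  exact top6 hp hp2 hf hg hch hc hdvd hf₁ hfl hK (by omega)

end Cfsg.Agent.H395.GCov
end

-- part: H395/GCov/Three
section
/-!
# S2499, the row `G₂(q)`, `q` odd: simple groups of order dividing `|G₂(q)|`, class 3 (helper395)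
-/

set_option autoImplicit false

namespace Cfsg.Agent.H395.GCov

open Cfsg.Agent.OrdDiv Cfsg.Agent.H436 Cfsg.Agent.H915.GN Cfsg.Agent.H264.GN Cfsg.Agent.H264.FKS Cfsg.Agent.H325.Same

variable {p f c : ℕ} {g : Grp}

/-! ### 2-adic cancellation -/

theorem eight_dvd {Q k : ℕ} (hQ : Odd Q) : 8 ∣ Q ^ (2 * k) - 1 := by
  have h1 : 8 ∣ Q ^ 2 - 1 := Nat.eight_dvd_sq_sub_one_of_odd hQ
  have h2 : Q ^ 2 - 1 ∣ (Q ^ 2) ^ k - 1 ^ k := Nat.sub_dvd_pow_sub_pow _ _ k
  rw [one_pow, ← pow_mul] at h2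
  exact h1.trans h2

theorem two_mod {Q k : ℕ} (hQ : Odd Q) : (Q ^ (2 * k) + 1) % 4 = 2 := by
  obtain ⟨a, ha⟩ := eight_dvd (k := k) hQ
  have : 1 ≤ Q ^ (2 * k) := Nat.one_le_pow _ _ hQ.pos
  omega

/-- `x ∣ D B y` with `8 ∣ x`, `D ∣ 2`, `B` odd, `y ≡ 2` modulo `4` is impossible -/
theorem two_false {D A B Z c x y : ℕ} (hZ : 0 < Z) (hc : 0 < c) (h1 : D * c = A * (x * Z))
    (h2 : c ∣ B * (y * Z)) (hx : 8 ∣ x) (hD : D ∣ 2) (hB : Odd B) (hy : y % 4 = 2) : False := by
  have h3 := hx.trans (cancel_dvd hZ hc h1 h2)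
  have h4 : 8 ∣ B * (2 * y) := by
    refine h3.trans ?_
    rw [mul_comm D B, mul_assoc]
    exact Nat.mul_dvd_mul_left _ (Nat.mul_dvd_mul_right hD _)
  have h5 : Nat.Coprime 8 B := by
    rw [show 8 = 2 ^ 3 by norm_num]
    exact Nat.Coprime.pow_left 3 hB.coprime_two_left
  have h6 := h5.dvd_of_dvd_mul_left h4
  omega

/-- the same with `64 ∣ x`, `D ∣ 4` -/
theorem two_false' {D A B Z c x y : ℕ} (hZ : 0 < Z) (hc : 0 < c) (h1 : D * c = A * (x * Z))
    (h2 : c ∣ B * (y * Z)) (hx : 16 ∣ x) (hD : D ∣ 4) (hB : Odd B) (hy : y % 4 = 2) : False := by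
  have h3 := hx.trans (cancel_dvd hZ hc h1 h2)
  have h4 : 16 ∣ B * (4 * y) := by
    refine h3.trans ?_
    rw [mul_comm D B, mul_assoc]
    exact Nat.mul_dvd_mul_left _ (Nat.mul_dvd_mul_right hD _)
  have h5 : Nat.Coprime 16 B := by
    rw [show 16 = 2 ^ 4 by norm_num]
    exact Nat.Coprime.pow_left 4 hB.coprime_two_left
  have h6 := h5.dvd_of_dvd_mul_left h4
  omega

/-- the order of `G₂(Q²)` -/
theorem g2_sq {Q c : ℕ} (h : c ∣ num (.g2 (Q ^ 2))) :
    c ∣ Q ^ 12 * ((Q ^ 6 + 1) * ((Q ^ 4 - 1) * (Q ^ 6 - 1))) := by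
  have h1 : c ∣ (Q ^ 2) ^ 6 * (((Q ^ 2) ^ 2 - 1) * ((Q ^ 2) ^ 6 - 1)) := h
  refine h1.trans (dvd_of_eq ?_)
  have h7 : (Q ^ 2) ^ 6 - 1 = (Q ^ 6 + 1) * (Q ^ 6 - 1) := by
    have := Nat.sq_sub_sq (Q ^ 6) 1
    rw [one_pow, ← pow_mul] at this
    rw [← pow_mul]
    exact this
  rw [h7, ← pow_mul, ← pow_mul]
  ring

theorem prB_three (Q : ℕ) : prB Q 3 = (Q ^ 2 - 1) * ((Q ^ 4 - 1) * (Q ^ 6 - 1)) := by
  rw [prB_eq, Finset.prod_range_succ, Finset.prod_range_succ, Finset.prod_range_succ, Finset.prod_range_zero]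
  norm_num only [one_mul]
  ring

/-- `PSp6(Q)`, `Ω7(Q)` in `G₂(Q²)` -/
theorem sp6_false {Q c D : ℕ} (hQ : Odd Q) (hQ2 : 2 ≤ Q) (hD : D ∣ 2) (hc : D * c = Q ^ (3 ^ 2) * prB Q 3)
    (hdvd : c ∣ num (.g2 (Q ^ 2))) : False := by
  have b4 := sub_pos' (d := 4) hQ2 (by norm_num)
  have b6 := sub_pos' (d := 6) hQ2 (by norm_num)
  have h1 := g2_sq hdvd
  have hc0 : 0 < c := pos_of_dvd (by (clear * - hQ2 b4 b6; positivity)) h1
  rw [prB_three] at hc
  exact two_false (Z := (Q ^ 4 - 1) * (Q ^ 6 - 1)) (by positivity) hc0 hc h1 (eight_dvd (k := 1) hQ) hD hQ.pow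
    (two_mod (k := 3) hQ)

/-- `PΩ8+(Q)` in `G₂(Q²)` -/
theorem o8_false {Q c D : ℕ} (hQ : Odd Q) (hQ2 : 2 ≤ Q) (hD : D ∣ 4)
    (hc : D * c = Q ^ (4 * (4 - 1)) * ((Q ^ 4 - 1) * prB Q (4 - 1))) (hdvd : c ∣ num (.g2 (Q ^ 2))) : False := by
  have b4 := sub_pos' (d := 4) hQ2 (by norm_num)
  have b6 := sub_pos' (d := 6) hQ2 (by norm_num)
  have h1 := g2_sq hdvd
  have hc0 : 0 < c := pos_of_dvd (by (clear * - hQ2 b4 b6; positivity)) h1
  have h2 : D * c = Q ^ (4 * (4 - 1)) * (((Q ^ 4 - 1) * (Q ^ 2 - 1)) * ((Q ^ 4 - 1) * (Q ^ 6 - 1))) := by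
    rw [hc]
    show _ * (_ * prB Q 3) = _
    rw [prB_three]
    ring
  refine two_false' (Z := (Q ^ 4 - 1) * (Q ^ 6 - 1)) (by (clear * - b4 b6; positivity)) hc0 h2 h1 ?_ hD hQ.pow (two_mod (k := 3) hQ)
  have h3 := Nat.mul_dvd_mul (eight_dvd (k := 2) hQ) (eight_dvd (k := 1) hQ)
  exact (show 16 ∣ 8 * 8 by norm_num).trans h3

/-- `F4(Q)` in `G₂(Q⁴)` -/
theorem f4_false {Q c : ℕ} (hQ : Odd Q) (hQ2 : 2 ≤ Q) (hc : den (.f4 Q) * c = num (.f4 Q))
    (hdvd : c ∣ num (.g2 (Q ^ 4))) : False := by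
  have b8 := sub_pos' (d := 8) hQ2 (by norm_num)
  have b12 := sub_pos' (d := 12) hQ2 (by norm_num)
  have h1 : 1 * c = Q ^ 24 * ((Q ^ 2 - 1) * (Q ^ 6 - 1) * (Q ^ 8 - 1) * (Q ^ 12 - 1)) := hc
  have h2 : c ∣ (Q ^ 4) ^ 6 * (((Q ^ 4) ^ 2 - 1) * ((Q ^ 4) ^ 6 - 1)) := hdvd
  have h7 : (Q ^ 4) ^ 6 - 1 = (Q ^ 12 + 1) * (Q ^ 12 - 1) := by
    have := Nat.sq_sub_sq (Q ^ 12) 1
    rw [one_pow, ← pow_mul] at this
    rw [← pow_mul]
    exact this
  rw [h7, ← pow_mul, ← pow_mul] at h2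
  have h3 : c ∣ Q ^ 24 * ((Q ^ 12 + 1) * ((Q ^ 8 - 1) * (Q ^ 12 - 1))) := h2.trans (dvd_of_eq (by ring))
  have hc0 : 0 < c := pos_of_dvd (by positivity) h3
  have h4 : 1 * c = Q ^ 24 * (((Q ^ 2 - 1) * (Q ^ 6 - 1)) * ((Q ^ 8 - 1) * (Q ^ 12 - 1))) := by rw [h1]; ring
  exact two_false (Z := (Q ^ 8 - 1) * (Q ^ 12 - 1)) (by positivity) hc0 h4 h3 ((eight_dvd (k := 1) hQ).mul_right _)
    (one_dvd _) hQ.pow (two_mod (k := 6) hQ)

/-- `PSp4(p^{3k})` in `G₂(p^{4k})` -/
theorem sp4_false {k : ℕ} (hp : p.Prime) (hp2 : p ≠ 2) (hk : 1 ≤ k)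
    (hc : den (.psp 2 (p ^ (3 * k))) * c = num (.psp 2 (p ^ (3 * k)))) (hdvd : c ∣ num (.g2 (p ^ (4 * k)))) : False := by
  have hP : 2 ≤ p ^ k := hp.two_le.trans (Nat.le_self_pow (by omega) _)
  have b8 := sub_pos' (d := 8) hP (by norm_num)
  have b12 := sub_pos' (d := 12) hP (by norm_num)
  obtain ⟨t, ht⟩ := exists_prim (q := p ^ k) (e := 6) hP (by norm_num) (by
    rintro ⟨h, -⟩
    have h1 := dvd_pow_self p (show k ≠ 0 by omega)
    rw [h] at h1
    exact hp2 ((Nat.prime_dvd_prime_iff_eq hp Nat.prime_two).1 h1))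
  have h1 : Nat.gcd 2 (p ^ (3 * k) - 1) * c = (p ^ (3 * k)) ^ (2 ^ 2) * prB (p ^ (3 * k)) 2 := hc
  have h2 : c ∣ (p ^ (4 * k)) ^ 6 * (((p ^ (4 * k)) ^ 2 - 1) * ((p ^ (4 * k)) ^ 6 - 1)) := hdvd
  have h7 : prB (p ^ (3 * k)) 2 = ((p ^ (3 * k)) ^ 2 - 1) * ((p ^ (3 * k)) ^ 4 - 1) := by
    rw [prB_eq, Finset.prod_range_succ, Finset.prod_range_succ, Finset.prod_range_zero]
    norm_num only [one_mul]
  have e1 : (p ^ (3 * k)) ^ 2 = (p ^ k) ^ 6 := by rw [← pow_mul, ← pow_mul]; congr 1; ring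
  have e2 : (p ^ (3 * k)) ^ 4 = (p ^ k) ^ 12 := by rw [← pow_mul, ← pow_mul]; congr 1; ring
  have e3 : (p ^ (4 * k)) ^ 2 = (p ^ k) ^ 8 := by rw [← pow_mul, ← pow_mul]; congr 1; ring
  have e4 : (p ^ (4 * k)) ^ 6 = (p ^ k) ^ 24 := by rw [← pow_mul, ← pow_mul]; congr 1; ring
  rw [h7, e1, e2] at h1
  rw [e3, e4] at h2
  generalize p ^ k = P at *
  have h8 : P ^ 24 - 1 = (P ^ 12 + 1) * (P ^ 12 - 1) := by
    have := Nat.sq_sub_sq (P ^ 12) 1
    rw [one_pow, ← pow_mul] at this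
    exact this
  have h3 : c ∣ P ^ 24 * (((P ^ 8 - 1) * (P ^ 12 + 1)) * (P ^ 12 - 1)) := by
    refine h2.trans (dvd_of_eq ?_)
    rw [h8]
    ring
  have hc0 : 0 < c := pos_of_dvd (by (clear * - hP b8 b12; positivity)) h3
  refine cancel_prime ht.prime (Z := P ^ 12 - 1) (by positivity) hc0 h1 h3 (ht.dvd dvd_rfl) (fun h => ?_)
    (ht.not_dvd_pow _) (fun h => ?_)
  · exact ht.not_dvd_two (by norm_num) (h.trans (Nat.gcd_dvd_left _ _))
  · rcases ht.prime.dvd_mul.1 h with h | h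
    · exact ht.not_dvd_sub (by norm_num) h
    · have h9 : t ∣ P ^ 12 - 1 := ht.dvd (by norm_num)
      have h10 := Nat.dvd_sub h h9
      have h11 : P ^ 12 + 1 - (P ^ 12 - 1) = 2 := by (clear * - b12 e2; omega)
      rw [h11] at h10
      exact ht.not_dvd_two (by norm_num) h10

/-- `3D4(Q)` in `G₂(Q⁴)` -/
theorem td4_false' {Q : ℕ} (hQ2 : 3 ≤ Q)
    (hc : den (.td4 Q) * c = num (.td4 Q)) (hdvd : c ∣ num (.g2 (Q ^ 4))) : False := by
  have b2 := sub_pos' (d := 2) (q := Q) (by omega) (by norm_num)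
  have b4 := sub_pos' (d := 4) (q := Q) (by omega) (by norm_num)
  have b8 := sub_pos' (d := 8) (q := Q) (by omega) (by norm_num)
  obtain ⟨t, ht⟩ := exists_prim (q := Q) (e := 3) (by omega) (by norm_num) (by omega)
  have h1 : 1 * c = Q ^ 12 * ((Q ^ 2 - 1) * (Q ^ 6 - 1) * (Q ^ 8 + Q ^ 4 + 1)) := hc
  have h2 : c ∣ (Q ^ 4) ^ 6 * (((Q ^ 4) ^ 2 - 1) * ((Q ^ 4) ^ 6 - 1)) := hdvd
  rw [← pow_mul, ← pow_mul] at h2
  norm_num only at h2
  have h8 : Q ^ 24 - 1 = (Q ^ 12 + 1) * (Q ^ 12 - 1) := by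
    have := Nat.sq_sub_sq (Q ^ 12) 1
    rw [one_pow, ← pow_mul] at this
    exact this
  have h9 : Q ^ 12 - 1 = (Q ^ 8 + Q ^ 4 + 1) * (Q ^ 4 - 1) := by
    obtain ⟨a, ha⟩ : ∃ a, Q ^ 4 = a + 1 := ⟨Q ^ 4 - 1, by omega⟩
    have h10 : Q ^ 12 = (a + 1) ^ 3 := by rw [← ha]; ring
    have h11 : Q ^ 8 = (a + 1) ^ 2 := by rw [← ha]; ring
    rw [h10, h11, ha, Nat.add_sub_cancel]
    have : (a + 1) ^ 3 = ((a + 1) ^ 2 + (a + 1) + 1) * a + 1 := by ring
    omega
  have h3 : c ∣ Q ^ 24 * (((Q ^ 8 - 1) * ((Q ^ 4 - 1) * (Q ^ 12 + 1))) * (Q ^ 8 + Q ^ 4 + 1)) := by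
    refine h2.trans (dvd_of_eq ?_)
    rw [h8, h9]
    ring
  have hc0 : 0 < c := pos_of_dvd (by positivity) h3
  have hodd := ht.odd (by norm_num)
  refine cancel_prime ht.prime (Z := Q ^ 8 + Q ^ 4 + 1) (by positivity) hc0 h1 h3
    ((ht.dvd (by norm_num)).mul_left _) (fun h => ?_) (ht.not_dvd_pow _) (fun h => ?_)
  · exact ht.prime.one_lt.ne' (Nat.dvd_one.1 h)
  · rcases ht.prime.dvd_mul.1 h with h | h
    · exact ht.not_dvd_sub (by norm_num) h
    · rcases ht.prime.dvd_mul.1 h with h | h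
      · exact ht.not_dvd_sub (by norm_num) h
      · exact not_dvd_add_odd ht rfl (by norm_num) 12 h

/-! ### top exponent `3 f` -/

/-- primes of order `3` modulo `Q = p ^ f₁` for `q = Q ^ 2` -/
theorem exists_three {f₁ : ℕ} (hp : p.Prime) (hp2 : p ≠ 2) (hf₁ : 1 ≤ f₁)
    (hs : ∀ s, Prim (p ^ (2 * f₁)) 3 s → s ∣ c) : ∃ r, Prim (p ^ f₁) 3 r ∧ r ∣ c := by
  obtain ⟨r, hr⟩ := exists_prim (q := p) (e := f₁ * 3) hp.two_le (by omega) (by omega)
  have hr1 := prim_pow hf₁ hr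
  have hr2 := Cfsg.Agent.H425.Chr.prim_quot (f := 2) (by norm_num) hr1
  rw [← pow_mul, mul_comm f₁ 2] at hr2
  exact ⟨r, hr1, hs r hr2⟩

/-- the survivors -/
def Out3 (p f : ℕ) (g : Grp) : Prop :=
  g = .g2 (p ^ f) ∨ g = .psl 2 (p ^ (3 * f)) ∨ g = .psl 3 (p ^ f) ∨
    ∃ a, f = 2 * a ∧ (g = .g2 (p ^ a) ∨ g = .psl 2 (p ^ (3 * a)))

/-- **Top exponent `3 f`.** -/
theorem top3 {f₁ : ℕ} (hp : p.Prime) (hp2 : p ≠ 2) (hf : 1 ≤ f) (hg : Cond g) (hch : HasChar p g)
    (hc : den g * c = num g) (hdvd : c ∣ num (.g2 (p ^ f))) (hf₁ : 1 ≤ f₁) (hfl : fld g = p ^ f₁)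
    (hK : KD p f₁ c (Xg g) (Yg g) (Mg g) (ag g)) (hfM : f₁ * Mg g = f * 3)
    (hs3 : ∀ s, Prim (p ^ f) 3 s → s ∣ c) : Out3 p f g := by
  have hT := td_g2 hp hf hdvd
  have h2 : 2 * ag g ≤ 4 * Mg g := by
    have h2 := hT.pp hK.pp
    have h4 : f * (ag g * 3) ≤ f * (6 * Mg g) := by
      calc f * (ag g * 3) = (f * 3) * ag g := by ring
        _ = (f₁ * Mg g) * ag g := by rw [hfM]
        _ = (f₁ * ag g) * Mg g := by ring
        _ ≤ (f * 6) * Mg g := Nat.mul_le_mul_right _ h2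
        _ = f * (6 * Mg g) := by ring
    have := Nat.le_of_mul_le_mul_left h4 (by omega)
    omega
  -- the exponents of `g`
  have hE : ∀ e, Yg g e → 3 ≤ e → e ∣ 2 * Mg g := by
    intro e he h3
    have h3' : 1 * e ≤ f₁ * e := Nat.mul_le_mul_right _ hf₁
    obtain ⟨t, ht⟩ := exists_prim (q := p) (e := f₁ * e) hp.two_le (by omega) (by omega)
    obtain ⟨i, hi, hi2⟩ := hT.exp ht (hK.has he (by omega) ht)
    have hi' : i ∈ [2, 6] := hi
    simp only [List.mem_cons, List.not_mem_nil, or_false] at hi'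
    have h6 : f₁ * e ∣ f * 6 := by
      rcases hi' with rfl | rfl
      · exact hi2.trans ⟨3, by ring⟩
      · exact hi2
    rw [show f * 6 = f * 3 * 2 by ring, ← hfM, mul_assoc] at h6
    rw [mul_comm 2]
    exact Nat.dvd_of_mul_dvd_mul_left (by omega) h6
  have hodd : Odd (p ^ f₁) := (hp.odd_of_ne_two hp2).pow
  have hQ2 : 2 ≤ p ^ f₁ := hp.two_le.trans (Nat.le_self_pow (by omega) _)
  have hex : ∀ {f₁ : ℕ}, 1 ≤ f₁ → f = 2 * f₁ → ∃ r, Prim (p ^ f₁) 3 r ∧ r ∣ c := by
    rintro f₁ h1 rfl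
    exact exists_three hp hp2 h1 hs3
  cases g
  case psl m q =>
    obtain ⟨hm, -, -⟩ := hg
    have hb := bd_psl (ρ := 4) (by omega) h2
    obtain rfl : q = p ^ f₁ := hfl
    have hfM' : f₁ * m = f * 3 := hfM
    have hE' : ∀ e, (2 ≤ e ∧ e ≤ m) → 3 ≤ e → e ∣ 2 * m := hE
    have h5 : m = 2 ∨ m = 3 ∨ m = 4 ∨ m = 5 := by omega
    rcases h5 with rfl | rfl | rfl | rfl
    · right; right; right
      obtain ⟨a, rfl⟩ : ∃ a, f = 2 * a := ⟨f / 2, by omega⟩
      obtain rfl : f₁ = 3 * a := by omega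
      exact ⟨a, rfl, Or.inr rfl⟩
    · obtain rfl : f₁ = f := by omega
      exact Or.inr (Or.inr (Or.inl rfl))
    · exact absurd (hE' 3 ⟨by norm_num, by norm_num⟩ le_rfl) (by norm_num)
    · exact absurd (hE' 3 ⟨by norm_num, by norm_num⟩ le_rfl) (by norm_num)
  case psp m q =>
    exfalso
    obtain ⟨hm, -, -⟩ := hg
    have hb := bd_psp (ρ := 4) (by omega) h2
    obtain rfl : q = p ^ f₁ := hfl
    have hfM' : f₁ * (2 * m) = f * 3 := hfM
    have hE' : ∀ e, (1 ≤ e ∧ e ≤ 2 * m ∧ 2 ∣ e) → 3 ≤ e → e ∣ 2 * (2 * m) := hE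
    have h5 : m = 2 ∨ m = 3 ∨ m = 4 := by omega
    rcases h5 with rfl | rfl | rfl
    · obtain ⟨k, rfl⟩ : ∃ k, f = 4 * k := ⟨f / 4, by omega⟩
      obtain rfl : f₁ = 3 * k := by omega
      exact sp4_false hp hp2 (by omega) hc hdvd
    · obtain rfl : f = f₁ * 2 := by omega
      rw [pow_mul] at hdvd
      exact sp6_false hodd hQ2 (Nat.gcd_dvd_left _ _)
        (hc : Nat.gcd 2 (p ^ f₁ - 1) * c = (p ^ f₁) ^ (3 ^ 2) * prB (p ^ f₁) 3) hdvd
    · exact absurd (hE' 6 ⟨by norm_num, by norm_num, by norm_num⟩ (by norm_num)) (by norm_num)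
  case psu m q =>
    exfalso
    obtain ⟨hm, -, -⟩ := hg
    have hb := bd_psu (ρ := 4) hm h2
    obtain rfl : q = p ^ f₁ := hfl
    have hfM' : f₁ * (2 * (if m % 2 = 0 then m - 1 else m)) = f * 3 := hfM
    have hE' : ∀ e, (3 ≤ e ∧ ((e ≤ m ∧ e % 2 = 0) ∨ ∃ j, e = 2 * j ∧ j ≤ m ∧ j % 2 = 1)) → 3 ≤ e →
      e ∣ 2 * (2 * (if m % 2 = 0 then m - 1 else m)) := hE
    have h6 : ∀ m, 3 ≤ m → 3 ≤ 6 ∧ ((6 ≤ m ∧ 6 % 2 = 0) ∨ ∃ j, 6 = 2 * j ∧ j ≤ m ∧ j % 2 = 1) :=
      fun m hm => ⟨by norm_num, Or.inr ⟨3, rfl, hm, rfl⟩⟩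
    have h5 : m = 3 ∨ m = 4 ∨ m = 5 ∨ m = 6 ∨ m = 7 ∨ m = 8 ∨ m = 9 := by omega
    rcases h5 with rfl | rfl | rfl | rfl | rfl | rfl | rfl
    · norm_num only [if_false] at hfM'
      obtain ⟨r, hr, hrc⟩ := hex hf₁ (by omega)
      refine not_dvd_u (e := 3) hr rfl (by norm_num) (n := 3) (by norm_num) (3 * (3 - 1) / 2) ?_
      exact (hrc.mul_left _).trans (dvd_of_eq hc)
    · norm_num only [if_true] at hfM'
      obtain ⟨r, hr, hrc⟩ := hex hf₁ (by omega)
      refine not_dvd_u (e := 3) hr rfl (by norm_num) (n := 4) (by norm_num) (4 * (4 - 1) / 2) ?_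
      exact (hrc.mul_left _).trans (dvd_of_eq hc)
    · exact absurd (hE' 6 (h6 _ (by norm_num)) (by norm_num)) (by norm_num)
    · exact absurd (hE' 6 (h6 _ (by norm_num)) (by norm_num)) (by norm_num)
    · exact absurd (hE' 6 (h6 _ (by norm_num)) (by norm_num)) (by norm_num)
    · exact absurd (hE' 6 (h6 _ (by norm_num)) (by norm_num)) (by norm_num)
    · exact absurd (hE' 8 ⟨by norm_num, Or.inl ⟨by norm_num, by norm_num⟩⟩ (by norm_num)) (by norm_num)
  case oodd m q =>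
    exfalso
    obtain ⟨hm, -, -⟩ := hg
    have hb := bd_psp (ρ := 4) (by omega) h2
    obtain rfl : q = p ^ f₁ := hfl
    have hfM' : f₁ * (2 * m) = f * 3 := hfM
    have hE' : ∀ e, (1 ≤ e ∧ e ≤ 2 * m ∧ 2 ∣ e) → 3 ≤ e → e ∣ 2 * (2 * m) := hE
    have h5 : m = 3 ∨ m = 4 := by omega
    rcases h5 with rfl | rfl
    · obtain rfl : f = f₁ * 2 := by omega
      rw [pow_mul] at hdvd
      exact sp6_false hodd hQ2 dvd_rfl (hc : 2 * c = (p ^ f₁) ^ (3 ^ 2) * prB (p ^ f₁) 3) hdvd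
    · exact absurd (hE' 6 ⟨by norm_num, by norm_num, by norm_num⟩ (by norm_num)) (by norm_num)
  case oplus m q =>
    exfalso
    obtain ⟨hm, -⟩ := hg
    have hb := bd_oplus (ρ := 4) (by omega) h2
    obtain rfl : q = p ^ f₁ := hfl
    obtain rfl : m = 4 := by omega
    have hfM' : f₁ * (2 * (4 - 1)) = f * 3 := hfM
    obtain rfl : f = f₁ * 2 := by omega
    rw [pow_mul] at hdvd
    exact o8_false hodd hQ2 (Nat.gcd_dvd_left _ _) (hc : Nat.gcd 4 ((p ^ f₁) ^ 4 - 1) * c =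
      (p ^ f₁) ^ (4 * (4 - 1)) * (((p ^ f₁) ^ 4 - 1) * prB (p ^ f₁) (4 - 1))) hdvd
  case ominus m q =>
    exfalso
    obtain ⟨hm, -⟩ := hg
    have hb := bd_ominus (ρ := 4) (by omega) h2
    have hE' : ∀ e, (4 ≤ e ∧ e ≤ 2 * m ∧ 2 ∣ e) → 3 ≤ e → e ∣ 2 * (2 * m) := hE
    have h5 : m = 4 ∨ m = 5 := by omega
    rcases h5 with rfl | rfl
    · exact absurd (hE' 6 ⟨by norm_num, by norm_num, by norm_num⟩ (by norm_num)) (by norm_num)
    · exact absurd (hE' 6 ⟨by norm_num, by norm_num, by norm_num⟩ (by norm_num)) (by norm_num)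
  case g2 q =>
    obtain rfl : q = p ^ f₁ := hfl
    have hfM' : f₁ * 6 = f * 3 := hfM
    exact Or.inr (Or.inr (Or.inr ⟨f₁, by omega, Or.inl rfl⟩))
  case f4 q =>
    exfalso
    obtain rfl : q = p ^ f₁ := hfl
    have hfM' : f₁ * 12 = f * 3 := hfM
    obtain rfl : f = f₁ * 4 := by omega
    rw [pow_mul] at hdvd
    exact f4_false hodd hQ2 hc hdvd
  case e6 q =>
    have h : 2 * 36 ≤ 4 * 12 := h2
    omega
  case e7 q =>
    have h : 2 * 63 ≤ 4 * 18 := h2
    omega
  case e8 q =>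
    have h : 2 * 120 ≤ 4 * 30 := h2
    omega
  case te6 q =>
    have hE' : ∀ e, e ∈ [2, 3, 4, 6, 8, 10, 12, 18] → 3 ≤ e → e ∣ 2 * 18 := hE
    exact absurd (hE' 8 (by decide) (by norm_num)) (by norm_num)
  case td4 q =>
    exfalso
    obtain rfl : q = p ^ f₁ := hfl
    have hfM' : f₁ * 12 = f * 3 := hfM
    obtain rfl : f = f₁ * 4 := by omega
    rw [pow_mul] at hdvd
    have h3 : 3 ≤ p ^ f₁ := by
      obtain ⟨k, hk⟩ := hodd
      omega
    exact td4_false' h3 hc hdvd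
  case tf4 q =>
    exfalso
    obtain rfl : q = p ^ f₁ := hfl
    obtain ⟨m, hm, hqm⟩ : ∃ m, 1 ≤ m ∧ p ^ f₁ = 2 ^ (2 * m + 1) := hg
    exact ne_two_pow hp hp2 hf₁ hqm
  case sz q =>
    exfalso
    obtain rfl : q = p ^ f₁ := hfl
    obtain ⟨m, hm, hqm⟩ : ∃ m, 1 ≤ m ∧ p ^ f₁ = 2 ^ (2 * m + 1) := hg
    exact ne_two_pow hp hp2 hf₁ hqm
  case ree q =>
    exfalso
    obtain rfl : q = p ^ f₁ := hfl
    have hfM' : f₁ * 6 = f * 3 := hfM
    obtain ⟨r, hr, hrc⟩ := hex hf₁ (by omega)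
    have h7 : 1 * c = (p ^ f₁) ^ 3 * ((p ^ f₁ - 1) * ((p ^ f₁) ^ 3 + 1)) := hc
    rw [one_mul] at h7
    rw [h7] at hrc
    rcases hr.prime.dvd_mul.1 hrc with h9 | h9
    · exact hr.not_dvd_pow _ h9
    · rcases hr.prime.dvd_mul.1 h9 with h9 | h9
      · exact hr.not_dvd_qsub le_rfl h9
      · exact not_dvd_add_odd hr rfl (by norm_num) 3 h9
  all_goals exact absurd hch not_false

/-- **Class 3.** -/
theorem three (hp : p.Prime) (hp2 : p ≠ 2) (hf : 1 ≤ f) (hg : Cond g) (hch : HasChar p g)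
    (hc : den g * c = num g) (hdvd : c ∣ num (.g2 (p ^ f))) (hs3 : ∀ s, Prim (p ^ f) 3 s → s ∣ c) :
    Out3 p f g := by
  obtain ⟨f₁, hf₁, hfl, hK, hY⟩ := kd_all hp hg hch hc
  have hT := td_g2 hp hf hdvd
  obtain ⟨h1, h2⟩ := top_le hp hp2 hf (Or.inl rfl) hT hf₁ hK hY hs3
  obtain ⟨k, hk⟩ := h2
  have hk2 : k < 3 := by
    by_contra h
    have h3 : f₁ * Mg g * 3 ≤ f₁ * Mg g * k := Nat.mul_le_mul_left _ (by omega)
    omega
  interval_cases k
  · omega
  · -- top exponent `6 f`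
    have hfM : f₁ * Mg g = f * 6 := by omega
    rcases top6 hp hp2 hf hg hch hc hdvd hf₁ hfl hK hfM with rfl | rfl | rfl | rfl
    · exact Or.inl rfl
    · exact Or.inr (Or.inl rfl)
    · exfalso
      obtain ⟨r, hr⟩ := exists_prim (q := p) (e := f * 3) hp.two_le (by omega) (by omega)
      have hr1 := prim_pow hf hr
      refine not_dvd_u (e := 3) hr1 rfl (by norm_num) (n := 3) (by norm_num) (3 * (3 - 1) / 2) ?_
      exact ((hs3 r hr1).mul_left _).trans (dvd_of_eq hc)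
    · exfalso
      obtain ⟨r, hr⟩ := exists_prim (q := p) (e := f * 3) hp.two_le (by omega) (by omega)
      have hr1 := prim_pow hf hr
      have h6 := hs3 r hr1
      have h7 : 1 * c = (p ^ f) ^ 3 * ((p ^ f - 1) * ((p ^ f) ^ 3 + 1)) := hc
      rw [one_mul] at h7
      rw [h7] at h6
      rcases hr.prime.dvd_mul.1 h6 with h9 | h9
      · exact hr1.not_dvd_pow _ h9
      · rcases hr.prime.dvd_mul.1 h9 with h9 | h9
        · exact hr1.not_dvd_qsub le_rfl h9
        · exact not_dvd_add_odd hr1 rfl (by norm_num) 3 h9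
  · exact top3 hp hp2 hf hg hch hc hdvd hf₁ hfl hK (by omega) hs3

end Cfsg.Agent.H395.GCov
end

-- part: H395/GCov/CharP
section
/-!
# S2499, the row `G₂(q)`, `q` odd: TASK CHARP (helper395)

`charThree : CharThree`, `charSix : CharSix`.
-/

set_option autoImplicit false

namespace Cfsg.Agent.H395.GCov

open Cfsg.Agent.H983.Cov

theorem charThree : CharThree := fun hp hp2 hf hg hch hc hdvd hs => three hp hp2 hf hg hch hc hdvd hs

theorem charSix : CharSix := fun hp hp2 hf hg hch hc hdvd hs => six hp hp2 hf hg hch hc hdvd hs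

end Cfsg.Agent.H395.GCov
end

-- part: H153/Cov/Ru/Main
section
/-!
# S2499: `Ru` (helper153)

Elements of order 29 on one side, elements of orders 16, 26, 20 on the other side.
-/

set_option autoImplicit false

namespace Cfsg.Agent.H153.Cov.Ru

open Cfsg Subgroup Cfsg.Agent.SporadicB Cfsg.Agent.H436.TwoRu Cfsg.Agent.OrdDiv
open Cfsg.Agent.H257.El (Known Top SitP surv)

/-- a group of order 8 on which an element of order 16 acts -/
theorem comm_of_eight {Q : Type*} [Group Q] [Finite Q] {D : Subgroup Q} (h8 : Nat.card D = 8) {y : Q}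
    (hy : orderOf y = 16) (hyD : ∀ s ∈ D, y * s * y⁻¹ ∈ D) (hc : y ^ 4 ∈ D) :
    ∀ a ∈ D, ∀ b ∈ D, a * b = b * a := by
  have ho : orderOf (⟨y ^ 4, hc⟩ : D) = 4 := by
    rw [Subgroup.orderOf_mk, orderOf_pow_of_dvd (by norm_num) (by rw [hy]; norm_num), hy]
  have hi : (zpowers (⟨y ^ 4, hc⟩ : D)).index = 2 := by
    have h1 := Subgroup.card_mul_index (zpowers (⟨y ^ 4, hc⟩ : D))
    rw [Nat.card_zpowers, ho, h8] at h1
    omega
  have key : ∀ a b : D, a ∉ zpowers (⟨y ^ 4, hc⟩ : D) → b ∉ zpowers (⟨y ^ 4, hc⟩ : D) →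
      ∃ i : ℤ, (b : Q) = a * (y ^ 4) ^ i := by
    intro a b ha hb
    have h1 : a⁻¹ * b ∈ zpowers (⟨y ^ 4, hc⟩ : D) := by
      rw [Subgroup.mul_mem_iff_of_index_two hi, inv_mem_iff]
      exact ⟨fun h => absurd h ha, fun h => absurd h hb⟩
    obtain ⟨i, hi⟩ := mem_zpowers_iff.1 h1
    refine ⟨i, ?_⟩
    have h2 : (y ^ 4) ^ i = (a : Q)⁻¹ * b := congrArg Subtype.val hi
    rw [h2]
    group
  have hcm : ∀ i : ℤ, y * (y ^ 4) ^ i = (y ^ 4) ^ i * y := fun i =>
    (((Commute.refl y).pow_right 4).zpow_right i).eq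
  have hmem : ∀ s (hs : s ∈ D), (⟨s, hs⟩ : D) ∈ zpowers (⟨y ^ 4, hc⟩ : D) ↔ ∃ i : ℤ, s = (y ^ 4) ^ i := by
    intro s hs
    rw [mem_zpowers_iff]
    constructor
    · rintro ⟨i, hi⟩
      exact ⟨i, (congrArg Subtype.val hi).symm⟩
    · rintro ⟨i, hi⟩
      exact ⟨i, Subtype.ext hi.symm⟩
  have hcc : ∀ s ∈ D, s * y ^ 4 = y ^ 4 * s := by
    intro s hs
    by_cases h1 : (⟨s, hs⟩ : D) ∈ zpowers (⟨y ^ 4, hc⟩ : D)
    · obtain ⟨i, rfl⟩ := (hmem s hs).1 h1
      exact ((Commute.refl (y ^ 4)).zpow_left i).eq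
    · have h2 : (⟨y * s * y⁻¹, hyD s hs⟩ : D) ∉ zpowers (⟨y ^ 4, hc⟩ : D) := by
        intro h3
        obtain ⟨i, hi⟩ := (hmem _ _).1 h3
        apply h1
        rw [hmem]
        refine ⟨i, ?_⟩
        calc s = y⁻¹ * (y * s * y⁻¹) * y := by group
          _ = y⁻¹ * ((y ^ 4) ^ i * y) := by rw [hi, mul_assoc]
          _ = y⁻¹ * (y * (y ^ 4) ^ i) := by rw [hcm]
          _ = _ := by group
      obtain ⟨i, hi⟩ := key _ _ h1 h2
      have hi' : y * s * y⁻¹ = s * (y ^ 4) ^ i := hi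
      have hstep : ∀ j : ℤ, y * (s * (y ^ 4) ^ j) * y⁻¹ = s * (y ^ 4) ^ (i + j) := by
        intro j
        calc y * (s * (y ^ 4) ^ j) * y⁻¹ = y * s * y⁻¹ * (y * (y ^ 4) ^ j) * y⁻¹ := by group
          _ = s * (y ^ 4) ^ i * ((y ^ 4) ^ j * y) * y⁻¹ := by rw [hi', hcm]
          _ = s * ((y ^ 4) ^ i * (y ^ 4) ^ j) := by group
          _ = _ := by rw [← zpow_add]
      have h16 : y ^ 16 = 1 := by rw [← hy, pow_orderOf_eq_one]
      have h4 : y * (y * (y * (y * s * y⁻¹) * y⁻¹) * y⁻¹) * y⁻¹ = s := by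
        rw [hi', hstep, hstep, hstep]
        have h5 : (y ^ 4) ^ (i + (i + (i + i))) = 1 := by
          rw [show i + (i + (i + i)) = 4 * i by ring, zpow_mul]
          have : (y ^ 4) ^ (4 : ℤ) = 1 := by
            rw [show (4 : ℤ) = ((4 : ℕ) : ℤ) by norm_num, zpow_natCast, ← pow_mul]
            exact h16
          rw [this, one_zpow]
        rw [h5, mul_one]
      have h6 : y ^ 4 = y * y * y * y := by rw [pow_succ, pow_succ, pow_two]
      calc s * y ^ 4 = y * (y * (y * (y * s * y⁻¹) * y⁻¹) * y⁻¹) * y⁻¹ * y ^ 4 := by rw [h4]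
        _ = y ^ 4 * s := by rw [h6]; group
  intro a ha b hb
  by_cases h1 : (⟨a, ha⟩ : D) ∈ zpowers (⟨y ^ 4, hc⟩ : D)
  · obtain ⟨i, rfl⟩ := (hmem a ha).1 h1
    exact ((show Commute b (y ^ 4) from hcc b hb).zpow_right i).symm.eq
  · by_cases h2 : (⟨b, hb⟩ : D) ∈ zpowers (⟨y ^ 4, hc⟩ : D)
    · obtain ⟨i, rfl⟩ := (hmem b hb).1 h2
      exact ((show Commute a (y ^ 4) from hcc a ha).zpow_right i).eq
    · obtain ⟨i, hi⟩ := key _ _ h1 h2
      have hi' : b = a * (y ^ 4) ^ i := hi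
      rw [hi']
      have h3 : Commute a ((y ^ 4) ^ i) := (show Commute a (y ^ 4) from hcc a ha).zpow_right i
      exact ((Commute.refl a).mul_right h3).eq

theorem false_of_sixteen {Q : Type*} [Group Q] [Finite Q] (N : Subgroup Q) [N.Normal] (h8 : 8 ∣ Nat.card N)
    (h16 : ¬ 16 ∣ Nat.card N) (hab : ∀ D : Sylow 2 N, ¬ ∀ a ∈ (D : Subgroup N), ∀ b ∈ (D : Subgroup N), a * b = b * a)
    {y : Q} (hy : orderOf y = 16) (hyN : y ^ 4 ∈ N) : False := by
  have hf2 : Fact (Nat.Prime 2) := ⟨Nat.prime_two⟩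
  have hPy : IsPGroup 2 (zpowers y) := IsPGroup.of_card (n := 4) (by rw [Nat.card_zpowers, hy]; norm_num)
  obtain ⟨P, hP⟩ := hPy.exists_le_sylow
  have hyP : y ∈ (P : Subgroup Q) := hP (mem_zpowers y)
  have h1 : IsPGroup 2 ((P : Subgroup Q).subgroupOf N) :=
    P.isPGroup'.comap_of_injective N.subtype N.subtype_injective
  have h2 : ¬ 2 ∣ ((P : Subgroup Q).subgroupOf N).index := fun h =>
    P.not_dvd_index (h.trans (Lib.GoldschmidtFusion.relIndex_dvd_index_of_normal_right (P : Subgroup Q) N))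
  obtain ⟨D, hD⟩ : ∃ D : Sylow 2 N, (D : Subgroup N) = (P : Subgroup Q).subgroupOf N := ⟨h1.toSylow h2, rfl⟩
  have h3 : Nat.card D = 8 := Top.card_sylow_of D (a := 3) (by simpa only [_root_.Nat.reducePow] using h8) (by simpa using h16)
  have h4 : Nat.card ((P : Subgroup Q) ⊓ N : Subgroup Q) = 8 := by
    rw [← h3, ← Subgroup.subgroupOf_map_subtype, Subgroup.card_map_of_injective N.subtype_injective, ← hD]
  have h5 := comm_of_eight h4 hy (fun s hs => Subgroup.mem_inf.2 ⟨(P : Subgroup Q).mul_mem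
    ((P : Subgroup Q).mul_mem hyP hs.1) ((P : Subgroup Q).inv_mem hyP),
    (inferInstance : N.Normal).conj_mem _ hs.2 y⟩) (Subgroup.mem_inf.2 ⟨(P : Subgroup Q).pow_mem hyP 4, hyN⟩)
  refine hab D fun a ha b hb => Subtype.ext (h5 a ⟨?_, a.2⟩ b ⟨?_, b.2⟩)
  · rw [hD] at ha
    exact ha
  · rw [hD] at hb
    exact hb

theorem k_cases {k : ℕ} (h : k ∣ 48) : k = 1 ∨ k = 2 ∨ k = 3 ∨ k = 4 ∨ k = 6 ∨ k = 8 ∨ k = 12 ∨ k = 16 ∨ k = 24 ∨
    k = 48 := by
  have h1 : k ∈ Nat.divisors 48 := Nat.mem_divisors.2 ⟨h, by norm_num⟩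
  rw [show Nat.divisors 48 = {1, 2, 3, 4, 6, 8, 12, 16, 24, 48} by decide] at h1
  simpa only [_root_.Finset.mem_insert, _root_.Finset.mem_singleton] using h1

theorem surv_ru : ((surv 145926144000 l 13 [5]).all fun g =>
    [Grp.psl 2 64, .psl 2 25, .psu 3 4, .g2 4, .sz 8, .tits].contains g) = true := by decide +kernel

/-- **no proper subgroup has elements of orders 16, 26, 20** -/
theorem no_all (tab : OrderTable.{0}) (known : Known.{0}) {R : Subgroup RuOrder.H} (hR : R ≠ ⊤)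
    {y w v : R} (hy : orderOf y = 16) (hw : orderOf w = 26) (hv : orderOf v = 20) : False := by
  have := finite_H
  have hfR := finR (R := R)
  have hf13 : Fact (Nat.Prime 13) := ⟨by norm_num⟩
  have hf2 : Fact (Nat.Prime 2) := ⟨by norm_num⟩
  have h13 : 13 ∣ Nat.card R := (show 13 ∣ 26 by norm_num).trans (hw ▸ _root_.orderOf_dvd_natCard w)
  have h5 : 5 ∣ Nat.card R := (show 5 ∣ 20 by norm_num).trans (hv ▸ _root_.orderOf_dvd_natCard v)
  obtain ⟨O, hO, N, ht, -, g, hg, hr, hc⟩ := H180.ElS.exists_surv_of_dvd tab known (T := RuOrder.H) (r := 13) (s := 5)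
    (l := l) card_H (by decide +kernel) (by norm_num) (by norm_num)
    (noOrd13 (s := 5) (by norm_num) (by norm_num) (by norm_num)) (by decide +kernel) (by norm_num) hR h13 h5
  have hN := ht.normal
  have hsim := ht.simple
  have h1 : g ∈ [Grp.psl 2 64, .psl 2 25, .psu 3 4, .g2 4, .sz 8, .tits] := by
    have h2 := (List.all_eq_true.1 surv_ru) g hg
    simpa using h2
  obtain ⟨x, hx⟩ := exists_prime_orderOf_dvd_card' (G := R) 13 h13
  have hna : Nat.card N ≠ 13 → ¬ ∀ a b : N, a * b = b * a := fun h hc => h (ht.card_of_comm hc)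
  have hz : ¬ 2 ∣ Nat.card O → orderOf (QuotientGroup.mk' O y) = 16 := by
    intro h2
    rw [H257.Cov.orderOf_mk_quot O, hy]
    intro s hs hsx
    rw [hy] at hsx
    have : s ∣ 2 := hs.dvd_of_dvd_pow (show s ∣ 2 ^ 4 from hsx)
    rw [(Nat.prime_dvd_prime_iff_eq hs (by norm_num)).1 this]
    exact h2
  -- the case of the tables
  have kill : ∀ k₀ : ℕ, 3 ∣ k₀ → ¬ 4 ∣ k₀ → 8 ∣ Nat.card N → 9 ∣ Nat.card N ∨ 25 ∣ Nat.card N →
      (∀ k m : ℕ, k ∣ 48 → m % 13 = 1 → m * (13 * k) = Nat.card N → ∀ z : R, ∀ hz : orderOf z = 13,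
        Nat.card (normalizer ((zpowers (⟨QuotientGroup.mk' O z, mk_mem_N ht hz⟩ : N) : Subgroup N) : Set N)) = 13 * k →
        k = k₀) → False := by
    intro k₀ h3 h4 h8 h9 hk
    refine kill3 ht (not_two_dvd ht h8 h9) hw fun x hx => ?_
    obtain ⟨k, m, e1, e2, e3, e4⟩ := exists_norm ht hx
    have h5 := hk k m e1 e2 e3 x hx e4
    rw [e4, h5]
    refine ⟨h3.mul_left 13, fun h => h4 ?_⟩
    exact (by norm_num : Nat.Coprime 4 13).dvd_of_dvd_mul_left h
  simp only [List.mem_cons, List.not_mem_nil, or_false] at h1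
  rcases h1 with rfl | rfl | rfl | rfl | rfl | rfl
  · -- `PSL₂(64)`
    have hcard : Nat.card N = 262080 := hc.trans (by decide +kernel)
    obtain ⟨k, m, e1, e2, e3, -⟩ := exists_norm ht hx
    rw [hcard] at e3
    rcases k_cases e1 with rfl | rfl | rfl | rfl | rfl | rfl | rfl | rfl | rfl | rfl <;> (clear * - hO e2 e3; omega)
  · -- `PSL₂(25)`
    have hcard : Nat.card N = 7800 := hc.trans (by decide +kernel)
    have hO2 := not_two_dvd ht (by rw [hcard]; norm_num) (Or.inr (by rw [hcard]; norm_num))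
    have hi := ht.index_dvd_out (hna (by rw [hcard]; norm_num)) (aut_psl hr)
    refine false_of_sixteen N (by rw [hcard]; norm_num) (by rw [hcard]; norm_num) (exists_ne_comm hr) (hz hO2) ?_
    obtain ⟨c, hc⟩ := hi
    rw [hc, pow_mul]
    exact N.pow_mem (N.pow_index_mem _) c
  · -- `PSU₃(4)`
    have hcard : Nat.card N = 62400 := hc.trans (by decide +kernel)
    have hO2 := not_two_dvd ht (by rw [hcard]; norm_num) (Or.inr (by rw [hcard]; norm_num))
    refine kill 3 (by norm_num) (by norm_num) (by rw [hcard]; norm_num) (Or.inr (by rw [hcard]; norm_num)) ?_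
    intro k m e1 e2 e3 x hx e4
    rw [hcard] at e3
    have hk : k = 3 ∨ k = 16 := by
      rcases k_cases e1 with rfl | rfl | rfl | rfl | rfl | rfl | rfl | rfl | rfl | rfl <;> (clear * - hO e2 e3 ht hx; omega)
    rcases hk with hk | rfl
    · exact hk
    · exfalso
      have h2 := index_mul_dvd ht hx
      rw [e4] at h2
      have h3 : N.index ∣ 3 := Nat.dvd_of_mul_dvd_mul_right (k := 13 * 16) (by norm_num) (by simpa only [_root_.Nat.reduceMul] using h2)
      have h4 : (QuotientGroup.mk' O y) ^ 3 ∈ N := by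
        obtain ⟨c, hc⟩ := h3
        rw [hc, pow_mul]
        exact N.pow_mem (N.pow_index_mem _) c
      have h6 : (⟨_, h4⟩ : N) ^ 2 ^ 4 = 1 := by
        apply Subtype.ext
        show ((QuotientGroup.mk' O y) ^ 3) ^ 2 ^ 4 = 1
        rw [← pow_mul, mul_comm, pow_mul, show 2 ^ 4 = 16 by norm_num, ← hz hO2, pow_orderOf_eq_one, one_pow]
      have h7 := congrArg Subtype.val (psu_pow_four hr _ h6)
      have h8 : (QuotientGroup.mk' O y) ^ (3 * 4) = 1 := by
        rw [pow_mul]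
        exact h7
      have h9 := orderOf_dvd_of_pow_eq_one h8
      rw [hz hO2] at h9
      norm_num at h9
  · -- `G₂(4)`
    have hcard : Nat.card N = 251596800 := hc.trans (by decide +kernel)
    refine kill 6 (by norm_num) (by norm_num) (by rw [hcard]; norm_num) (Or.inr (by rw [hcard]; norm_num)) ?_
    intro k m e1 e2 e3 x hx e4
    rw [hcard] at e3
    rcases k_cases e1 with rfl | rfl | rfl | rfl | rfl | rfl | rfl | rfl | rfl | rfl <;> (clear * - hO e2 e3 ht hx; omega)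
  · -- `Sz(8)`
    have hcard : Nat.card N = 29120 := hc.trans (by decide +kernel)
    have hna' := hna (by rw [hcard]; norm_num)
    have hi := ht.index_dvd_out hna' (aut_sz hna' hr)
    have h4 : (QuotientGroup.mk' O y) ^ 3 ∈ N := by
      obtain ⟨c, hc⟩ := hi
      rw [hc, pow_mul]
      exact N.pow_mem (N.pow_index_mem _) c
    have h16 : y ^ 16 = 1 := by rw [← hy, pow_orderOf_eq_one]
    have h6 : (⟨_, h4⟩ : N) ^ 2 ^ 4 = 1 := by
      apply Subtype.ext
      show ((QuotientGroup.mk' O y) ^ 3) ^ 2 ^ 4 = 1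
      rw [← pow_mul, mul_comm, pow_mul, show 2 ^ 4 = 16 by norm_num, ← map_pow, h16, map_one, one_pow]
    have h7 := congrArg Subtype.val (sz_pow_four hr _ h6)
    have h8 : QuotientGroup.mk' O (y ^ 12) = 1 := by
      rw [map_pow, show 12 = 3 * 4 by norm_num, pow_mul]
      exact h7
    have h9 : y ^ 12 ∈ O := (QuotientGroup.eq_one_iff _).1 h8
    have h10 : orderOf (y ^ 12) = 4 := by
      rw [orderOf_pow, hy]
      norm_num
    have h11 : IsPGroup 2 (zpowers (⟨y ^ 12, h9⟩ : O)) :=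
      IsPGroup.of_card (n := 2) (by rw [Nat.card_zpowers, Subgroup.orderOf_mk, h10]; norm_num)
    obtain ⟨S, hS⟩ := h11.exists_le_sylow
    obtain ⟨u, hu, huc⟩ := exists_cent_sylow ht (by rw [hcard]; norm_num) S
    have h12 := huc (y ^ 12) ⟨⟨y ^ 12, h9⟩, hS (mem_zpowers _), rfl⟩
    exact no_four (x := (u : RuOrder.H)) (t := ((y ^ 12 : R) : RuOrder.H)) (by rw [Subgroup.orderOf_coe, hu])
      (by rw [Subgroup.orderOf_coe, h10]) (congrArg Subtype.val h12)
  · -- the Tits group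
    have hcard : Nat.card N = 17971200 := hc.trans (by decide +kernel)
    refine kill 6 (by norm_num) (by norm_num) (by rw [hcard]; norm_num) (Or.inr (by rw [hcard]; norm_num)) ?_
    intro k m e1 e2 e3 x hx e4
    rw [hcard] at e3
    rcases k_cases e1 with rfl | rfl | rfl | rfl | rfl | rfl | rfl | rfl | rfl | rfl <;> (clear * - hO e2 e3 ht hx; omega)

/-! ### the overgroups of the elements of order 29 -/

theorem isol29 : H257.Cov.Isol RuOrder.H 29 := by
  have := finite_H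
  refine H257.Cov.isol_of_cent (by norm_num) fun x hx => ?_
  apply Nat.dvd_antisymm (by simpa only [_root_.mul_one] using cent29 x hx)
  have h1 : x ∈ centralizer ({x} : Set RuOrder.H) := mem_centralizer_singleton_iff.2 rfl
  have h2 := Subgroup.orderOf_dvd_natCard _ h1
  rwa [hx] at h2

theorem exists_ord {m : ℕ} (h : ∃ d ∈ H153.Zeros.RuCls.data, d.2.1 = m) : ∃ g : RuOrder.H, orderOf g = m := by
  obtain ⟨d, hd, rfl⟩ := h
  have h2 := List.all_eq_true.1 H153.Zeros.RuCls.data_chk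
  exact ⟨_, (H153.Zeros.RuCls.hasOrd_of_chk (H153.Zeros.RuCls.data_primes d hd) (h2 d hd)).1⟩

theorem noTwo_H (tab : OrderTable.{0}) (known : Known.{0}) : H278.Cov.NoTwo RuOrder.H := by
  have := finite_H
  have p29 : Nat.Prime 29 := by norm_num
  refine H257.Cov.noTwo_of_star_orders (r := 29) (L := [16, 26, 20]) (exists_ord (by decide)) ?_ ?_ ?_
  · intro m hm
    simp only [List.mem_cons, List.not_mem_nil, or_false] at hm
    rcases hm with rfl | rfl | rfl <;> exact exists_ord (by decide)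
  · intro m hm
    simp only [List.mem_cons, List.not_mem_nil, or_false] at hm
    rcases hm with rfl | rfl | rfl
    · exact H257.Cov.oinc_of_chkI tab known (l := l) [] card_H p29 isol29 (by decide +kernel) (by simp only [_root_.List.not_mem_nil, _root_.ne_eq, _root_.IsEmpty.forall_iff, _root_.implies_true])
    · exact H257.Cov.oinc_of_chkI tab known (l := l) [] card_H p29 isol29 (by decide +kernel) (by simp only [_root_.List.not_mem_nil, _root_.ne_eq, _root_.IsEmpty.forall_iff, _root_.implies_true])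
    · refine H257.Cov.oinc_of_chkI tab known (l := l) [.psl 2 29] card_H p29 isol29 (by decide +kernel) ?_
      intro g hg X _ _ hX
      simp only [List.mem_singleton] at hg
      subst hg
      exact H348.Cov.JThree.no_of_mod (m := 20) p29 (by norm_num : 29 = 29 ^ 1) (by norm_num) (by decide) hX
  · intro R hR h
    obtain ⟨y, hyR, hy⟩ := h 16 (by simp)
    obtain ⟨w, hwR, hw⟩ := h 26 (by simp)
    obtain ⟨v, hvR, hv⟩ := h 20 (by simp)
    exact no_all tab known hR (y := ⟨y, hyR⟩) (w := ⟨w, hwR⟩) (v := ⟨v, hvR⟩) (by rw [Subgroup.orderOf_mk, hy])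
      (by rw [Subgroup.orderOf_mk, hw]) (by rw [Subgroup.orderOf_mk, hv])

/-- **S2499, the row `Ru`** -/
theorem noTwo_ru (tab : OrderTable.{0}) (known : Known.{0}) {T : Type} [Group T] [Finite T] (h : Spor.IsoRu T) :
    H278.Cov.NoTwo T := by
  obtain ⟨e⟩ := h
  exact (noTwo_H tab known).congr (e.trans RuLat.Main.equiv).symm

end Cfsg.Agent.H153.Cov.Ru
end

private theorem dce_c24753791a36 : _root_.True := by
  try have : _root_.True := by simp only [_root_.Cfsg.Agent.H507.Cov.wd.eq_1]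
  try have : _root_.True := by simp only [_root_.Cfsg.Agent.H507.Cov.uu.eq_1]
  try have : _root_.True := by simp only [_root_.Cfsg.Agent.H507.Cov.wd.eq_def]
  try have : _root_.True := by simp only [_root_.Cfsg.Agent.H507.Cov.wd.eq_2]
  exact _root_.True.intro
end

-- part: H383/Cov/Sixteen_mg
section
prune_inst 0xd42031040100020000000000400002005000000000008000008009040001002200020000008001000202000000000000010000000000000000000000000001000000100400000000020008000000400000000000000000000000000000000000000000000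
set_option linter.all false
open scoped Cfsg.Agent.FastGrp

-- part: H383/Cov/NoMul
section
/-!
# Commuting elements of different prime orders in isometry groups (helper383)

* `no_mul` : `x`, `y` commuting, of prime orders `r`, `s`, with `ee r + ee s > dim V`: then `dim V` is at least the lcm
  of the orders of `|F|` modulo `r` and `s`; `no_mul_gl` : the same without a form;
* `no_thirteen_seven` : `|F| = 2`, `dim V ≤ 16`: no commuting isometries of orders 13 and 7.
-/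

set_option autoImplicit false

namespace Cfsg.Agent.H383.Cov.NoMul

open Module Cfsg.Agent.H105.Dp

variable {F V : Type*} [Field F] [AddCommGroup V] [Module F V] [FiniteDimensional F V]

/-- invariant subspaces of `(x - 1) V` -/
theorem inv_dvd [Finite F] {r : ℕ} (hr : r.Prime) (hrF : (r : F) ≠ 0) {x : V →ₗ[F] V} (hxr : x ^ r = 1)
    {W : Submodule F V} (hW : ∀ v ∈ W, x v ∈ W) (hWr : W ≤ LinearMap.range (x - 1)) :
    orderOf ((Nat.card F : ℕ) : ZMod r) ∣ finrank F W := by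
  have hc := isCompl_ker_range hrF hxr
  refine orderOf_dvd_finrank hr hrF (g := x.restrict hW) ?_ ?_
  · rw [Module.End.pow_restrict]
    apply LinearMap.ext
    intro v
    apply Subtype.ext
    show (x ^ r) (v : V) = v
    rw [hxr]
    rfl
  · intro v hv
    have h1 : x v = v := congrArg Subtype.val hv
    have h2 : (v : V) ∈ LinearMap.ker (x - 1) := by
      rw [LinearMap.mem_ker, LinearMap.sub_apply, sub_eq_zero]
      exact h1
    exact Subtype.ext (Submodule.disjoint_def.1 hc.disjoint _ h2 (hWr v.2))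

omit [FiniteDimensional F V] in
theorem range_inv {x y : V →ₗ[F] V} (hxy : x * y = y * x) {v : V} (hv : v ∈ LinearMap.range (x - 1)) :
    y v ∈ LinearMap.range (x - 1) := by
  obtain ⟨w, rfl⟩ := hv
  refine ⟨y w, ?_⟩
  show x (y w) - y w = y (x w - w)
  rw [map_sub, ← Module.End.mul_apply, hxy, Module.End.mul_apply]

omit [FiniteDimensional F V] in
theorem range_ne {x : V →ₗ[F] V} (hx : x ≠ 1) : LinearMap.range (x - 1) ≠ ⊥ := by
  intro h
  rw [LinearMap.range_eq_bot, sub_eq_zero] at h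
  exact hx h

theorem finrank_range_pos {x : V →ₗ[F] V} (hx : x ≠ 1) : 0 < finrank F (LinearMap.range (x - 1)) := by
  rw [Nat.pos_iff_ne_zero]
  intro h
  exact range_ne hx (Submodule.finrank_eq_zero.1 h)

theorem core [Finite F] {r s a c : ℕ} (hr : r.Prime) (hs : s.Prime) (hrF : (r : F) ≠ 0)
    (hsF : (s : F) ≠ 0) {x y : V →ₗ[F] V} (hxr : x ^ r = 1)
    (hys : y ^ s = 1) (hxy : x * y = y * x)
    (ha : a ≤ finrank F (LinearMap.range (x - 1))) (hc : c ≤ finrank F (LinearMap.range (y - 1)))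
    (h1 : finrank F V < a + c) :
    ∃ d : ℕ, d ≠ 0 ∧ d ≤ finrank F V ∧ orderOf ((Nat.card F : ℕ) : ZMod r) ∣ d ∧
      orderOf ((Nat.card F : ℕ) : ZMod s) ∣ d ∧
      d = finrank F ↥(LinearMap.range (x - 1) ⊓ LinearMap.range (y - 1)) := by
  refine ⟨_, ?_, Submodule.finrank_le _, inv_dvd hr hrF hxr ?_ inf_le_left, inv_dvd hs hsF hys ?_ inf_le_right, rfl⟩
  · have h2 := Submodule.finrank_sup_add_finrank_inf_eq (LinearMap.range (x - 1)) (LinearMap.range (y - 1))
    have h3 := Submodule.finrank_le (LinearMap.range (x - 1) ⊔ LinearMap.range (y - 1))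
    omega
  · intro v hv
    exact ⟨range_inv rfl hv.1, range_inv hxy.symm hv.2⟩
  · intro v hv
    exact ⟨range_inv hxy hv.1, range_inv rfl hv.2⟩

/-- **commuting isometries of different prime orders** -/
theorem no_mul [Finite F] (b : Frm F V) {r s : ℕ} (hr : r.Prime) (hs : s.Prime) (hr2 : r ≠ 2) (hs2 : s ≠ 2)
    (hrF : (r : F) ≠ 0) (hsF : (s : F) ≠ 0) {x y : V →ₗ[F] V} (hx : Iso b x) (hy : Iso b y) (hxr : x ^ r = 1)
    (hys : y ^ s = 1) (hx1 : x ≠ 1) (hy1 : y ≠ 1) (hxy : x * y = y * x)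
    (h1 : finrank F V < ee F r + ee F s)
    (h2 : finrank F V < Nat.lcm (orderOf ((Nat.card F : ℕ) : ZMod r)) (orderOf ((Nat.card F : ℕ) : ZMod s))) :
    False := by
  obtain ⟨d, hd, hdV, hd1, hd2, -⟩ := core hr hs hrF hsF hxr hys hxy
    (Nat.le_of_dvd (finrank_range_pos hx1) (ee_dvd_range b hr hr2 hrF hx hxr))
    (Nat.le_of_dvd (finrank_range_pos hy1) (ee_dvd_range b hs hs2 hsF hy hys)) h1
  have := Nat.le_of_dvd (Nat.pos_of_ne_zero hd) (Nat.lcm_dvd hd1 hd2)
  omega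

/-- **commuting linear maps of different prime orders** -/
theorem no_mul_gl [Finite F] {r s : ℕ} (hr : r.Prime) (hs : s.Prime)
    (hrF : (r : F) ≠ 0) (hsF : (s : F) ≠ 0) {x y : V →ₗ[F] V} (hxr : x ^ r = 1)
    (hys : y ^ s = 1) (hx1 : x ≠ 1) (hy1 : y ≠ 1) (hxy : x * y = y * x)
    (h1 : finrank F V < orderOf ((Nat.card F : ℕ) : ZMod r) + orderOf ((Nat.card F : ℕ) : ZMod s))
    (h2 : finrank F V < Nat.lcm (orderOf ((Nat.card F : ℕ) : ZMod r)) (orderOf ((Nat.card F : ℕ) : ZMod s))) :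
    False := by
  obtain ⟨d, hd, hdV, hd1, hd2, -⟩ := core hr hs hrF hsF hxr hys hxy
    (Nat.le_of_dvd (finrank_range_pos hx1) (inv_dvd hr hrF hxr (fun _ hv => range_inv rfl hv) le_rfl))
    (Nat.le_of_dvd (finrank_range_pos hy1) (inv_dvd hs hsF hys (fun _ hv => range_inv rfl hv) le_rfl)) h1
  have := Nat.le_of_dvd (Nat.pos_of_ne_zero hd) (Nat.lcm_dvd hd1 hd2)
  omega

/-- the two factors of `t ^ 7 - 1` -/
def P1 (y : V →ₗ[F] V) : V →ₗ[F] V := y ^ 3 + y + 1

/-- the two factors of `t ^ 7 - 1` -/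
def P2 (y : V →ₗ[F] V) : V →ₗ[F] V := y ^ 3 + y ^ 2 + 1

omit [FiniteDimensional F V] in
theorem P1_apply (y : V →ₗ[F] V) (v : V) : P1 y v = y (y (y v)) + y v + v := by
  unfold P1
  rw [LinearMap.add_apply, LinearMap.add_apply, pow_succ, pow_succ, pow_one]
  rfl

omit [FiniteDimensional F V] in
theorem P2_apply (y : V →ₗ[F] V) (v : V) : P2 y v = y (y (y v)) + y (y v) + v := by
  unfold P2
  rw [LinearMap.add_apply, LinearMap.add_apply, pow_succ, pow_succ, pow_one]
  rfl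

omit [FiniteDimensional F V] in
theorem seven_split (h2 : (2 : F) = 0) {y : V →ₗ[F] V} (hy : y ^ 7 = 1) {v : V} (hv : v ∈ LinearMap.range (y - 1)) :
    P1 y (P2 y v) = 0 := by
  obtain ⟨w, rfl⟩ := hv
  have h : P1 y * P2 y * (y - 1) = y ^ 7 - 1 + (2 : F) • (y ^ 4 - y ^ 3) := by
    unfold P1 P2
    rw [two_smul]
    noncomm_ring
  rw [h2, zero_smul, add_zero, hy, sub_self] at h
  exact LinearMap.congr_fun h w

omit [FiniteDimensional F V] in
theorem comm_P {y : V →ₗ[F] V} (v : V) : P1 y (P2 y v) = P2 y (P1 y v) := by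
  simp only [P1_apply, P2_apply, map_add]
  abel

omit [FiniteDimensional F V] in
theorem fix_of_P {y : V →ₗ[F] V} (hy : y ^ 7 = 1) {v : V} (h1 : P1 y v = 0) (h2 : P2 y v = 0) :
    (y - 1) v = 0 := by
  rw [P1_apply] at h1
  rw [P2_apply] at h2
  have h3 : y (y v) = y v := by
    have h4 := h2.trans h1.symm
    have h5 := add_right_cancel h4
    exact add_left_cancel h5
  have h6 : (y ^ 6) (y (y v)) = (y ^ 6) (y v) := by rw [h3]
  have h7 : ∀ u, (y ^ 6) (y u) = u := by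
    intro u
    have : (y ^ 6 * y) u = u := by rw [← pow_succ, hy]; rfl
    exact this
  rw [h7, h7] at h6
  rw [LinearMap.sub_apply, h6]
  exact sub_self v

/-- **no commuting isometries of orders 13 and 7 in dimension at most 16 over the field of two elements** -/
theorem no_thirteen_seven [Finite F] (h2 : Nat.card F = 2) (b : Frm F V) (hV : finrank F V ≤ 16)
    {x y : V →ₗ[F] V} (hx : Iso b x) (hy : Iso b y) (hx13 : x ^ 13 = 1)
    (hy7 : y ^ 7 = 1) (hx1 : x ≠ 1) (hy1 : y ≠ 1) (hxy : x * y = y * x) : False := by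
  have h20 : (2 : F) = 0 := by
    have hF : Fintype F := Fintype.ofFinite F
    have := Nat.cast_card_eq_zero F
    rwa [← Nat.card_eq_fintype_card, h2] at this
  have h13F : ((13 : ℕ) : F) ≠ 0 := by
    have : ((13 : ℕ) : F) = 1 + 6 * 2 := by norm_num
    rw [this, h20, mul_zero, add_zero]
    exact one_ne_zero
  have h7F : ((7 : ℕ) : F) ≠ 0 := by
    have : ((7 : ℕ) : F) = 1 + 3 * 2 := by norm_num
    rw [this, h20, mul_zero, add_zero]
    exact one_ne_zero
  have o13 : orderOf ((Nat.card F : ℕ) : ZMod 13) = 12 := by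
    rw [h2]
    rw [orderOf_eq_iff (by norm_num)]
    refine ⟨by decide, ?_⟩
    intro m hm hm0
    interval_cases m <;> decide
  have o7 : orderOf ((Nat.card F : ℕ) : ZMod 7) = 3 := by
    rw [h2]
    rw [orderOf_eq_iff (by norm_num)]
    refine ⟨by decide, ?_⟩
    intro m hm hm0
    interval_cases m <;> decide
  have e13 : ee F 13 = 12 := by unfold ee; rw [o13]; decide
  have e7 : ee F 7 = 6 := by unfold ee; rw [o7]; decide
  have d1 := Nat.le_of_dvd (finrank_range_pos hx1) (ee_dvd_range b (by norm_num) (by norm_num) h13F hx hx13)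
  have d2 := Nat.le_of_dvd (finrank_range_pos hy1) (ee_dvd_range b (by norm_num) (by norm_num) h7F hy hy7)
  have d1' := ee_dvd_range b (by norm_num) (by norm_num) h13F hx hx13
  rw [e13] at d1 d1'
  rw [e7] at d2
  obtain ⟨d, hd, hdV, hd1, -, hdW⟩ := core (by norm_num) (by norm_num) h13F h7F hx13 hy7 hxy d1 d2 (by omega)
  rw [o13] at hd1
  set X := LinearMap.range (x - 1) with hX
  set W := X ⊓ LinearMap.range (y - 1) with hW
  have hXV := Submodule.finrank_le X
  have hWX : W = X := Submodule.eq_of_le_of_finrank_le inf_le_left (by omega)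
  have hXy : X ≤ LinearMap.range (y - 1) := by rw [← hWX]; exact inf_le_right
  have hXinv : ∀ v ∈ X, y v ∈ X := fun v hv => range_inv hxy hv
  have hX1 : ∀ v ∈ X, P1 y v ∈ X := fun v hv => by
    rw [P1_apply]
    exact X.add_mem (X.add_mem (hXinv _ (hXinv _ (hXinv _ hv))) (hXinv _ hv)) hv
  have hX2 : ∀ v ∈ X, P2 y v ∈ X := fun v hv => by
    rw [P2_apply]
    exact X.add_mem (X.add_mem (hXinv _ (hXinv _ (hXinv _ hv))) (hXinv _ (hXinv _ hv))) hv
  -- the two kernels
  have key : ∀ P : V →ₗ[F] V, x * P = P * x → 12 ∣ finrank F ↥(LinearMap.ker P ⊓ X) := by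
    intro P hP
    rw [← o13]
    refine inv_dvd (by norm_num) h13F hx13 ?_ inf_le_right
    intro v hv
    refine ⟨?_, range_inv rfl hv.2⟩
    have h3 : P v = 0 := hv.1
    show P (x v) = 0
    rw [← Module.End.mul_apply, ← hP, Module.End.mul_apply, h3, map_zero]
  have hxyc : Commute x y := hxy
  have k1 := key (P1 y) (((hxyc.pow_right 3).add_right hxyc).add_right (Commute.one_right x))
  have k2 := key (P2 y) (((hxyc.pow_right 3).add_right (hxyc.pow_right 2)).add_right (Commute.one_right x))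
  have hfix : ∀ v ∈ X, P1 y v = 0 → P2 y v = 0 → v = 0 := fun v hv h3 h4 =>
    Submodule.disjoint_def.1 (isCompl_ker_range h7F hy7).disjoint v (LinearMap.mem_ker.2 (fix_of_P hy7 h3 h4)) (hXy hv)
  have hdisj : Disjoint (LinearMap.ker (P1 y) ⊓ X) (LinearMap.ker (P2 y) ⊓ X) := by
    rw [Submodule.disjoint_def]
    intro v hv hv'
    exact hfix v hv.2 hv.1 hv'.1
  have hsum := Submodule.finrank_add_finrank_le_of_disjoint hdisj
  -- one of the polynomials kills X
  have hor : (∀ v ∈ X, P1 y v = 0) ∨ (∀ v ∈ X, P2 y v = 0) := by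
    have hz : finrank F ↥(LinearMap.ker (P1 y) ⊓ X) = 0 ∨
        finrank F ↥(LinearMap.ker (P2 y) ⊓ X) = 0 := by omega
    rcases hz with hz | hz
    · right
      intro v hv
      rw [Submodule.finrank_eq_zero] at hz
      have h3 : P2 y v ∈ LinearMap.ker (P1 y) ⊓ X := ⟨seven_split h20 hy7 (hXy hv), hX2 v hv⟩
      rw [hz] at h3
      exact h3
    · left
      intro v hv
      rw [Submodule.finrank_eq_zero] at hz
      have h3 : P1 y v ∈ LinearMap.ker (P2 y) ⊓ X := by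
        refine ⟨?_, hX1 v hv⟩
        show P2 y (P1 y v) = 0
        rw [← comm_P]
        exact seven_split h20 hy7 (hXy hv)
      rw [hz] at h3
      exact h3
  -- the form on X
  have hc := isCompl_ker_range h13F hx13
  have hnd : ∀ u ∈ X, (∀ w ∈ X, b.B w u = 0) → u = 0 := by
    intro u hu h
    refine b.nd u fun w => ?_
    obtain ⟨k, hk, w', hw', rfl⟩ := Submodule.mem_sup.1 (show w ∈ LinearMap.ker (x - 1) ⊔ X by
      rw [hc.sup_eq_top]; trivial)
    rw [map_add, b.refl _ _ (h w' hw'), add_zero]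
    rw [LinearMap.mem_ker, LinearMap.sub_apply, sub_eq_zero] at hk
    exact b.refl _ _ (ort hx hk hu)
  obtain ⟨w₀, hw₀X, hw₀⟩ : ∃ w ∈ X, w ≠ 0 := (Submodule.ne_bot_iff X).1 (range_ne hx1)
  have hyy : ∀ u w, b.B (y u) (y w) = b.B u w := hy
  apply hw₀
  rcases hor with h | h
  · -- `P1 y = 0` on `X`, hence `P2 y = 0`
    refine hfix w₀ hw₀X (h w₀ hw₀X) (hnd _ (hX2 _ hw₀X) fun u hu => ?_)
    have h3 := h u hu
    rw [P1_apply] at h3
    have h4 : b.B (y (y (y u)) + y u + u) (y (y (y w₀))) = 0 := by rw [h3, map_zero, LinearMap.zero_apply]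
    rw [map_add, map_add, LinearMap.add_apply, LinearMap.add_apply, hyy, hyy, hyy, hyy] at h4
    rw [P2_apply, map_add, map_add, ← h4]
    abel
  · refine hfix w₀ hw₀X (hnd _ (hX1 _ hw₀X) fun u hu => ?_) (h w₀ hw₀X)
    have h3 := h u hu
    rw [P2_apply] at h3
    have h4 : b.B (y (y (y u)) + y (y u) + u) (y (y (y w₀))) = 0 := by rw [h3, map_zero, LinearMap.zero_apply]
    rw [map_add, map_add, LinearMap.add_apply, LinearMap.add_apply, hyy, hyy, hyy, hyy, hyy] at h4
    rw [P1_apply, map_add, map_add, ← h4]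
    abel

end Cfsg.Agent.H383.Cov.NoMul
end

-- part: H105/Dp/Cyc
section
/-!
# Groups of isometries of prime power order are cyclic if the dimension is small (helper105, DP8 of S5734)
-/

set_option autoImplicit false

namespace Cfsg.Agent.H105.Dp

open Module

section norm

variable {M : Type*} [Monoid M] {u : ℕ} [Fact u.Prime]

end norm

variable {F V : Type*} [Field F] [AddCommGroup V] [Module F V]

variable [FiniteDimensional F V]

end Cfsg.Agent.H105.Dp
end

-- part: H105/Dp/Aut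
section
/-!
# Good primes of quotients of isometry groups (helper105, DP8 of S5734)
-/

set_option autoImplicit false

namespace Cfsg.Agent.H105.Dp

open Module Subgroup

variable {F V : Type*} [Field F] [AddCommGroup V] [Module F V] [FiniteDimensional F V]

end Cfsg.Agent.H105.Dp
end

-- part: H105/Dp/Group
section
/-!
# Good primes of central quotients of isometry groups (helper105, DP8 of S5734)
-/

set_option autoImplicit false

namespace Cfsg.Agent.H105.Dp

open Module Subgroup Cfsg.Agent.H192.Dp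

variable {F V : Type*} [Field F] [AddCommGroup V] [Module F V] [FiniteDimensional F V]

end Cfsg.Agent.H105.Dp
end

-- part: H105/Dp/Fam
section
/-!
# Good primes of the symplectic and orthogonal groups (helper105, DP8 of S5734)

`goodP_cl` : for a prime `u` with `LevP g u`, `g` symplectic or orthogonal, `GoodP T u (dm g)`.
-/

set_option autoImplicit false

namespace Cfsg.Agent.H105.Dp

open Module Subgroup Cfsg Cfsg.Agent.OrdDiv Cfsg.Agent.H436 Cfsg.Agent.H192.Dp

universe w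

section arith

variable {q u e : ℕ}

theorem cast_ne_zero (hu : u.Prime) (h : orderOf (q : ZMod u) = e) (he : 3 ≤ e) : (q : ZMod u) ≠ 0 := by
  have hf := Fact.mk hu
  intro h0
  have h1 : (q : ZMod u) ^ orderOf (q : ZMod u) = 1 := pow_orderOf_eq_one _
  rw [h, h0, zero_pow (by omega)] at h1
  exact zero_ne_one h1

theorem five_le (hu : u.Prime) (h : orderOf (q : ZMod u) = e) (he : 3 ≤ e) : 5 ≤ u := by
  have hf := Fact.mk hu
  have h1 := ZMod.orderOf_dvd_card_sub_one (cast_ne_zero hu h he)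
  rw [h] at h1
  have h2 := Nat.le_of_dvd (Nat.sub_pos_of_lt hu.one_lt) h1
  have h3 : u ≠ 4 := by rintro rfl; norm_num at hu
  omega

theorem natCast_ne_zero {F : Type*} [Field F] [Fintype F] (hu : u.Prime) (hq : Fintype.card F = q)
    (h : orderOf (q : ZMod u) = e) (he : 3 ≤ e) : (u : F) ≠ 0 := by
  intro h0
  have hf := Fact.mk hu
  have hch : CharP F u := by
    obtain ⟨p, hp⟩ := CharP.exists F
    have h2 : p ∣ u := (CharP.cast_eq_zero_iff F p u).1 h0
    rcases (Nat.dvd_prime hu).1 h2 with h3 | h3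
    · exact absurd h3 (CharP.char_ne_one F p)
    · rw [← h3]; exact hp
  apply cast_ne_zero hu h he
  rw [ZMod.natCast_eq_zero_iff, ← CharP.cast_eq_zero_iff F u, ← hq]
  exact Nat.cast_card_eq_zero F

end arith

section forms

variable {F V : Type*} [Field F] [AddCommGroup V] [Module F V]

/-- the form of a symplectic space -/
def frmSp {B : LinearMap.BilinForm F V} (h : Cfsg.Agent.H955.IsSp B) : Frm F V where
  B := B
  nd := h.nd
  refl x y hxy := by rw [h.swap, hxy, neg_zero]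
  alt _ := h.alt

/-- the polar form of a quadratic space -/
def frmQ {Q : QuadraticForm F V} (h : Cfsg.Agent.LieClassical.OrthCore.Nondeg Q) : Frm F V where
  B := QuadraticMap.polarBilin Q
  nd x hx := h x hx
  refl x y hxy := by
    show QuadraticMap.polar Q y x = 0
    rw [QuadraticMap.polar_comm]
    exact hxy
  alt h2 x := by
    show QuadraticMap.polar Q x x = 0
    rw [QuadraticMap.polar_self, ← Nat.cast_smul_eq_nsmul F, Nat.cast_ofNat, h2, zero_smul]

theorem sq_eq_one_of_scalar (b : Frm F V) {z : V ≃ₗ[F] V} (hz : Iso b (z : V →ₗ[F] V)) (hs : Cfsg.Agent.H105.Sz.Scalar z) :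
    z ^ 2 = 1 := by
  obtain ⟨c, hc⟩ := hs
  apply LinearEquiv.ext
  intro v
  show z (z v) = v
  by_cases hv : v = 0
  · rw [hv, map_zero, map_zero]
  obtain ⟨y, hy⟩ : ∃ y, b.B v y ≠ 0 := by
    by_contra hcon
    push Not at hcon
    exact hv (b.nd v hcon)
  have h1 : b.B (z v) (z y) = b.B v y := hz v y
  rw [hc, hc, map_smul, map_smul, LinearMap.smul_apply, smul_eq_mul, smul_eq_mul, ← mul_assoc] at h1
  have h2 : c * c = 1 := mul_right_cancel₀ hy (h1.trans (one_mul _).symm)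
  rw [hc, hc, smul_smul, h2, one_smul]

end forms

open Cfsg.Agent.LieClassical.OrthCore Cfsg.Agent.LieClassical.OrthFinite Cfsg.Agent.LieClassical.OrthSimple
  Cfsg.Agent.LieClassical.OrthForms

end Cfsg.Agent.H105.Dp
end

-- part: H383/Cov/NoOrd
section
/-!
# Classical groups without elements of order `r s` (helper383)

`noOrd_psl`, `noOrd_psp`, `noOrd_oplus`, `noOrd_ominus`, `noOrd_POmega` : `r`, `s` primes, the orders `e`, `f` of `q`
modulo `r`, `s` are at least 3, and the dimension is less than `e + f` (`lcm 2 e + lcm 2 f` with a form) and less than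
`lcm e f`.
`exists_orderOf_top` : an element of order `k` of `R`, `k` prime to `|O|` and `|R / O : N|`, gives one of `N`.
-/

set_option autoImplicit false

namespace Cfsg.Agent.H383.Cov.NoMul

open Module Subgroup Cfsg Cfsg.Agent.OrdDiv Cfsg.Agent.H105.Dp Cfsg.Agent.H105
open Cfsg.Agent.LieClassical.OrthCore Cfsg.Agent.LieClassical.OrthFinite Cfsg.Agent.LieClassical.OrthSimple
  Cfsg.Agent.LieClassical.OrthForms

universe w

/-- an element of order `r s` gives commuting elements of orders `r` and `s` -/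
theorem noOrd_of {F V : Type*} [Field F] [AddCommGroup V] [Module F V] {G T : Type*} [Group G] [Finite G] [Group T]
    {A : Subgroup G} [A.Normal] (φ : T ≃* G ⧸ A) (ρ : G →* (V ≃ₗ[F] V)) (hρ : Function.Injective ρ) {r s : ℕ}
    (hr : r.Prime) (hs : s.Prime)
    (h : ∀ g k : G, (ρ g : V →ₗ[F] V) ^ r = 1 → (ρ k : V →ₗ[F] V) ^ s = 1 → (ρ g : V →ₗ[F] V) ≠ 1 →
      (ρ k : V →ₗ[F] V) ≠ 1 → (ρ g : V →ₗ[F] V) * (ρ k : V →ₗ[F] V) = (ρ k : V →ₗ[F] V) * (ρ g : V →ₗ[F] V) →
      False) (z : T) : orderOf z ≠ r * s := by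
  intro hz
  obtain ⟨g, hg⟩ := QuotientGroup.mk'_surjective A (φ z)
  obtain ⟨k, hk⟩ := H257.El.exists_lift (QuotientGroup.mk' A) (z := g) (n := r * s) (by
    rw [hg, MulEquiv.orderOf_eq, hz])
  set x := g ^ k with hx
  have hpow : ∀ (y : G) (j : ℕ), ((ρ y : V ≃ₗ[F] V) : V →ₗ[F] V) ^ j = (ρ (y ^ j) : V →ₗ[F] V) := by
    intro y j
    induction j with
    | zero => rw [pow_zero, pow_zero, map_one]; rfl
    | succ j ih => rw [pow_succ, pow_succ, map_mul, ih]; rfl
  have hone : ∀ y : G, ((ρ y : V ≃ₗ[F] V) : V →ₗ[F] V) = 1 → y = 1 := by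
    intro y hy
    apply hρ
    rw [map_one]
    apply LinearEquiv.ext
    intro v
    exact LinearMap.congr_fun hy v
  have hx1 : x ^ (r * s) = 1 := by rw [← hk]; exact pow_orderOf_eq_one x
  refine h (x ^ s) (x ^ r) ?_ ?_ ?_ ?_ ?_
  · rw [hpow, ← pow_mul, mul_comm, hx1, map_one]; rfl
  · rw [hpow, ← pow_mul, hx1, map_one]; rfl
  · intro h1
    have h2 := orderOf_dvd_of_pow_eq_one (hone _ h1)
    rw [hk] at h2
    have h3 := Nat.le_of_dvd hs.pos h2
    have h4 := hr.one_lt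
    nlinarith only [h3, h4, hs.pos]
  · intro h1
    have h2 := orderOf_dvd_of_pow_eq_one (hone _ h1)
    rw [hk] at h2
    have h3 := Nat.le_of_dvd hr.pos h2
    have h4 := hs.one_lt
    nlinarith only [h3, h4, hr.pos]
  · show ((ρ (x ^ s) * ρ (x ^ r) : V ≃ₗ[F] V) : V →ₗ[F] V) = ((ρ (x ^ r) * ρ (x ^ s) : V ≃ₗ[F] V) : V →ₗ[F] V)
    rw [← map_mul, ← map_mul, ← pow_add, ← pow_add, add_comm]

section

variable {q r s e f : ℕ}

theorem ee_eq {F : Type*} [Field F] [Fintype F] (hq : Fintype.card F = q) (he : orderOf (q : ZMod r) = e) :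
    ee F r = Nat.lcm 2 e := by
  unfold ee
  rw [Nat.card_eq_fintype_card, hq, he]

theorem noOrd_psl {n : ℕ} {T : Type w} [Group T] (hT : Real (.psl n q) T) (hr : r.Prime) (hs : s.Prime)
    (he : orderOf (q : ZMod r) = e) (hf : orderOf (q : ZMod s) = f) (h3 : 3 ≤ e) (h3' : 3 ≤ f)
    (h1 : n < e + f) (h2 : n < Nat.lcm e f) (z : T) : orderOf z ≠ r * s := by
  obtain ⟨F, _, _, hq, ⟨φ⟩⟩ := hT
  have hrF := natCast_ne_zero hr hq he h3
  have hsF := natCast_ne_zero hs hq hf h3'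
  refine noOrd_of φ (Matrix.SpecialLinearGroup.toLin' (n := Fin n) (R := F)) ?_ hr hs ?_ z
  · exact Matrix.SpecialLinearGroup.toLin'_injective
  · intro g k hg hk hg1 hk1 hgk
    refine no_mul_gl hr hs hrF hsF hg hk hg1 hk1 hgk ?_ ?_
    · rw [finrank_fintype_fun_eq_card, Fintype.card_fin, Nat.card_eq_fintype_card, hq, he, hf]
      exact h1
    · rw [finrank_fintype_fun_eq_card, Fintype.card_fin, Nat.card_eq_fintype_card, hq, he, hf]
      exact h2

theorem noOrd_psp {m : ℕ} {T : Type w} [Group T] (hT : Real (.psp m q) T) (hr : r.Prime) (hs : s.Prime)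
    (he : orderOf (q : ZMod r) = e) (hf : orderOf (q : ZMod s) = f) (h3 : 3 ≤ e) (h3' : 3 ≤ f)
    (h1 : 2 * m < Nat.lcm 2 e + Nat.lcm 2 f) (h2 : 2 * m < Nat.lcm e f) (z : T) : orderOf z ≠ r * s := by
  obtain ⟨F, _, _, hq, ⟨φ⟩⟩ := hT
  have hrF := natCast_ne_zero hr hq he h3
  have hsF := natCast_ne_zero hs hq hf h3'
  have hr5 := five_le hr he h3
  have hs5 := five_le hs hf h3'
  have hS : Cfsg.Agent.H955.IsSp (F := F) (V := Fin m ⊕ Fin m → F) (Cfsg.Agent.ClassicalGeometry.SympBasic.sympBilin m F) :=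
    Cfsg.Agent.H955.isSp_sympBilin m F
  have hfr : finrank F (Fin m ⊕ Fin m → F) = 2 * m := by
    rw [finrank_fintype_fun_eq_card, Fintype.card_sum, Fintype.card_fin]; omega
  have hiso : ∀ h, Iso (frmSp hS) (SzSp.rho m F h : (Fin m ⊕ Fin m → F) →ₗ[F] (Fin m ⊕ Fin m → F)) := by
    intro h x y
    have : SzSp.rho m F h ∈ Cfsg.Agent.H955.IsoB (Cfsg.Agent.ClassicalGeometry.SympBasic.sympBilin m F) := by
      rw [← SzSp.rho_range]; exact ⟨h, rfl⟩
    exact this x y
  refine noOrd_of φ (SzSp.rho m F) SzSp.rho_injective hr hs ?_ z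
  intro g k hg hk hg1 hk1 hgk
  refine no_mul (frmSp hS) hr hs (by omega) (by omega) hrF hsF (hiso g) (hiso k) hg hk hg1 hk1 hgk ?_ ?_
  · rw [hfr, ee_eq hq he, ee_eq hq hf]
    exact h1
  · rw [hfr, Nat.card_eq_fintype_card, hq, he, hf]
    exact h2

/-- the groups `PΩ` -/
theorem noOrd_POmega' {ι : Type} [Fintype ι] [DecidableEq ι] {F : Type} [Field F] [Finite F]
    {Q : QuadraticForm F (ι → F)} (hQ : Nondeg Q) (hd : 5 ≤ Fintype.card ι) {T : Type w} [Group T]
    {qf : (ι → F) → F} (hqf : ⇑Q = qf) (φ : T ≃* Cfsg.POmega F qf) (hr : r.Prime) (hs : s.Prime)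
    (h : ∀ x y : (ι → F) →ₗ[F] (ι → F), Iso (frmQ hQ) x → Iso (frmQ hQ) y → x ^ r = 1 → y ^ s = 1 → x ≠ 1 → y ≠ 1 →
      x * y = y * x → False) (z : T) : orderOf z ≠ r * s := by
  subst hqf
  have hG : Cfsg.Agent.LieClassical.OrthTrans.Good Q := good_of_finite hQ (by rwa [Module.finrank_fintype_fun_eq_card])
  have hfinV : Finite ((ι → F) ≃ₗ[F] (ι → F)) :=
    Finite.of_injective (fun e : (ι → F) ≃ₗ[F] (ι → F) => (e : (ι → F) → (ι → F))) DFunLike.coe_injective
  have hiso : ∀ h : E Q, Iso (frmQ hQ) ((E Q).subtype h : (ι → F) →ₗ[F] (ι → F)) := by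
    intro h x y
    exact polar_map (E_le_O (Q := Q) h.2) x y
  refine noOrd_of (φ.trans (quotientCenterCongr ((omegaEquiv Q).trans (MulEquiv.subgroupCongr hG.commutator_eq_E))))
    (E Q).subtype (Subgroup.subtype_injective _) hr hs ?_ z
  intro g k hg hk hg1 hk1 hgk
  exact h _ _ (hiso g) (hiso k) hg hk hg1 hk1 hgk

theorem noOrd_POmega {ι : Type} [Fintype ι] [DecidableEq ι] {F : Type} [Field F] [Fintype F]
    {Q : QuadraticForm F (ι → F)} (hQ : Nondeg Q) (hd : 5 ≤ Fintype.card ι) {T : Type w} [Group T]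
    {qf : (ι → F) → F} (hqf : ⇑Q = qf) (φ : T ≃* Cfsg.POmega F qf) (hq : Fintype.card F = q)
    (hr : r.Prime) (hs : s.Prime)
    (he : orderOf (q : ZMod r) = e) (hf : orderOf (q : ZMod s) = f) (h3 : 3 ≤ e) (h3' : 3 ≤ f)
    (h1 : Fintype.card ι < Nat.lcm 2 e + Nat.lcm 2 f) (h2 : Fintype.card ι < Nat.lcm e f) (z : T) :
    orderOf z ≠ r * s := by
  have hrF := natCast_ne_zero hr hq he h3
  have hsF := natCast_ne_zero hs hq hf h3'
  have hr5 := five_le hr he h3
  have hs5 := five_le hs hf h3'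
  refine noOrd_POmega' hQ hd hqf φ hr hs ?_ z
  intro x y hx hy hxr hys hx1 hy1 hxy
  refine no_mul (frmQ hQ) hr hs (by omega) (by omega) hrF hsF hx hy hxr hys hx1 hy1 hxy ?_ ?_
  · rw [finrank_fintype_fun_eq_card, ee_eq hq he, ee_eq hq hf]
    exact h1
  · rw [finrank_fintype_fun_eq_card, Nat.card_eq_fintype_card, hq, he, hf]
    exact h2

theorem noOrd_oplus {m : ℕ} {T : Type w} [Group T] (hT : Real (.oplus m q) T) (hm : 3 ≤ m) (hr : r.Prime)
    (hs : s.Prime) (he : orderOf (q : ZMod r) = e) (hf : orderOf (q : ZMod s) = f) (h3 : 3 ≤ e) (h3' : 3 ≤ f)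
    (h1 : 2 * m < Nat.lcm 2 e + Nat.lcm 2 f) (h2 : 2 * m < Nat.lcm e f) (z : T) : orderOf z ≠ r * s := by
  obtain ⟨F, _, _, hq, ⟨φ⟩⟩ := hT
  have hfr : Fintype.card (Fin m ⊕ Fin m) = 2 * m := by
    rw [Fintype.card_sum, Fintype.card_fin]; omega
  refine noOrd_POmega (nondeg_plusForm m F) (by omega) (coe_plusForm m F) φ hq hr hs he hf h3 h3' ?_ ?_ z
  · rw [hfr]; exact h1
  · rw [hfr]; exact h2

theorem noOrd_ominus {m : ℕ} {T : Type w} [Group T] (hT : Real (.ominus m q) T) (hm : 3 ≤ m) (hr : r.Prime)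
    (hs : s.Prime) (he : orderOf (q : ZMod r) = e) (hf : orderOf (q : ZMod s) = f) (h3 : 3 ≤ e) (h3' : 3 ≤ f)
    (h1 : 2 * m < Nat.lcm 2 e + Nat.lcm 2 f) (h2 : 2 * m < Nat.lcm e f) (z : T) : orderOf z ≠ r * s := by
  obtain ⟨F, _, _, a, b, hq, hab, ⟨φ⟩⟩ := hT
  have hfr : Fintype.card ((Fin (m - 1) ⊕ Fin (m - 1)) ⊕ Fin 2) = 2 * m := by
    rw [Fintype.card_sum, Fintype.card_sum, Fintype.card_fin, Fintype.card_fin]; omega
  refine noOrd_POmega (nondeg_minusForm (m - 1) F a b hab) (by omega) (coe_minusForm (m - 1) F a b) φ hq hr hs he hf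
    h3 h3' ?_ ?_ z
  · rw [hfr]; exact h1
  · rw [hfr]; exact h2

end

/-- **descent of an element** to the simple group at the top -/
theorem exists_orderOf_top {R : Type*} [Group R] [Finite R] {r : ℕ} {O : Subgroup R} [O.Normal]
    {N : Subgroup (R ⧸ O)} (h : H257.El.Top R r O N) {c : R} {k : ℕ} (hc : orderOf c = k)
    (h1 : k.Coprime (Nat.card O)) (h2 : k.Coprime N.index) : ∃ z : N, orderOf z = k := by
  have hN := h.normal
  set g : R ⧸ O := QuotientGroup.mk' O c with hg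
  have hgk : orderOf g = k := by
    apply Nat.dvd_antisymm
    · rw [← hc]; exact orderOf_map_dvd _ _
    · -- `c ^ (orderOf g) ∈ O`
      have h3 : c ^ orderOf g ∈ O := by
        refine (QuotientGroup.eq_one_iff _).1 ?_
        exact (map_pow (QuotientGroup.mk' O) c _).trans (pow_orderOf_eq_one g)
      have h4 : orderOf (c ^ orderOf g) ∣ Nat.card O := Subgroup.orderOf_dvd_natCard _ h3
      have h5 : orderOf (c ^ orderOf g) ∣ k := by rw [← hc]; exact orderOf_pow_dvd _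
      have h6 : orderOf (c ^ orderOf g) = 1 := Nat.eq_one_of_dvd_coprimes h1 h5 h4
      rw [orderOf_eq_one_iff] at h6
      rw [← hc]
      exact orderOf_dvd_of_pow_eq_one h6
  have hgN : g ∈ N := by
    have h3 : orderOf (QuotientGroup.mk' N g) ∣ k := by rw [← hgk]; exact orderOf_map_dvd _ _
    have h4 : orderOf (QuotientGroup.mk' N g) ∣ N.index := orderOf_dvd_natCard _
    have h5 := Nat.eq_one_of_dvd_coprimes h2 h3 h4
    rw [orderOf_eq_one_iff] at h5
    exact (QuotientGroup.eq_one_iff _).1 h5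
  exact ⟨⟨g, hgN⟩, by rw [Subgroup.orderOf_mk, hgk]⟩

end Cfsg.Agent.H383.Cov.NoMul
end

-- part: H383/Cov/SixEl
section
/-!
# S2499: the group `Ω⁺₁₆(2)`, elements and frame (helper383)

* `exNB` : elements `neg a + neg e` with a block of S5948 type; `exPP` : `pos 5 + pos 3` with its order;
* `noTwo_of_data₂` : the frame when only `A` is covered by the overgroup theorem;
* `Inc.map` : incompatible classes and quotients.
-/

set_option autoImplicit false
set_option linter.unusedSectionVars false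
set_option linter.style.haveILetI false

namespace Cfsg.Agent.H383.Cov

open Module Cfsg Cfsg.Geo QuadraticMap
open Cfsg.Agent.LieClassical.OrthCore Cfsg.Agent.LieClassical.OrthForms
open Cfsg.Agent.H182.Sign
open Cfsg.Agent.H278.Cov (Red Ext Num Av Inc NoTwo noTwo_of_three)
open Cfsg.Agent.H689 (Ppd exists_ppd)
open scoped MatrixGroups Matrix

/-- incompatible classes and quotients -/
theorem inc_map {G G' : Type*} [Group G] [Group G'] {x y : G} (h : Inc x y) (f : G →* G')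
    (hf : Function.Surjective f) : Inc (f x) (f y) := by
  intro L hL
  have hne : L.comap f ≠ ⊤ := by
    intro hc
    apply hL
    rw [eq_top_iff]
    intro z _
    obtain ⟨w, rfl⟩ := hf z
    have : w ∈ L.comap f := by rw [hc]; trivial
    exact this
  rcases h _ hne with h1 | h1
  · left
    intro g hg
    obtain ⟨g', rfl⟩ := hf g
    exact h1 g' (by change f (g' * x * g'⁻¹) ∈ L; simpa only [_root_.map_mul, _root_.map_inv] using hg)
  · right
    intro g hg
    obtain ⟨g', rfl⟩ := hf g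
    exact h1 g' (by change f (g' * y * g'⁻¹) ∈ L; simpa only [_root_.map_mul, _root_.map_inv] using hg)

section

variable {F : Type} [Field F] [Fintype F] {ι : Type} [Fintype ι] [DecidableEq ι]

theorem exNB {Q : QuadraticForm F (ι → F)} {a e m M N : ℕ} (hQ : Sg Q m 1)
    (h5 : 5 ≤ Fintype.card ι) (hm : a + e = m) (ha : a ≠ 0) (he : e ≠ 0)
    (hM : M ∣ Fintype.card F ^ a + 1) (hMo : Odd M)
    (hM1 : ∀ j, 1 ≤ j → j < 2 * a → M.Coprime (Fintype.card F ^ j - 1))
    (hN : N ∣ Fintype.card F ^ e + 1) (hNo : Odd N) (hN1 : ∀ j, 1 ≤ j → j < 2 * e → ¬ N ∣ Fintype.card F ^ j - 1)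
    (hM2 : M ≠ 1) (hc : M.Coprime N) :
    ∃ A : GL ι F, A ∈ omegaGL ⇑Q ∧ Odd (orderOf A) ∧ (∃ j, orderOf (A ^ j) = M ∧ Blk (2 * a) (A ^ j)) ∧
      Dims A {0, 2 * e, 2 * a, 2 * m} := by
  obtain ⟨L, _, _, _, Q₁, u, s1, s2, s3, s4, s5⟩ := exists_negN (F := F) ha hM
  obtain ⟨L', _, _, _, Q₂, u', t1, t2, t3, t4, t5⟩ := exists_negN (F := F) he hN
  have hfL : FiniteDimensional F L := Module.Finite.of_finite
  have hfL' : FiniteDimensional F L' := Module.Finite.of_finite
  have hs := s1.prod t1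
  rw [hm, show (-1 : ℤ) * -1 = 1 by norm_num] at hs
  have hN11 : N ≠ 1 := by
    rintro rfl
    exact hN1 1 le_rfl (by omega) (one_dvd _)
  have p1 : (LinearMap.mulLeft F u : Module.End F L) ^ M = 1 := by
    rw [mulLeft_pow, mulLeft_eq_one, ← s3, pow_orderOf_eq_one]
  have p2 : (LinearMap.mulLeft F u' : Module.End F L') ^ N = 1 := by
    rw [mulLeft_pow, mulLeft_eq_one, ← t3, pow_orderOf_eq_one]
  have hpow : ((LinearMap.mulLeft F u).prodMap (LinearMap.mulLeft F u') : Module.End F (L × L')) ^ (M * N) = 1 := by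
    rw [pair_pow, pow_mul, p1, one_pow, mul_comm, pow_mul, p2, one_pow]
    rfl
  obtain ⟨A, hA, hsim⟩ := exists_sim hQ h5 hs
    (x := (LinearMap.mulLeft F u).prodMap (LinearMap.mulLeft F u')) (M := M * N)
    (by
      intro v
      rw [prodForm_apply, prodForm_apply]
      change Q₁ (u * v.1) + Q₂ (u' * v.2) = _
      rw [s5, t5])
    (hMo.mul hNo) hpow
  refine ⟨A, hA, ?_, ?_, ?_⟩
  · refine Odd.of_dvd_nat (hMo.mul hNo) ?_
    rw [hsim.orderOf_eq]
    exact orderOf_dvd_of_pow_eq_one hpow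
  · obtain ⟨j, hj1, hj2⟩ := exists_pow_left p1 p2 hc
    have h1 := hsim.pow j
    rw [pair_pow, hj1, hj2] at h1
    have ho : orderOf (A ^ j) = M := by
      rw [h1.orderOf_eq, ← s3, ← orderOf_mulLeft (F := F) u]
      apply Nat.dvd_antisymm
      · apply orderOf_dvd_of_pow_eq_one
        rw [pair_pow, pow_orderOf_eq_one, one_pow]
        rfl
      · apply orderOf_dvd_of_pow_eq_one
        have h1 := pow_orderOf_eq_one ((LinearMap.mulLeft F u : Module.End F L).prodMap (1 : Module.End F L'))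
        rw [pair_pow] at h1
        apply LinearMap.ext
        intro v
        exact congrArg (fun f : Module.End F (L × L') => (f (v, 0)).1) h1
    refine ⟨j, ho, ⟨?_, ?_, ?_⟩⟩
    · rw [ho, Nat.card_eq_fintype_card]
      exact coprime_q (by (clear * - ha; omega)) hM
    · intro i hi hi6
      rw [ho, Nat.card_eq_fintype_card]
      exact hM1 i hi hi6
    · rw [h1.rk, range_pair (mulLeft_free (ne_one_of_order s3 hM2)), s2]
  · apply hsim.dims
    intro W hW
    obtain ⟨s, hs', t, ht', hst⟩ := pair_dims p1 p2 hc (mulLeft_free (ne_one_of_order s3 hM2))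
      (Ten.irr_case s2 s4 (by
        intro j hj hjl hd
        rw [s3] at hd
        exact hM2 (Nat.Coprime.eq_one_of_dvd (hM1 j hj hjl) hd)))
      (Ten.irr_case t2 t4 (by rw [t3]; exact hN1)) hW
    rw [hst]
    simp only [Set.mem_insert_iff, Set.mem_singleton_iff] at hs' ht' ⊢
    (clear * - hm hs' ht'; omega)

theorem exPP {Q : QuadraticForm F (ι → F)} {m c₁ c₂ r₁ r₂ : ℕ} (hQ : Sg Q m 1)
    (h5 : 5 ≤ Fintype.card ι) (hm : c₁ + c₂ = m) (h1 : 3 ≤ c₁) (h2 : 3 ≤ c₂) (ho : Odd c₁)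
    (hr₁ : Ppd (Fintype.card F) c₁ r₁) (hr₂ : Ppd (Fintype.card F) c₂ r₂) (hne : c₁ ≠ c₂) :
    ∃ C : GL ι F, C ∈ omegaGL ⇑Q ∧ orderOf C = r₁ * r₂ ∧
      (∃ P : Polynomial F, Odd (finrank F (LinearMap.ker (Matrix.toLin'
        (Polynomial.aeval (C : Matrix ι ι F) P))))) ∧
      Dims C {d | ∃ s t : ℕ, s ≤ 2 ∧ t ≤ 2 ∧ d = c₁ * s + c₂ * t} := by
  have hne' : r₁ ≠ r₂ := by
    rintro rfl
    apply hne
    exact Nat.dvd_antisymm ((hr₁.iff c₂).1 ((hr₂.iff c₂).2 dvd_rfl)) ((hr₂.iff c₁).1 ((hr₁.iff c₁).2 dvd_rfl))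
  have hco : r₁.Coprime r₂ := (Nat.coprime_primes hr₁.prime hr₂.prime).2 hne'
  have hro₁ : Odd r₁ := ppd_odd hr₁ h1
  have hro₂ : Odd r₂ := ppd_odd hr₂ h2
  obtain ⟨K, _, _, _, Q₁, u, s1, s2, s3, s4, s5⟩ := exists_posN (F := F) (k := c₁) (by omega)
    ((hr₁.iff c₁).2 dvd_rfl)
  obtain ⟨K', _, _, _, Q₂, u', t1, t2, t3, t4, t5⟩ := exists_posN (F := F) (k := c₂) (by omega)
    ((hr₂.iff c₂).2 dvd_rfl)
  have hf : FiniteDimensional F K := Module.Finite.of_finite
  have hf' : FiniteDimensional F K' := Module.Finite.of_finite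
  have hs := s1.prod t1
  rw [hm, show (1 : ℤ) * 1 = 1 by norm_num] at hs
  have p1 := dg_pow_eq_one (F := F) s3
  have p2 := dg_pow_eq_one (F := F) t3
  have hpow : ((dg F u).prodMap (dg F u') : Module.End F ((K × K) × (K' × K'))) ^ (r₁ * r₂) = 1 := by
    rw [pair_pow, pow_mul, p1, one_pow, mul_comm, pow_mul, p2, one_pow]
    rfl
  obtain ⟨C, hC, hsim⟩ := exists_sim hQ h5 hs
    (x := (dg F u).prodMap (dg F u')) (M := r₁ * r₂)
    (by
      intro v
      rw [prodForm_apply, prodForm_apply]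
      change Q₁ (dg F u v.1) + Q₂ (dg F u' v.2) = _
      rw [s5 u s4, t5 u' t4])
    (hro₁.mul hro₂) hpow
  refine ⟨C, hC, ?_, ⟨minpoly F u, ?_⟩, ?_⟩
  · rw [hsim.orderOf_eq]
    apply Nat.dvd_antisymm (orderOf_dvd_of_pow_eq_one hpow)
    have h3 := pow_orderOf_eq_one ((dg F u).prodMap (dg F u') : Module.End F ((K × K) × (K' × K')))
    rw [pair_pow] at h3
    apply Nat.Coprime.mul_dvd_of_dvd_of_dvd hco
    · rw [← s3, ← Ten.orderOf_dg (F := F) u]
      apply orderOf_dvd_of_pow_eq_one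
      apply LinearMap.ext
      intro v
      exact congrArg (fun f : Module.End F ((K × K) × (K' × K')) => (f (v, 0)).1) h3
    · rw [← t3, ← Ten.orderOf_dg (F := F) u']
      apply orderOf_dvd_of_pow_eq_one
      apply LinearMap.ext
      intro v
      exact congrArg (fun f : Module.End F ((K × K) × (K' × K')) => (f (0, v)).2) h3
  · rw [hsim.ker, aeval_pair, ker_pair, ker_dg_minpoly (by rw [s2]; exact ho) s4
      (sq_ne_one s3 hro₁ hr₁.prime.one_lt.ne'), s2]
    have hu : u ^ r₁ = 1 := by rw [← s3]; exact pow_orderOf_eq_one u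
    have key : u' ^ r₁ ≠ 1 := by
      intro h
      have h3 := orderOf_dvd_of_pow_eq_one h
      rw [t3] at h3
      have h4 := Nat.dvd_gcd h3 dvd_rfl
      rw [hco] at h4
      exact hr₂.prime.one_lt.ne' (Nat.dvd_one.1 h4)
    rw [ker_dg_of_ne, add_zero]
    · exact ho
    · exact fun h => key (minpoly_dvd_pow hu h)
    · intro h
      apply key
      have h3 := minpoly_dvd_pow hu h
      rw [_root_.inv_pow] at h3
      exact inv_eq_one.1 h3
  · apply hsim.dims
    intro W hW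
    obtain ⟨s, hs', t, ht', hst⟩ := pair_dims (S₁ := {d | ∃ s : ℕ, s ≤ 2 ∧ d = c₁ * s})
      (S₂ := {d | ∃ s : ℕ, s ≤ 2 ∧ d = c₂ * s}) p1 p2 hco
      (dg_free (ne_one_of_order s3 hr₁.prime.one_lt.ne'))
      (by
        intro W hW
        obtain ⟨s, hs⟩ := dims_dg s3 hr₁ (by omega) hW
        refine ⟨s, ?_, hs⟩
        have h3 := Submodule.finrank_le W
        rw [Module.finrank_prod, s2, hs] at h3
        exact Nat.le_of_mul_le_mul_left (by omega : c₁ * s ≤ c₁ * 2) (by omega))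
      (by
        intro W hW
        obtain ⟨s, hs⟩ := dims_dg t3 hr₂ (by omega) hW
        refine ⟨s, ?_, hs⟩
        have h3 := Submodule.finrank_le W
        rw [Module.finrank_prod, t2, hs] at h3
        exact Nat.le_of_mul_le_mul_left (by omega : c₂ * s ≤ c₂ * 2) (by omega)) hW
    obtain ⟨s', h3, h4⟩ := hs'
    obtain ⟨t', h5, h6⟩ := ht'
    exact ⟨s', t', h3, h5, by rw [hst, h4, h6]⟩

/-- **The frame with one overgroup theorem**: `A` is incompatible with `B` (parity) and with `C` (odd block). -/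
theorem inc_of_data [Nonempty ι] {Q : (ι → F) → F} (hQ : IsNondegenerateQuadraticForm Q) (og : OgO Q)
    {A B C : Omega F Q} {a b i j : ℕ} (ha : 1 ≤ a) (hb : 1 ≤ b)
    (hpar : Even a ∧ Odd b ∨ Odd a ∧ Even b)
    (hgA : ∀ r : ℕ, r.Prime → r ∣ Nat.gcd (Fintype.card ι) (2 * a) → r = 2)
    (hAi : NumEl a (emb Q A ^ i)) (hBj : Blk (2 * b) (emb Q B ^ j)) (hBo : Odd (orderOf (emb Q B ^ j)))
    (hBd : orderOf (emb Q B ^ j) ∣ Nat.card F ^ b + 1)
    {SA SB SC : Set ℕ} (dA : Dims (emb Q A) SA) (dB : Dims (emb Q B) SB)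
    (dC : Dims (emb Q C) SC) (hAB : ∀ d, 0 < d → d < Fintype.card ι → d ∈ SA → d ∈ SB → False)
    (hAC : ∀ d, 0 < d → d < Fintype.card ι → d ∈ SA → d ∈ SC → False)
    (hCo : Odd (orderOf (emb Q C))) (P : Polynomial F)
    (hker : Odd (finrank F (LinearMap.ker (Matrix.toLin' (Polynomial.aeval (emb Q C : Matrix ι ι F) P))))) :
    Inc A B ∧ Inc A C := by
  have key : ∀ H : Subgroup (GL ι F), H ≤ omegaGL Q → H ≠ omegaGL Q → ∀ g : GL ι F,
      g * emb Q A * g⁻¹ ∈ H → Red H ∨ ∃ E : Subalgebra F (Matrix ι ι F), IsFieldSubalgebra 2 E ∧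
        H ≤ subalgebraNormalizer E := by
    intro H hle hne g hgx
    rcases og _ H hle hne _ (H.pow_mem hgx i) (by rw [pow_conj]; exact (hAi.conj g).num) with h | ⟨r, E, hr, hrd, hE, hN⟩
    · exact Or.inl h
    · obtain rfl := hgA r hr hrd
      exact Or.inr ⟨E, hE, hN⟩
  refine ⟨inc_of fun H hle hne g g' h1 h2 => ?_, inc_of fun H hle hne g g' h1 h2 => ?_⟩
  · by_cases hR : Red H
    · exact red_dims hR h1 h2 (dA.conj g) (dB.conj g') hAB
    obtain ⟨E, hE, hN⟩ := (key H hle hne g h1).resolve_left hR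
    have hiso : H ≤ isometryGroup F Q := hle.trans (omegaGL_le Q)
    have hx := H.pow_mem h1 i
    have hy := H.pow_mem h2 j
    rw [pow_conj] at hx hy
    have nx := hAi.conj g
    have ho : Odd (orderOf (g' * emb Q B ^ j * g'⁻¹)) := by rw [orderOf_conj]; exact hBo
    have hd : orderOf (g' * emb Q B ^ j * g'⁻¹) ∣ Nat.card F ^ b + 1 := by rw [orderOf_conj]; exact hBd
    rcases hpar with ⟨he, ho'⟩ | ⟨ho', he⟩
    · exact parity hQ hiso hR hE hN hx hy ha hb he ho' nx.odd ho nx.dvd hd nx.blk (hBj.conj g')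
    · exact parity hQ hiso hR hE hN hy hx hb ha he ho' ho nx.odd hd nx.dvd (hBj.conj g') nx.blk
  · rcases key H hle hne g h1 with hR | ⟨E, hE, hN⟩
    · exact red_dims hR h1 h2 (dA.conj g) (dC.conj g') hAC
    · have h3 := kill hE (hN h2) (by rw [orderOf_conj]; exact Nat.coprime_two_right.2 hCo) P
      rw [ker_conj] at h3
      exact (Nat.not_even_iff_odd.2 hker) (even_iff_two_dvd.2 h3)

end

end Cfsg.Agent.H383.Cov
end

-- part: H383/Cov/Sixteen
section
/-!
# S2499: the group `PΩ⁺₁₆(2)` (helper383)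

`noTwo_sixteen`: elements `neg 7 + neg 1`, `neg 6 + neg 2`, `pos 5 + pos 3`. Inputs: S5948, the table of orders and the
classification.
-/

set_option autoImplicit false
set_option linter.unusedSectionVars false
set_option linter.style.haveILetI false

namespace Cfsg.Agent.H383.Cov.Six

open Module Subgroup Cfsg Cfsg.Geo Cfsg.Agent.OrdDiv
open Cfsg.Agent.LieClassical.OrthCore Cfsg.Agent.LieClassical.OrthForms Cfsg.Agent.LieClassical.OrthFinite
  Cfsg.Agent.LieClassical.OrthSimple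
open Cfsg.Agent.H278.Cov (Red Ext Num Av Inc NoTwo noTwo_of_three)
open Cfsg.Agent.H659.CovCore (S5948Stmt)
open Cfsg.Agent.H689 (Ppd exists_ppd)
open Cfsg.Agent.H257.El (Top SitP okPair okPow_spec surv)
open scoped MatrixGroups Matrix

universe u

/-! ### numbers -/

/-- the order -/
def n16 : ℕ := 2 ^ 56 * (2 ^ 8 - 1) * ((2 ^ 2 - 1) * (2 ^ 4 - 1) * (2 ^ 6 - 1) * (2 ^ 8 - 1) * (2 ^ 10 - 1) *
  (2 ^ 12 - 1) * (2 ^ 14 - 1))

/-- its factorisation -/
def l16 : List (ℕ × ℕ) :=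
  [(2, 56), (3, 10), (5, 4), (7, 2), (11, 1), (13, 1), (17, 2), (31, 1), (43, 1), (127, 1)]

theorem valid16 : valid l16 n16 = true := by decide +kernel

theorem surv16 : surv n16 l16 13 [31] =
    [.psl 6 4, .psl 7 4, .psp 6 2, .psp 7 2, .oplus 7 2, .ominus 6 2, .ominus 7 2] := by decide +kernel

theorem o2_31 : orderOf ((2 : ℕ) : ZMod 31) = 5 := by
  rw [orderOf_eq_iff (by norm_num)]
  exact ⟨by decide, fun m hm hm0 => by interval_cases m <;> decide⟩

theorem o2_7 : orderOf ((2 : ℕ) : ZMod 7) = 3 := by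
  rw [orderOf_eq_iff (by norm_num)]
  exact ⟨by decide, fun m hm hm0 => by interval_cases m <;> decide⟩

theorem o2_13 : orderOf ((2 : ℕ) : ZMod 13) = 12 := by
  rw [orderOf_eq_iff (by norm_num)]
  exact ⟨by decide, fun m hm hm0 => by interval_cases m <;> decide⟩

theorem o4_31 : orderOf ((4 : ℕ) : ZMod 31) = 5 := by
  rw [orderOf_eq_iff (by norm_num)]
  exact ⟨by decide, fun m hm hm0 => by interval_cases m <;> decide⟩

theorem o4_7 : orderOf ((4 : ℕ) : ZMod 7) = 3 := by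
  rw [orderOf_eq_iff (by norm_num)]
  exact ⟨by decide, fun m hm hm0 => by interval_cases m <;> decide⟩

/-- the possible simple groups at the top have no elements of order 217 -/
theorem no217 {g : Grp} (hg : g ∈ surv n16 l16 13 [31]) {N : Type u} [Group N] (hN : Real g N) (z : N) :
    orderOf z ≠ 31 * 7 := by
  have p31 : (31 : ℕ).Prime := by norm_num
  have p7 : (7 : ℕ).Prime := by norm_num
  rw [surv16] at hg
  simp only [List.mem_cons, List.not_mem_nil, or_false] at hg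
  rcases hg with rfl | rfl | rfl | rfl | rfl | rfl | rfl
  · exact NoMul.noOrd_psl hN p31 p7 o4_31 o4_7 (by norm_num) (by norm_num) (by norm_num) (by decide) z
  · exact NoMul.noOrd_psl hN p31 p7 o4_31 o4_7 (by norm_num) (by norm_num) (by norm_num) (by decide) z
  · exact NoMul.noOrd_psp hN p31 p7 o2_31 o2_7 (by norm_num) (by norm_num) (by decide) (by decide) z
  · exact NoMul.noOrd_psp hN p31 p7 o2_31 o2_7 (by norm_num) (by norm_num) (by decide) (by decide) z
  · exact NoMul.noOrd_oplus hN (by norm_num) p31 p7 o2_31 o2_7 (by norm_num) (by norm_num) (by decide) (by decide) z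
  · exact NoMul.noOrd_ominus hN (by norm_num) p31 p7 o2_31 o2_7 (by norm_num) (by norm_num) (by decide) (by decide) z
  · exact NoMul.noOrd_ominus hN (by norm_num) p31 p7 o2_31 o2_7 (by norm_num) (by norm_num) (by decide) (by decide) z

/-! ### the engine -/

/-- **no proper subgroup contains elements of orders 13 and 217** -/
theorem false_of_mem (tab : OrderTable.{u}) (known : H257.El.Known.{u}) {T : Type u} [Group T] [Finite T]
    (hT : Nat.card T = n16) (h31 : ∀ z : T, orderOf z ≠ 13 * 31) (h7 : ∀ z : T, orderOf z ≠ 13 * 7)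
    {R : Subgroup T} (hR : R ≠ ⊤) {x y : T} (hx : x ∈ R) (hy : y ∈ R) (hx13 : 13 ∣ orderOf x)
    (hy217 : 31 * 7 ∣ orderOf y) : False := by
  have d13 : 13 ∣ Nat.card R := hx13.trans (Subgroup.orderOf_dvd_natCard _ hx)
  have d217 : 31 * 7 ∣ Nat.card R := hy217.trans (Subgroup.orderOf_dvd_natCard _ hy)
  have S : SitP T n16 l16 13 R := H257.El.sitP_of tab known hT valid16 (by norm_num) (by decide +kernel) hR d13
  obtain ⟨O, hO, N, h⟩ := S.exists_top
  have hok31 : okPair n16 l16 13 31 = true := by decide +kernel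
  have hN31 := S.dvd_simple h (by norm_num) h31 hok31 ((dvd_mul_right 31 7).trans d217)
  have hna : ¬ ∀ a b : N, a * b = b * a := by
    intro hc
    rw [h.card_of_comm hc] at hN31
    exact absurd hN31 (by decide)
  obtain ⟨g, hg, hreal, -⟩ := S.exists_surv h hna [31] (by
    intro s hs
    rw [List.mem_singleton] at hs
    rw [hs]; exact hN31)
  -- the element of order 217
  obtain ⟨c, hc⟩ : ∃ c : R, orderOf c = 31 * 7 := by
    obtain ⟨k, hk⟩ := hy217
    have h0 : 0 < orderOf y := orderOf_pos y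
    have hk0 : k ≠ 0 := by
      rintro rfl
      rw [mul_zero] at hk
      omega
    refine ⟨⟨y, hy⟩ ^ k, ?_⟩
    rw [← Subgroup.orderOf_coe]
    show orderOf (y ^ k) = 31 * 7
    rw [orderOf_pow_of_dvd hk0 (by rw [hk]; exact dvd_mul_left _ _), hk]
    exact Nat.mul_div_cancel _ (Nat.pos_of_ne_zero hk0)
  have c31 : ¬ 31 ∣ Nat.card O := h.not_dvd_core (by norm_num) (by norm_num) (SitP.noR h31)
    fun _ hb hd => okPow_spec S.valid (s := 31) (by decide +kernel) (by norm_num) hb (hd.trans S.dvd_n)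
  have c7 : ¬ 7 ∣ Nat.card O := h.not_dvd_core (by norm_num) (by norm_num) (SitP.noR h7)
    fun _ hb hd => okPow_spec S.valid (s := 7) (by decide +kernel) (by norm_num) hb (hd.trans S.dvd_n)
  have i31 : ¬ 31 ∣ N.index := h.not_dvd_index (by norm_num) (by norm_num) (SitP.noR h31) (by norm_num)
  have i7 : ¬ 7 ∣ N.index := h.not_dvd_index (by norm_num) (by norm_num) (SitP.noR h7) (by norm_num)
  have p31 : (31 : ℕ).Prime := by norm_num
  have p7 : (7 : ℕ).Prime := by norm_num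
  obtain ⟨z, hz⟩ := NoMul.exists_orderOf_top h hc
    (Nat.Coprime.mul_left ((Nat.Prime.coprime_iff_not_dvd p31).2 c31) ((Nat.Prime.coprime_iff_not_dvd p7).2 c7))
    (Nat.Coprime.mul_left ((Nat.Prime.coprime_iff_not_dvd p31).2 i31) ((Nat.Prime.coprime_iff_not_dvd p7).2 i7))
  exact no217 hg hreal z hz

/-! ### the group -/

variable {F : Type} [Field F] [Fintype F]

theorem card16 (hq : Fintype.card F = 2) : Nat.card (POmega F (quadFormPlus 8 F)) = n16 := by
  have h := Cfsg.Agent.S0293.result hq 8 (by norm_num)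
  rw [show Nat.gcd 4 (2 ^ 8 - 1) = 1 by decide, one_mul] at h
  rw [h]
  decide +kernel

theorem no13_31 (hq : Fintype.card F = 2) (z : POmega F (quadFormPlus 8 F)) : orderOf z ≠ 13 * 31 := by
  refine NoMul.noOrd_POmega (nondeg_plusForm 8 F) (by simp) (coe_plusForm 8 F) (MulEquiv.refl _) hq (by norm_num)
    (by norm_num) o2_13 o2_31 (by norm_num) (by norm_num) ?_ ?_ z
  · rw [Fintype.card_sum, Fintype.card_fin]; decide
  · rw [Fintype.card_sum, Fintype.card_fin]; decide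

theorem no13_7 (hq : Fintype.card F = 2) (z : POmega F (quadFormPlus 8 F)) : orderOf z ≠ 13 * 7 := by
  refine NoMul.noOrd_POmega' (nondeg_plusForm 8 F) (by simp) (coe_plusForm 8 F) (MulEquiv.refl _) (by norm_num)
    (by norm_num) ?_ z
  intro x y hx hy hx13 hy7 hx1 hy1 hxy
  refine NoMul.no_thirteen_seven (by rw [Nat.card_eq_fintype_card]; exact hq) _ ?_ hx hy hx13 hy7 hx1 hy1 hxy
  rw [finrank_fintype_fun_eq_card, Fintype.card_sum, Fintype.card_fin]

theorem ppd_of_order {q k r : ℕ} (hr : r.Prime) (hq : 1 ≤ q) (h : orderOf ((q : ℕ) : ZMod r) = k) (hk : k ∣ r - 1)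
    (hnd : ¬ r ∣ q) : Ppd q k r := by
  refine ⟨hr, fun m => ?_, hk, hnd⟩
  rw [← Nat.modEq_iff_dvd' (Nat.one_le_pow _ _ hq), ← ZMod.natCast_eq_natCast_iff, Nat.cast_one, Nat.cast_pow, ← h,
    orderOf_dvd_iff_pow_eq_one, eq_comm]

theorem order_conj {G : Type*} [Group G] (g x : G) : orderOf (g * x * g⁻¹) = orderOf x := by
  have := MulEquiv.orderOf_eq (MulAut.conj g) x
  rwa [MulAut.conj_apply] at this

/-- odd orders and the central quotient -/
theorem dvd_orderOf_mk {G : Type*} [Group G] (hZ : ∀ z ∈ center G, z ^ 2 = 1) {x : G} {k : ℕ} (hk : Odd k)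
    (h : k ∣ orderOf x) : k ∣ orderOf (QuotientGroup.mk' (center G) x) := by
  have h1 : x ^ orderOf (QuotientGroup.mk' (center G) x) ∈ center G := by
    refine (QuotientGroup.eq_one_iff _).1 ?_
    exact (map_pow (QuotientGroup.mk' (center G)) x _).trans (pow_orderOf_eq_one _)
  have h2 := hZ _ h1
  rw [← pow_mul] at h2
  exact (Nat.Coprime.dvd_of_dvd_mul_right (Nat.coprime_two_right.2 hk) (h.trans (orderOf_dvd_of_pow_eq_one h2)))

theorem center_sq {ι : Type} [Fintype ι] [DecidableEq ι] {Q : QuadraticForm F (ι → F)} (hQ : Nondeg Q)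
    (hd : 5 ≤ Fintype.card ι) : ∀ z ∈ center (Omega F ⇑Q), z ^ 2 = 1 := by
  have hG : Cfsg.Agent.LieClassical.OrthTrans.Good Q :=
    good_of_finite hQ (by rwa [Module.finrank_fintype_fun_eq_card])
  let φ := (omegaEquiv Q).trans (MulEquiv.subgroupCongr hG.commutator_eq_E)
  intro z hz
  have h1 : φ z ∈ center (E Q) := by
    rw [Subgroup.mem_center_iff] at hz ⊢
    intro g
    obtain ⟨g', rfl⟩ := φ.surjective g
    rw [← map_mul, ← map_mul, hz]
  have h2 : (φ z) ^ 2 = 1 := by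
    apply Subtype.ext
    refine H105.Dp.sq_eq_one_of_scalar (H105.Dp.frmQ hQ) ?_ (H105.SzO.center_scalar hG _ h1)
    intro x y
    exact polar_map (E_le_O (Q := Q) (φ z).2) x y
  apply φ.injective
  rw [map_pow, h2, map_one]

/-- **`PΩ⁺₁₆(2)`** -/
theorem noTwo_sixteen (hP : S5948Stmt.{0}) (tab : OrderTable.{0}) (known : H257.El.Known.{0})
    (hq : Fintype.card F = 2) : NoTwo (POmega F (quadFormPlus 8 F)) := by
  have hpp : IsPrimePow (Fintype.card F) := Fintype.isPrimePow_card_of_field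
  obtain ⟨M, hM⟩ : ∃ M, Num (Fintype.card F) (2 * 8) (2 * 7) M :=
    H906.Cov.exists_num hpp (by norm_num) (by norm_num) (by norm_num) (by norm_num) (by norm_num)
  have hc : M.Coprime 3 := by
    have h1 := hM.prim 2 (by norm_num) (by norm_num)
    rw [hq] at h1
    exact h1
  have hs : Cfsg.Agent.H182.Sign.Sg (plusForm 8 F) 8 1 := sg_plus 8
  have h5 : 5 ≤ Fintype.card (Fin 8 ⊕ Fin 8) := by simp
  have h16 : Fintype.card (Fin 8 ⊕ Fin 8) = 16 := by simp
  obtain ⟨A, hA, ⟨i, hAi⟩, dA⟩ := exists_A (m := 8) (a := 7) (e := 1) (N := 3) rfl (by norm_num) (by norm_num)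
    (by norm_num) hM (by rw [hq]; norm_num) (by decide) (by
      rw [hq]
      intro j h1 h2
      interval_cases j; decide) hc
  obtain ⟨B, hB, -, ⟨j, hBj, hBk⟩, dB⟩ := exNB (a := 6) (e := 2) (M := 13) (N := 5) hs h5 rfl (by norm_num)
    (by norm_num) (by rw [hq]; norm_num) (by decide) (by
      rw [hq]
      intro j h1 h2
      interval_cases j <;> decide) (by rw [hq]; norm_num) (by decide) (by
      rw [hq]
      intro j h1 h2
      interval_cases j <;> decide) (by norm_num) (by norm_num)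
  have hr₁ : Ppd (Fintype.card F) 5 31 := by
    rw [hq]; exact ppd_of_order (by norm_num) (by norm_num) o2_31 (by norm_num) (by norm_num)
  have hr₂ : Ppd (Fintype.card F) 3 7 := by
    rw [hq]; exact ppd_of_order (by norm_num) (by norm_num) o2_7 (by norm_num) (by norm_num)
  obtain ⟨C, hC, hCo, ⟨P, hker⟩, dC⟩ := exPP hs h5 (c₁ := 5) (c₂ := 3) rfl (by norm_num) (by norm_num) (by decide)
    hr₁ hr₂ (by norm_num)
  have hQ : IsNondegenerateQuadraticForm ⇑(plusForm 8 F) := isNondeg (sg_plus 8).nondeg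
  have hne : Nonempty (Fin 8 ⊕ Fin 8) := ⟨Sum.inl ⟨0, by omega⟩⟩
  have og : OgO ⇑(plusForm 8 F) := fun k H hle hne g hg hn =>
    Cfsg.Agent.H558.Cov.og_o hP hQ hle hne hg hn
  obtain ⟨A', rfl⟩ : ∃ A', emb ⇑(plusForm 8 F) A' = A := by rw [← range_emb] at hA; exact hA
  obtain ⟨B', rfl⟩ : ∃ B', emb ⇑(plusForm 8 F) B' = B := by rw [← range_emb] at hB; exact hB
  obtain ⟨C', rfl⟩ : ∃ C', emb ⇑(plusForm 8 F) C' = C := by rw [← range_emb] at hC; exact hC
  have h217 : Odd (orderOf (emb ⇑(plusForm 8 F) C')) := by rw [hCo]; decide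
  obtain ⟨hAB, hAC⟩ := inc_of_data (a := 7) (b := 6) (i := i) (j := j) hQ og (by norm_num) (by norm_num)
    (Or.inr ⟨by decide, by decide⟩) (by
      intro r hr h
      rw [h16] at h
      exact (Nat.prime_dvd_prime_iff_eq hr Nat.prime_two).1 (by simpa using h)) hAi hBk
    (by rw [hBj]; decide) (by rw [hBj, Nat.card_eq_fintype_card, hq]; norm_num) dA dB dC
    (by
      intro d h0 h1 h2 h3
      rw [h16] at h1
      simp only [Set.mem_insert_iff, Set.mem_singleton_iff] at h2 h3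
      omega)
    (by
      intro d h0 h1 h2 h3
      rw [h16] at h1
      simp only [Set.mem_insert_iff, Set.mem_singleton_iff, Set.mem_ofPred_eq] at h2 h3
      obtain ⟨s, t, hs, ht, hd⟩ := h3
      (clear * - h0 h1 h2 ht hd; omega)) h217 P hker
  have hinj := emb_injective (F := F) ⇑(plusForm 8 F)
  have hZ := center_sq (F := F) (nondeg_plusForm 8 F) h5
  have hB13 : 13 ∣ orderOf B' := by
    rw [← hBj, ← orderOf_injective _ hinj B']
    exact orderOf_pow_dvd _
  have hC217 : 31 * 7 ∣ orderOf C' := by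
    rw [← hCo, ← orderOf_injective _ hinj C']
  have hB13' := dvd_orderOf_mk hZ (x := B') (by decide) hB13
  have hC217' := dvd_orderOf_mk hZ (x := C') (by decide) hC217
  have h1 := inc_map hAB (QuotientGroup.mk' (center (Omega F ⇑(plusForm 8 F)))) (QuotientGroup.mk'_surjective _)
  have h2 := inc_map hAC (QuotientGroup.mk' (center (Omega F ⇑(plusForm 8 F)))) (QuotientGroup.mk'_surjective _)
  have n31 := no13_31 hq
  have n7 := no13_7 hq
  have hcard := card16 hq
  rw [← coe_plusForm] at n31 n7 hcard ⊢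
  refine noTwo_of_three h1 (fun R hR => ?_) h2
  by_contra hcon
  rw [not_or] at hcon
  obtain ⟨h3, h4⟩ := hcon
  unfold Av at h3 h4
  push Not at h3 h4
  obtain ⟨g, hg⟩ := h3
  obtain ⟨g', hg'⟩ := h4
  exact false_of_mem tab known hcard n31 n7 hR hg hg' (by rw [order_conj]; exact hB13')
    (by rw [order_conj]; exact hC217')

end Cfsg.Agent.H383.Cov.Six
end

-- part: H725/Cov/HeK
section
/-!
# S2499, the Held group: the local situation (helper725)

`KSit K`: the situation in a proper subgroup `K` of order divisible by `7 ^ 3`; then `K` has a simple normal subgroup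
with trivial centralizer and order divisible by 7.
-/

set_option autoImplicit false

namespace Cfsg.Agent.H725.CovHe

open Cfsg Subgroup
open Cfsg.Agent.SignalizersComponents.Components

instance f7 : Fact (Nat.Prime 7) := ⟨by norm_num⟩

/-- the situation -/
structure KSit (K : Type*) [Group K] : Prop where
  d343 : 343 ∣ Nat.card K
  nd : ¬ 7 ^ 4 ∣ Nat.card K
  na : NoAb 7 K
  cent : ∀ x : K, orderOf x = 7 → Nat.card (centralizer ({x} : Set K)) ∣ 1029 ∨
    Nat.card (centralizer ({x} : Set K)) ∣ 1176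
  elt : ∃ b : K, orderOf b = 7 ∧ Nat.card (centralizer ({b} : Set K)) ∣ 196
  elt' : ∃ a f : K, orderOf a = 7 ∧ orderOf f = 4 ∧ a * f = f * a

namespace KSit

variable {K : Type*} [Group K] [Finite K]

theorem card_sylow (S : KSit K) (P : Sylow 7 K) : Nat.card P = 7 ^ 3 := by
  obtain ⟨k, hk⟩ := (IsPGroup.iff_card).1 P.isPGroup'
  have h1 : 7 ^ 3 ∣ Nat.card P := P.pow_dvd_card_of_pow_dvd_card (by simpa only [_root_.Nat.reducePow] using S.d343)
  have h2 : 7 ^ k ∣ Nat.card K := hk ▸ Subgroup.card_subgroup_dvd_card _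
  have h3 : k < 4 := by
    by_contra h
    exact S.nd ((pow_dvd_pow 7 (by omega : 4 ≤ k)).trans h2)
  rw [hk] at h1 ⊢
  have h4 : 3 ≤ k := (Nat.pow_dvd_pow_iff_le_right (by norm_num)).1 h1
  have h5 : k = 3 := by omega
  rw [h5]

/-- an element of order 7 centralised by a Sylow subgroup -/
theorem cent_of_central (S : KSit K) {P : Subgroup K} (hP : Nat.card P = 7 ^ 3) {w : K} (hw : orderOf w = 7)
    (hwP : ∀ g ∈ P, g * w = w * g) : Nat.card (centralizer ({w} : Set K)) ∣ 1029 := by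
  have h1 : P ≤ centralizer ({w} : Set K) := fun g hg => mem_centralizer_singleton_iff.2 (hwP g hg)
  have h2 : 343 ∣ Nat.card (centralizer ({w} : Set K)) := by
    have := Subgroup.card_dvd_of_le h1
    rw [hP] at this
    simpa only [_root_.Nat.reducePow] using this
  rcases S.cent w hw with h | h
  · exact h
  · exact absurd (h2.trans h) (by norm_num)

/-- **no normal 7'-subgroup** -/
theorem prime_core (S : KSit K) : pPrimeCore 7 K = ⊥ := by
  obtain ⟨b, hb, hbc⟩ := S.elt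
  obtain ⟨M, hM⟩ : ∃ M, M = pPrimeCore 7 K := ⟨_, rfl⟩
  rw [← hM]
  have hMn : M.Normal := hM ▸ Lib.Cores.pPrimeCore_normal 7
  have hMc : (Nat.card M).Coprime 7 := hM ▸ Lib.Cores.pPrimeCore_coprime 7
  -- the Sylow subgroup
  have hbp : IsPGroup 7 (zpowers b) := IsPGroup.of_card (n := 1) (by rw [Nat.card_zpowers, hb, pow_one])
  obtain ⟨P, hbP'⟩ := hbp.exists_le_sylow
  have hbP : b ∈ (P : Subgroup K) := hbP' (mem_zpowers b)
  have hP := S.card_sylow P
  obtain ⟨w, hwP, hw, hwc, hPc, -⟩ := exists_center S.na hP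
  have hwcard := S.cent_of_central hP hw hwc
  have hbn : ¬ ∀ g ∈ (P : Subgroup K), g * b = b * g := by
    intro h
    have h1 : (P : Subgroup K) ≤ centralizer ({b} : Set K) := fun g hg => mem_centralizer_singleton_iff.2 (h g hg)
    have h2 := (Subgroup.card_dvd_of_le h1).trans hbc
    rw [hP] at h2
    norm_num at h2
  have hbw : b * w = w * b := hwc b hbP
  have hwb : b ∉ zpowers w := by
    rintro ⟨i, hi⟩
    apply hbn
    intro g hg
    have h1 : w ^ i = b := hi
    rw [← h1]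
    exact ((show Commute g w from hwc g hg).zpow_right i).eq
  -- the orders
  have hcop : ∀ x : K, (Nat.card ↥(M ⊓ centralizer ({x} : Set K))).Coprime 7 := fun x =>
    hMc.coprime_dvd_left (Subgroup.card_dvd_of_le inf_le_left)
  have h3 : Nat.card ↥(M ⊓ centralizer ({w} : Set K)) ∣ 3 := by
    have h1 : Nat.card ↥(M ⊓ centralizer ({w} : Set K)) ∣ 7 ^ 3 * 3 :=
      (Subgroup.card_dvd_of_le inf_le_right).trans (hwcard.trans (by norm_num))
    exact ((hcop w).pow_right 3).dvd_of_dvd_mul_left h1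
  have h4 : Nat.card ↥(M ⊓ centralizer ({b} : Set K)) ∣ 4 := by
    have h1 : Nat.card ↥(M ⊓ centralizer ({b} : Set K)) ∣ 7 ^ 2 * 4 :=
      (Subgroup.card_dvd_of_le inf_le_right).trans (hbc.trans (by norm_num))
    exact ((hcop b).pow_right 2).dvd_of_dvd_mul_left h1
  -- they are equal
  have hle : ∀ {x y : K}, orderOf y = 7 → x * y = y * x → Nat.card ↥(M ⊓ centralizer ({x} : Set K)) < 7 →
      M ⊓ centralizer ({x} : Set K) ≤ M ⊓ centralizer ({y} : Set K) := by
    intro x y hy hxy hlt r hr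
    refine ⟨hr.1, mem_centralizer_singleton_iff.2 ?_⟩
    refine (cent_small hy hlt (fun r hr => ?_) r hr).symm
    refine ⟨hMn.conj_mem r hr.1 y, mem_centralizer_singleton_iff.2 ?_⟩
    have h5 : Commute y x := hxy.symm
    have h6 : Commute r x := mem_centralizer_singleton_iff.1 hr.2
    exact ((h5.mul_left h6).mul_left h5.inv_left).eq
  have heq : M ⊓ centralizer ({w} : Set K) = M ⊓ centralizer ({b} : Set K) := by
    apply le_antisymm
    · exact hle hb hbw.symm (lt_of_le_of_lt (Nat.le_of_dvd (by norm_num) h3) (by norm_num))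
    · exact hle hw hbw (lt_of_le_of_lt (Nat.le_of_dvd (by norm_num) h4) (by norm_num))
  have hw1 : M ⊓ centralizer ({w} : Set K) = ⊥ := by
    rw [← Subgroup.card_eq_one]
    rw [← heq] at h4
    have := Nat.dvd_gcd h3 h4
    norm_num only [_root_.Subgroup.mem_inf, _root_.Nat.dvd_one] at this
    exact this
  have hb1 : M ⊓ centralizer ({b} : Set K) = ⊥ := heq ▸ hw1
  -- the elementary abelian group
  obtain ⟨A, hA1, hA2, hA3⟩ := pair hw hb hbw.symm hwb
  have hAe : IsElementaryAbelian 7 A := by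
    refine ⟨⟨⟨fun x y => Subtype.ext (hA1 x x.2 y y.2)⟩⟩, ?_⟩
    intro x hx
    obtain ⟨i, j, rfl⟩ := (hA3 x).1 hx
    have h5 : Commute (w ^ i) (b ^ j) := (show Commute w b from hbw.symm).zpow_zpow i j
    rw [h5.mul_pow, ← zpow_natCast, ← zpow_mul, mul_comm, zpow_mul, zpow_natCast, ← hw, pow_orderOf_eq_one, one_zpow,
      one_mul, ← zpow_natCast, ← zpow_mul, mul_comm, zpow_mul, zpow_natCast, hw, ← hb, pow_orderOf_eq_one, one_zpow]
  have h7M : ¬ 7 ∣ Nat.card M := fun h => by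
    have := Nat.Coprime.eq_one_of_dvd hMc.symm h
    norm_num at this
  have hgen := Cfsg.Agent.SignalizersComponents.CoprimeGen.le_iSup_centralizer_ne_one (p := 7) (A := A) (Z := M) hAe
    (by rw [hA2]) h7M (fun a _ => by rw [normalizer_eq_top]; exact mem_top a)
  rw [eq_bot_iff]
  refine hgen.trans (iSup_le ?_)
  rintro ⟨x, hx, hx1⟩
  rintro m ⟨hmM, hm⟩
  have hmx : m * x = x * m := mem_centralizer_singleton_iff.1 hm
  obtain ⟨j, i, rfl⟩ := (hA3 x).1 hx
  rw [mem_bot]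
  by_cases hi : (7 : ℤ) ∣ i
  · have h5 : b ^ i = 1 := (orderOf_dvd_iff_zpow_eq_one (x := b)).1 (by rw [hb]; exact hi)
    rw [h5, mul_one] at hmx hx1
    have hj : ¬ ((7 : ℕ) : ℤ) ∣ j := by
      intro h
      exact hx1 ((orderOf_dvd_iff_zpow_eq_one (x := w)).1 (by rw [hw]; exact h))
    have h6 : m ∈ M ⊓ centralizer ({w} : Set K) := ⟨hmM, mem_centralizer_singleton_iff.2 (comm_of_zpow hw hj hmx)⟩
    rwa [hw1, mem_bot] at h6
  · obtain ⟨g, hg, hgx⟩ := exists_conj_of (p := 7) hw hwc hPc hbP hbn (i := i) (by exact_mod_cast hi) j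
    have h5 : w ^ j * b ^ i = b ^ i * w ^ j := ((show Commute w b from hbw.symm).zpow_zpow j i).eq
    rw [h5, ← hgx] at hmx
    have h6 : g⁻¹ * m * g * b ^ i = b ^ i * (g⁻¹ * m * g) := by
      calc g⁻¹ * m * g * b ^ i = g⁻¹ * (m * (g * b ^ i * g⁻¹)) * g := by group
        _ = g⁻¹ * (g * b ^ i * g⁻¹ * m) * g := by rw [hmx]
        _ = _ := by group
    have h7 : g⁻¹ * m * g ∈ M ⊓ centralizer ({b} : Set K) := by
      refine ⟨?_, mem_centralizer_singleton_iff.2 (comm_of_zpow hb (by exact_mod_cast hi) h6)⟩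
      have := hMn.conj_mem m hmM g⁻¹
      rwa [inv_inv] at this
    rw [hb1, mem_bot] at h7
    calc m = g * (g⁻¹ * m * g) * g⁻¹ := by group
      _ = 1 := by rw [h7]; group

/-- **no normal 7-subgroup** -/
theorem p_core (S : KSit K) : pCore 7 K = ⊥ := by
  obtain ⟨a, f, ha, hf, haf⟩ := S.elt'
  obtain ⟨N, hN⟩ : ∃ N, N = pCore 7 K := ⟨_, rfl⟩
  rw [← hN]
  have hNn : N.Normal := hN ▸ Lib.Cores.pCore_normal 7
  have hNp : IsPGroup 7 N := hN ▸ Lib.Cores.pCore_isPGroup 7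
  by_contra hne
  -- `Z`
  obtain ⟨Z, hZ⟩ : ∃ Z, Z = N ⊓ centralizer (N : Set K) := ⟨_, rfl⟩
  have hcn : (centralizer (N : Set K)).Normal := Subgroup.normal_centralizer
  have hZn : Z.Normal := hZ ▸ Subgroup.normal_inf_normal N (centralizer (N : Set K))
  have hZN : Z ≤ N := hZ ▸ inf_le_left
  have hZp : IsPGroup 7 Z := hNp.to_le hZN
  have hZc : ∀ x ∈ Z, ∀ y ∈ Z, x * y = y * x := by
    intro x hx y hy
    rw [hZ] at hx hy
    exact (mem_centralizer_iff.1 hy.2 x hx.1)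
  have h7 : ∀ {H : Subgroup K}, IsPGroup 7 H → H ≠ ⊥ → 7 ∣ Nat.card H := by
    intro H hH h1
    obtain ⟨k, hk⟩ := (IsPGroup.iff_card).1 hH
    have h2 : k ≠ 0 := by
      rintro rfl
      exact h1 (Subgroup.card_eq_one.1 (by rw [hk, pow_zero]))
    rw [hk]
    exact dvd_pow_self 7 h2
  have hZ1 : Z ≠ ⊥ := by
    obtain ⟨z, hz, hz1, hzc⟩ := exists_fixed (p := 7) hNp (h7 hNp hne) (fun x hx z hz => N.mul_mem (N.mul_mem hx hz) (N.inv_mem hx))
    intro h
    have h1 : z ∈ Z := by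
      rw [hZ]
      exact ⟨hz, mem_centralizer_iff.2 hzc⟩
    rw [h, mem_bot] at h1
    exact hz1 h1
  -- a central element
  obtain ⟨P⟩ : Nonempty (Sylow 7 K) := inferInstance
  have hP := S.card_sylow P
  obtain ⟨z, hz, hz1, hzc⟩ := exists_fixed (p := 7) P.isPGroup' (h7 hZp hZ1) (fun x _ z hz => hZn.conj_mem z hz x)
  obtain ⟨n, hn⟩ := exists_pow_order hZp hz hz1
  obtain ⟨w, hwd⟩ : ∃ w, w = z ^ n := ⟨_, rfl⟩
  have hw : orderOf w = 7 := hwd ▸ hn
  have hwZ : w ∈ Z := hwd ▸ Z.pow_mem hz n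
  have hwc : ∀ g ∈ (P : Subgroup K), g * w = w * g := fun g hg => by
    rw [hwd]
    exact ((show Commute g z from hzc g hg).pow_right n).eq
  have hwcard := S.cent_of_central hP hw hwc
  -- the involution
  have hf4 : f ^ 4 = 1 := by rw [← hf, pow_orderOf_eq_one]
  have ht : orderOf (f ^ 2) = 2 := by rw [orderOf_pow_of_dvd (by norm_num) (by rw [hf]; norm_num), hf]
  have htw : f ^ 2 * w ≠ w * f ^ 2 := by
    intro h
    have h1 := Subgroup.orderOf_dvd_natCard _ (mem_centralizer_singleton_iff.2 h : f ^ 2 ∈ centralizer ({w} : Set K))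
    rw [ht] at h1
    exact absurd (h1.trans hwcard) (by norm_num)
  -- inverted elements
  let I : Subgroup K :=
    { carrier := {x | x ∈ Z ∧ f ^ 2 * x * (f ^ 2)⁻¹ = x⁻¹}
      one_mem' := ⟨Z.one_mem, by simp⟩
      mul_mem' := by
        rintro x y ⟨hx, hx'⟩ ⟨hy, hy'⟩
        refine ⟨Z.mul_mem hx hy, ?_⟩
        calc f ^ 2 * (x * y) * (f ^ 2)⁻¹ = (f ^ 2 * x * (f ^ 2)⁻¹) * (f ^ 2 * y * (f ^ 2)⁻¹) := by group
          _ = x⁻¹ * y⁻¹ := by rw [hx', hy']
          _ = (y * x)⁻¹ := by group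
          _ = (x * y)⁻¹ := by rw [hZc x hx y hy]
      inv_mem' := by
        rintro x ⟨hx, hx'⟩
        refine ⟨Z.inv_mem hx, ?_⟩
        calc f ^ 2 * x⁻¹ * (f ^ 2)⁻¹ = (f ^ 2 * x * (f ^ 2)⁻¹)⁻¹ := by group
          _ = x⁻¹⁻¹ := by rw [hx'] }
  have hI : ∀ {x : K}, x ∈ I ↔ x ∈ Z ∧ f ^ 2 * x * (f ^ 2)⁻¹ = x⁻¹ := Iff.rfl
  have hIZ : I ≤ Z := fun x hx => hx.1
  have hIp : IsPGroup 7 I := hZp.to_le hIZ
  have hI1 : I ≠ ⊥ := by
    intro h
    have h0 : f ^ 2 * w * (f ^ 2)⁻¹ ∈ Z := hZn.conj_mem w hwZ (f ^ 2)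
    have h1 : w * (f ^ 2 * w * (f ^ 2)⁻¹)⁻¹ ∈ I := by
      refine hI.2 ⟨Z.mul_mem hwZ (Z.inv_mem h0), ?_⟩
      have h22 : f ^ 2 * f ^ 2 = 1 := by rw [← pow_add]; exact hf4
      have h22' : (f ^ 2)⁻¹ = f ^ 2 := inv_eq_of_mul_eq_one_left h22
      calc f ^ 2 * (w * (f ^ 2 * w * (f ^ 2)⁻¹)⁻¹) * (f ^ 2)⁻¹
          = (f ^ 2 * w * (f ^ 2)⁻¹) * ((f ^ 2 * f ^ 2) * w⁻¹ * (f ^ 2 * f ^ 2)⁻¹) := by group
        _ = (f ^ 2 * w * (f ^ 2)⁻¹) * w⁻¹ := by rw [h22]; group
        _ = (w * (f ^ 2 * w * (f ^ 2)⁻¹)⁻¹)⁻¹ := by group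
    rw [h, mem_bot, mul_inv_eq_one] at h1
    exact htw (by
      calc f ^ 2 * w = f ^ 2 * w * (f ^ 2)⁻¹ * f ^ 2 := by group
        _ = w * f ^ 2 := by rw [← h1])
  have hat : Commute a (f ^ 2) := (show Commute a f from haf).pow_right 2
  have hap : IsPGroup 7 (zpowers a) := IsPGroup.of_card (n := 1) (by rw [Nat.card_zpowers, ha, pow_one])
  obtain ⟨c0, hc0, hc01, hc0a⟩ := exists_fixed (p := 7) hap (h7 hIp hI1) (by
    rintro _ ⟨i, rfl⟩ x hx
    have h1 : Commute (a ^ i) (f ^ 2) := hat.zpow_left i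
    refine hI.2 ⟨hZn.conj_mem x hx.1 _, ?_⟩
    have h2 : f ^ 2 * x * (f ^ 2)⁻¹ = x⁻¹ := hx.2
    calc f ^ 2 * (a ^ i * x * (a ^ i)⁻¹) * (f ^ 2)⁻¹
        = (f ^ 2 * a ^ i) * x * (f ^ 2 * a ^ i)⁻¹ := by group
      _ = (a ^ i * f ^ 2) * x * (a ^ i * f ^ 2)⁻¹ := by rw [h1.eq]
      _ = a ^ i * (f ^ 2 * x * (f ^ 2)⁻¹) * (a ^ i)⁻¹ := by group
      _ = a ^ i * x⁻¹ * (a ^ i)⁻¹ := by rw [h2]
      _ = (a ^ i * x * (a ^ i)⁻¹)⁻¹ := by group)
  obtain ⟨m, hm⟩ := exists_pow_order hIp hc0 hc01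
  obtain ⟨c, hcd⟩ : ∃ c, c = c0 ^ m := ⟨_, rfl⟩
  have hc : orderOf c = 7 := hcd ▸ hm
  have hcI : c ∈ I := hcd ▸ I.pow_mem hc0 m
  have hac : Commute a c := by
    rw [hcd]
    exact (show Commute a c0 from hc0a a (mem_zpowers a)).pow_right m
  have hcinv : f ^ 2 * c * (f ^ 2)⁻¹ = c⁻¹ := (hI.1 hcI).2
  obtain ⟨d, hdd⟩ : ∃ d, d = f * c * f⁻¹ := ⟨_, rfl⟩
  have hd : orderOf d = 7 := by
    rw [hdd, ← hc]
    exact orderOf_injective (MulAut.conj f).toMonoidHom (MulAut.conj f).injective c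
  have hdZ : d ∈ Z := hdd ▸ hZn.conj_mem c hcI.1 f
  have hfd : f * d * f⁻¹ = c⁻¹ := by
    rw [hdd, ← hcinv, pow_two]
    group
  have hdinv : f ^ 2 * d * (f ^ 2)⁻¹ = d⁻¹ := by
    calc f ^ 2 * d * (f ^ 2)⁻¹ = f * (f * d * f⁻¹) * f⁻¹ := by rw [pow_two]; group
      _ = f * c⁻¹ * f⁻¹ := by rw [hfd]
      _ = (f * c * f⁻¹)⁻¹ := by group
      _ = d⁻¹ := by rw [← hdd]
  have had : Commute a d := by
    rw [hdd]
    have h1 : Commute a f := haf
    exact (h1.mul_right hac).mul_right h1.inv_right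
  have hcd' : c * d = d * c := hZc c hcI.1 d hdZ
  have hdc : d ∉ zpowers c := by
    rintro ⟨i, hi⟩
    have h1 : c ^ i = d := hi
    have h2 : c ^ (i * i) = c ^ (-1 : ℤ) := by
      calc c ^ (i * i) = (c ^ i) ^ i := zpow_mul c i i
        _ = (f * c * f⁻¹) ^ i := by rw [h1, hdd]
        _ = f * c ^ i * f⁻¹ := conj_zpow
        _ = f * d * f⁻¹ := by rw [h1]
        _ = c ^ (-1 : ℤ) := by rw [hfd, zpow_neg_one]
    rw [zpow_eq_zpow_iff_modEq, hc] at h2
    have h3 : ((i * i : ℤ) : ZMod 7) = ((-1 : ℤ) : ZMod 7) := (ZMod.intCast_eq_intCast_iff _ _ 7).2 h2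
    push_cast at h3
    revert h3
    generalize (i : ZMod 7) = x
    revert x
    decide
  obtain ⟨i, j, hij⟩ := three S.na hc hd ha hcd' hac.symm.eq had.symm.eq hdc
  have h1 : f ^ 2 * a * (f ^ 2)⁻¹ = a⁻¹ := by
    rw [hij]
    have h2 : Commute (c ^ i) (d ^ j) := (show Commute c d from hcd').zpow_zpow i j
    calc f ^ 2 * (c ^ i * d ^ j) * (f ^ 2)⁻¹
        = (f ^ 2 * c ^ i * (f ^ 2)⁻¹) * (f ^ 2 * d ^ j * (f ^ 2)⁻¹) := by group
      _ = (f ^ 2 * c * (f ^ 2)⁻¹) ^ i * (f ^ 2 * d * (f ^ 2)⁻¹) ^ j := by rw [conj_zpow, conj_zpow]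
      _ = (c ^ i)⁻¹ * (d ^ j)⁻¹ := by rw [hcinv, hdinv, inv_zpow, inv_zpow]
      _ = (d ^ j * c ^ i)⁻¹ := by group
      _ = (c ^ i * d ^ j)⁻¹ := by rw [h2.eq]
  have h2 : f ^ 2 * a * (f ^ 2)⁻¹ = a := by
    rw [← hat.eq]
    group
  have h3 : a ^ 2 = 1 := by
    rw [h2] at h1
    rw [pow_two]
    nth_rewrite 1 [h1]
    group
  have h4 := orderOf_dvd_of_pow_eq_one h3
  rw [ha] at h4
  norm_num at h4

/-- **the simple normal subgroup** -/
theorem exists_simple (S : KSit K) :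
    ∃ T : Subgroup K, T.Normal ∧ IsSimpleGroup ↥T ∧ ¬ IsMulCommutative ↥T ∧ centralizer (T : Set K) = ⊥ ∧
      7 ∣ Nat.card T := by
  have hO' := S.prime_core
  have hO := S.p_core
  have hF : fittingSubgroup K = ⊥ := by
    have h1 := SignalizersComponents.CompOrbit.fittingSubgroup_le_pCore (p := 7) hO'
    rw [hO] at h1
    exact le_bot_iff.1 h1
  have hlay : generalizedFittingSubgroup K = layer K := by
    rw [Lib.GenFitting.genFitting_def, hF, sup_bot_eq]
  have hdc : ∀ {K' : Subgroup K}, IsComponent K' → 7 ∣ Nat.card K' := fun hK => H233.Simple.dvd_card_component hO' hK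
  -- there is a component
  obtain ⟨T, hT⟩ : ∃ K' : Subgroup K, IsComponent K' := by
    by_contra hc
    push Not at hc
    have h1 : layer K = ⊥ := by
      rw [← le_bot_iff, layer_le_iff]
      intro K' hK
      exact absurd hK (hc K')
    have h2 := Lib.GenFitting.centralizer_genFitting_le (G := K)
    rw [hlay, h1] at h2
    have h3 : (⊤ : Subgroup K) ≤ ⊥ := by
      refine le_trans ?_ h2
      intro g _
      rw [mem_centralizer_iff]
      intro x hx
      rw [SetLike.mem_coe, mem_bot] at hx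
      rw [hx, one_mul, mul_one]
    have h4 : Nat.card K = 1 := by
      rw [← Subgroup.card_top, le_bot_iff.1 h3, Subgroup.card_bot]
    have h5 := S.d343
    rw [h4] at h5
    norm_num at h5
  -- the centre of a component is trivial
  have hcen : ∀ {J : Subgroup K}, IsComponent J → ∀ z ∈ J, (∀ k ∈ J, z * k = k * z) → z = 1 := by
    intro J hJ z hz hzc
    have h1 : z ∈ centralizer (layer K : Set K) := by
      have h2 : layer K ≤ centralizer ({z} : Set K) := by
        rw [layer_le_iff]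
        intro J' hJ'
        by_cases hJK : J' = J
        · intro j hj
          rw [mem_centralizer_iff]
          rintro _ rfl
          exact hzc j (hJK ▸ hj)
        · refine (component_le_centralizer_of_ne hJ' hJ hJK).trans (Subgroup.centralizer_le ?_)
          rw [Set.singleton_subset_iff]
          exact hz
      rw [mem_centralizer_iff]
      intro j hj
      exact (mem_centralizer_iff.1 (h2 hj) z rfl).symm
    have h3 := SignalizersComponents.CompOrbit.inf_centralizer_self_le_pCore (p := 7) (N := layer K) hO' (layer_normal K)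
    rw [hO, le_bot_iff] at h3
    have h4 : z ∈ layer K ⊓ centralizer (layer K : Set K) := ⟨component_le_layer hJ hz, h1⟩
    rw [h3, mem_bot] at h4
    exact h4
  -- elements of order 7 of components
  have ho : ∀ {J : Subgroup K}, IsComponent J → ∃ x ∈ J, orderOf x = 7 := by
    intro J hJ
    obtain ⟨⟨y, hyT⟩, hy⟩ := exists_prime_orderOf_dvd_card' (G := J) 7 (hdc hJ)
    rw [Subgroup.orderOf_mk] at hy
    exact ⟨y, hyT, hy⟩
  -- the center of a Sylow subgroup
  have hL : ∀ {J P : Subgroup K} {w x : K}, IsComponent J → orderOf w = 7 → (∀ g ∈ P, g * w = w * g) →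
      (∀ g ∈ P, ∀ h ∈ P, ∃ k : ℤ, g * h * g⁻¹ = h * w ^ k) →
      (∀ h ∈ P, (∀ g ∈ P, g * h = h * g) → h ∈ zpowers w) → x ∈ J → x ∈ P → orderOf x = 7 → w ∈ J := by
    intro J P w x hJ hw hwc hPc hPz hxJ hxP hx
    have hx1 : x ≠ 1 := by
      rintro rfl
      rw [orderOf_one] at hx
      norm_num at hx
    by_cases hxc : ∀ g ∈ P, g * x = x * g
    · obtain ⟨i, hi⟩ := mem_zpowers_iff.1 (hPz x hxP hxc)
      have h1 : zpowers x = zpowers w := by
        apply Subgroup.eq_of_le_of_card_ge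
        · rw [zpowers_le]; exact hPz x hxP hxc
        · rw [Nat.card_zpowers, Nat.card_zpowers, hx, hw]
      have h2 : w ∈ zpowers x := by rw [h1]; exact mem_zpowers w
      exact (zpowers_le.2 hxJ) h2
    · push Not at hxc
      obtain ⟨g, hg, hgx⟩ := hxc
      obtain ⟨k, hk⟩ := hPc g hg x hxP
      have hk0 : ¬ ((7 : ℕ) : ℤ) ∣ k := by
        intro h
        apply hgx
        rw [(orderOf_dvd_iff_zpow_eq_one (x := w)).1 (by rw [hw]; exact h), mul_one] at hk
        exact mul_inv_eq_iff_eq_mul.1 hk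
      have hgw : Commute g w := hwc g hg
      have hxw : Commute x w := hwc x hxP
      have hk' : g⁻¹ * x * g = x * w ^ (-k) := by
        have h1 : g * (x * w ^ (-k)) * g⁻¹ = x := by
          calc g * (x * w ^ (-k)) * g⁻¹ = g * x * (w ^ (-k) * g⁻¹) := by group
            _ = g * x * (g⁻¹ * w ^ (-k)) := by rw [((hgw.zpow_right (-k)).inv_left).eq]
            _ = (g * x * g⁻¹) * w ^ (-k) := by group
            _ = x * (w ^ k * w ^ (-k)) := by rw [hk, mul_assoc]
            _ = x := by rw [← zpow_add, add_neg_cancel, zpow_zero, mul_one]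
        calc g⁻¹ * x * g = g⁻¹ * (g * (x * w ^ (-k)) * g⁻¹) * g := by rw [h1]
          _ = _ := by group
      have hcomp : ∀ (u : K) (l : ℤ), u * x * u⁻¹ = x * w ^ l → J.map (MulAut.conj u).toMonoidHom ≠ J →
          ∀ j ∈ J, (x * w ^ l) * j = j * (x * w ^ l) := by
        intro u l hu hne j hj
        have h1 : x * w ^ l ∈ J.map (MulAut.conj u).toMonoidHom := ⟨x, hxJ, hu⟩
        exact (mem_centralizer_iff.1 (component_le_centralizer_of_ne (isComponent_conj u hJ) hJ hne h1) j hj).symm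
      by_cases hgJ : J.map (MulAut.conj g).toMonoidHom = J
      · have h1 : x * w ^ k ∈ J := by
          rw [← hgJ]
          exact ⟨x, hxJ, hk⟩
        have h2 : w ^ k ∈ J := by
          have := J.mul_mem (J.inv_mem hxJ) h1
          rwa [inv_mul_cancel_left] at this
        have h3 : zpowers (w ^ k) = zpowers w := by
          apply Subgroup.eq_of_le_of_card_ge
          · rw [zpowers_le]; exact ⟨k, rfl⟩
          · rw [Nat.card_zpowers, Nat.card_zpowers, hw]
            have h4 : orderOf (w ^ k) ∣ 7 := by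
              rw [← hw]; exact orderOf_dvd_of_mem_zpowers ⟨k, rfl⟩
            rcases (Nat.dvd_prime (by norm_num)).1 h4 with h | h
            · exfalso
              apply hk0
              have h5 := (orderOf_dvd_iff_zpow_eq_one (x := w)).2 (orderOf_eq_one_iff.1 h)
              rwa [hw] at h5
            · rw [h]
        have h4 : w ∈ zpowers (w ^ k) := by rw [h3]; exact mem_zpowers w
        exact (zpowers_le.2 h2) h4
      · exfalso
        have hgJ' : J.map (MulAut.conj g⁻¹).toMonoidHom ≠ J := by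
          intro h
          apply hgJ
          rw [← h]
          ext z
          constructor
          · rintro ⟨_, ⟨y, hy, rfl⟩, rfl⟩
            have h1 : (MulAut.conj g).toMonoidHom ((MulAut.conj g⁻¹).toMonoidHom y) = y := by
              show g * (g⁻¹ * y * g⁻¹⁻¹) * g⁻¹ = y
              group
            rw [h1, h]
            exact hy
          · intro hz
            rw [h] at hz
            refine ⟨g⁻¹ * z * g⁻¹⁻¹, ⟨z, hz, rfl⟩, ?_⟩
            show g * (g⁻¹ * z * g⁻¹⁻¹) * g⁻¹ = z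
            group
        have h1 := hcomp g k hk hgJ
        have h2 := hcomp g⁻¹ (-k) (by rw [inv_inv]; exact hk') hgJ'
        apply hx1
        apply hcen hJ x hxJ
        intro j hj
        have h3 : Commute (x * w ^ k) j := h1 j hj
        have h4 : Commute (x * w ^ (-k)) j := h2 j hj
        have h5 : (x * w ^ (-k))⁻¹ * (x * w ^ k) = w ^ (2 * k) := by
          calc (x * w ^ (-k))⁻¹ * (x * w ^ k) = w ^ k * w ^ k := by group
            _ = _ := by rw [← zpow_add]; ring_nf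
        have h6 : Commute (w ^ (2 * k)) j := by
          rw [← h5]
          exact h4.inv_left.mul_left h3
        have h2k : ¬ ((7 : ℕ) : ℤ) ∣ 2 * k := by omega
        have h7 : Commute w j := (comm_of_zpow hw h2k h6.symm.eq).symm
        have h8 : Commute x j := by
          have h9 : x = (x * w ^ k) * (w ^ k)⁻¹ := by group
          rw [h9]
          exact h3.mul_left ((h7.zpow_left k).inv_left)
        exact h8
  -- the component is unique
  have key : ∀ {J L : Subgroup K}, IsComponent J → IsComponent L → J = L := by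
    intro J L hJ hLc
    by_contra hne
    obtain ⟨x, hxJ, hx⟩ := ho hJ
    obtain ⟨y, hyL, hy⟩ := ho hLc
    have hJL : ∀ a ∈ J, ∀ b ∈ L, a * b = b * a := by
      intro a ha b hb
      exact ((mem_centralizer_iff.1 (component_le_centralizer_of_ne hJ hLc hne ha)) b hb).symm
    have hyx : y ∉ zpowers x := by
      intro h
      have h1 : y ∈ J := (zpowers_le.2 hxJ) h
      have h2 : y = 1 := hcen hLc y hyL (fun k hk => hJL y h1 k hk)
      rw [h2, orderOf_one] at hy
      norm_num at hy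
    obtain ⟨A, -, hA2, hA3⟩ := pair hx hy (hJL x hxJ y hyL) hyx
    have hAp : IsPGroup 7 A := IsPGroup.of_card hA2
    obtain ⟨P, hAP⟩ := hAp.exists_le_sylow
    have hxP : x ∈ (P : Subgroup K) := hAP ((hA3 x).2 ⟨1, 0, by simp⟩)
    have hyP : y ∈ (P : Subgroup K) := hAP ((hA3 y).2 ⟨0, 1, by simp⟩)
    obtain ⟨w, hwP, hw, hwc, hPc, hPz⟩ := exists_center S.na (S.card_sylow P)
    have h1 : w ∈ J := hL hJ hw hwc hPc hPz hxJ hxP hx
    have h2 : w ∈ L := hL hLc hw hwc hPc hPz hyL hyP hy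
    have h3 : w = 1 := hcen hJ w h1 (fun k hk => (hJL k hk w h2).symm)
    rw [h3, orderOf_one] at hw
    norm_num at hw
  have hlT : layer K = T := by
    apply le_antisymm
    · rw [layer_le_iff]
      intro J hJ
      rw [key hJ hT]
    · exact component_le_layer hT
  have hTn : T.Normal := by
    rw [← hlT]
    exact layer_normal K
  have hTc : centralizer (T : Set K) = ⊥ := by
    have h1 := Lib.GenFitting.centralizer_genFitting_le (G := K)
    rw [hlay, hlT] at h1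
    rw [eq_bot_iff]
    intro z hz
    rw [mem_bot]
    apply hcen hT z (h1 hz)
    intro k hk
    exact (mem_centralizer_iff.1 hz k hk).symm
  refine ⟨T, hTn, ?_, quasisimple_not_isMulCommutative hT.2, hTc, hdc hT⟩
  have hc : center ↥T = ⊥ := by
    rw [eq_bot_iff]
    intro z hz
    rw [mem_bot]
    apply Subtype.ext
    apply hcen hT z z.2
    intro k hk
    exact (congrArg Subtype.val (mem_center_iff.1 hz ⟨k, hk⟩)).symm
  have h3 := hT.2.2
  have e : ↥T ⧸ center ↥T ≃* ↥T := (QuotientGroup.quotientMulEquivOfEq hc).trans QuotientGroup.quotientBot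
  have : Nontrivial ↥T := quasisimple_nontrivial hT.2
  exact IsSimpleGroup.isSimpleGroup_of_surjective e.toMonoidHom e.surjective

end KSit

end Cfsg.Agent.H725.CovHe
end

-- part: H725/Cov/HeEnd
section
/-!
# S2499, the Held group: the contradiction (helper725)
-/

set_option autoImplicit false
set_option maxRecDepth 100000

namespace Cfsg.Agent.H725.CovHe

open Cfsg Subgroup
open Cfsg.Agent.OrdDiv

universe u

/-- a group with a normal subgroup of trivial centralizer -/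
theorem card_dvd_mulaut {H : Type*} [Group H] [Finite H] (T : Subgroup H) [T.Normal]
    (hC : centralizer (T : Set H) = ⊥) : Nat.card H ∣ Nat.card (MulAut T) := by
  have h1 : (MulAut.conjNormal (H := T) : H →* MulAut T).ker = ⊥ := by
    rw [eq_bot_iff, ← hC]
    intro h hh
    rw [mem_centralizer_iff]
    intro t ht
    have h2 : ((MulAut.conjNormal h ⟨t, ht⟩ : T) : H) = t := by
      rw [MonoidHom.mem_ker.1 hh]
      rfl
    rw [MulAut.conjNormal_apply, mul_inv_eq_iff_eq_mul] at h2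
    exact h2.symm
  exact Subgroup.card_dvd_of_injective _ ((MonoidHom.ker_eq_bot_iff _).1 h1)

/-- the automorphism group and the outer automorphism group -/
theorem card_mulaut_dvd {S : Type*} [Group S] [Finite S] :
    Nat.card (MulAut S) ∣ Nat.card S * Nat.card (Out S) := by
  rw [Subgroup.card_eq_card_quotient_mul_card_subgroup (Inn S), mul_comm]
  exact Nat.mul_dvd_mul (Subgroup.card_range_dvd _) dvd_rfl

def lK : List (ℕ × ℕ) := [(2, 10), (3, 3), (5, 2), (7, 3)]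

theorem valid_K : valid lK 237081600 = true := by decide +kernel

theorem cand_K : ∀ g ∈ (cands lK 237081600).filter (fun g => (fun n => Nat.beq (n % 49) 0) (ordN g)),
    g = .psl 2 49 := by decide +kernel

theorem KSit.false (tab : OrderTable.{u}) (known : H257.El.Known.{u}) {K : Type u} [Group K] [Finite K]
    (S : KSit K) (hd : Nat.card K ∣ 237081600) : False := by
  obtain ⟨T, hTn, hTs, hTc, hC, h7⟩ := S.exists_simple
  have hTH : Nat.card T ∣ Nat.card K := Subgroup.card_subgroup_dvd_card T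
  have hAut := card_dvd_mulaut T hC
  have hknown : IsKnownSimple' T := known T
  have hna : ¬ ∀ a b : T, a * b = b * a := fun h => hTc ⟨⟨h⟩⟩
  by_cases h49 : 49 ∣ Nat.card T
  · obtain ⟨g, hg, hR, ho⟩ := exists_good tab hknown hna valid_K (hTH.trans hd)
    have hg2 : g ∈ (cands lK 237081600).filter (fun g => (fun n => Nat.beq (n % 49) 0) (ordN g)) := by
      refine List.mem_filter.2 ⟨hg, ?_⟩
      rw [← ho]
      rw [Nat.beq_eq]
      exact Nat.mod_eq_zero_of_dvd h49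
    obtain rfl := cand_K g hg2
    obtain ⟨F, _, _, hF, ⟨e⟩⟩ := hR
    have ho' : Nat.card T = 58800 := ho.trans (by decide +kernel)
    have h1 : Nat.card (MulAut T) = Nat.card T * 4 := by
      rw [Nat.card_congr (MulAut.congr e).toEquiv, S0813.result 7 2 (by norm_num) (by rw [hF]; norm_num) 2 (by norm_num) (by norm_num)]
      have h2 := ClassicalGeometry.PSL2Basic.card_PGL_mul (Fin 2) F
      rw [Matrix.card_GL_field, hF] at h2
      have h3 : (∏ i : Fin 2, (49 ^ 2 - 49 ^ (i : ℕ)) : ℕ) = 117600 * 48 := by decide +kernel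
      rw [h3] at h2
      rw [ho', if_pos rfl]
      omega
    rw [h1, ho'] at hAut
    have h2 := S.d343.trans hAut
    norm_num at h2
  · -- the outer automorphism group
    have hbd := H934.OutAll.bd hTc hknown
    obtain ⟨Q⟩ : Nonempty (Sylow 2 T) := inferInstance
    have hQ : (Q : Subgroup T) ≠ ⊤ := by
      intro h
      have h1 : IsPGroup 2 (⊤ : Subgroup T) := h ▸ Q.isPGroup'
      have h2 : IsPGroup 2 T := h1.of_equiv Subgroup.topEquiv
      obtain ⟨k, hk⟩ := (IsPGroup.iff_card).1 h2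
      rw [hk] at h7
      have h3 := (Nat.Prime.dvd_of_dvd_pow (by norm_num : Nat.Prime 7) h7)
      norm_num at h3
    have hidx : (Q : Subgroup T).index ∣ 4725 := by
      have h1 : (Q : Subgroup T).index ∣ 237081600 := (Subgroup.index_dvd_card _).trans (hTH.trans hd)
      have h2 : ¬ 2 ∣ (Q : Subgroup T).index := Q.not_dvd_index
      have h3 : (Q : Subgroup T).index.Coprime (2 ^ 10) := by
        apply Nat.Coprime.pow_right
        exact ((Nat.Prime.coprime_iff_not_dvd (by norm_num)).2 h2).symm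
      have h4 : (Q : Subgroup T).index ∣ 2 ^ 10 * 231525 := by
        rw [show 2 ^ 10 * 231525 = 237081600 by norm_num]; exact h1
      have h5 := h3.dvd_of_dvd_mul_left h4
      have h6 : ¬ 49 ∣ (Q : Subgroup T).index := fun h => h49 (h.trans (Subgroup.index_dvd_card _))
      -- `m ∣ 231525 = 49 * 4725`
      have h7 : (231525 : ℕ) = 7 ^ 3 * 675 := by norm_num
      rw [h7] at h5
      obtain ⟨x, y, hx, hy, hxy⟩ := (Nat.dvd_mul.1 h5)
      obtain ⟨i, hi, rfl⟩ := (Nat.dvd_prime_pow (by norm_num : Nat.Prime 7)).1 hx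
      have hi2 : i < 2 := by
        by_contra hcon
        apply h6
        rw [← hxy]
        exact (show 49 ∣ 7 ^ i from (by norm_num : (49 : ℕ) = 7 ^ 2) ▸ pow_dvd_pow 7 (by omega)).trans (Nat.dvd_mul_right _ _)
      rw [← hxy, show (4725 : ℕ) = 7 ^ 1 * 675 by norm_num]
      exact Nat.mul_dvd_mul (pow_dvd_pow 7 (by omega)) hy
    have h1 := hbd (Q : Subgroup T) hQ
    have h2 : (Q : Subgroup T).index ≤ 4725 := Nat.le_of_dvd (by norm_num) hidx
    have h3 : 2 ^ Nat.card (Out T) ≤ 4725 ^ 3 := h1.trans (Nat.pow_le_pow_left h2 3)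
    have h4 : Nat.card (Out T) < 49 := by
      by_contra hcon
      push Not at hcon
      have h5 : 2 ^ 49 ≤ 2 ^ Nat.card (Out T) := Nat.pow_le_pow_right (by norm_num) hcon
      have h6 := h5.trans h3
      norm_num at h6
    have h5 := S.d343.trans (hAut.trans card_mulaut_dvd)
    obtain ⟨m, hm⟩ := h7
    have h7m : ¬ 7 ∣ m := by
      rintro ⟨n, rfl⟩
      exact h49 ⟨n, by rw [hm]; ring⟩
    have h6 : 49 ∣ Nat.card (Out T) := by
      rw [hm, show 343 = 7 * 49 by norm_num, mul_assoc] at h5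
      have h8 := Nat.dvd_of_mul_dvd_mul_left (by norm_num) h5
      have h9 : Nat.Coprime 49 m := by
        rw [show 49 = 7 ^ 2 by norm_num]
        exact Nat.Coprime.pow_left 2 ((Nat.Prime.coprime_iff_not_dvd (by norm_num)).2 h7m)
      exact h9.dvd_of_dvd_mul_left h8
    have hpos : 0 < Nat.card (Out T) := by
      have : Finite (MulAut T) := inferInstance
      have : Finite (Out T) := Quotient.finite _
      exact Nat.card_pos
    have := Nat.le_of_dvd hpos h6
    omega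

end Cfsg.Agent.H725.CovHe
end

-- part: H725/Cov/He
section
/-!
# S2499: the Held group (helper725)

Elements of orders 17, 28 and an element of order 7 with centralizer of order 98 or 196.
-/

set_option autoImplicit false
set_option maxRecDepth 100000

namespace Cfsg.Agent.H725.Cov

open Cfsg Subgroup Cfsg.Agent.OrdDiv Cfsg.Agent.H278.Cov Cfsg.Agent.H455.Cov
open Cfsg.Agent.H725.CovHe

universe u

/-- the facts -/
structure TSit (T : Type u) [Group T] : Prop where
  card : Nat.card T = 4030387200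
  tri : ∀ x : T, orderOf x = 7 → Nat.card (centralizer ({x} : Set T)) = 1029 ∨
    (Nat.card (centralizer ({x} : Set T)) = 588 ∨ Nat.card (centralizer ({x} : Set T)) = 1176) ∨
    (Nat.card (centralizer ({x} : Set T)) = 98 ∨ Nat.card (centralizer ({x} : Set T)) = 196)

namespace TSit

variable {T : Type u} [Group T] [Finite T]

theorem nd (S : TSit T) : ¬ 7 ^ 4 ∣ Nat.card T := by rw [S.card]; norm_num

/-- the order of a subgroup containing elements of the two types -/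
theorem d343 (S : TSit T) (H : Subgroup T) {a b : T} (haH : a ∈ H) (hbH : b ∈ H) (ha : orderOf a = 7)
    (hb : orderOf b = 7)
    (hac : Nat.card (centralizer ({a} : Set T)) = 588 ∨ Nat.card (centralizer ({a} : Set T)) = 1176)
    (hbc : Nat.card (centralizer ({b} : Set T)) = 98 ∨ Nat.card (centralizer ({b} : Set T)) = 196) :
    343 ∣ Nat.card H := by
  have h3 : 7 ^ 3 ∣ Nat.card T := by rw [S.card]; norm_num
  have hna : NoAb 7 T := noAb_of S.nd ha (by rcases hac with h | h <;> rw [h] <;> norm_num)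
  obtain ⟨A⟩ : Nonempty (Sylow 7 H) := inferInstance
  -- conjugates of `a` and `b` in `A`
  have key : ∀ x : T, x ∈ H → orderOf x = 7 → ∃ y ∈ (A : Subgroup H).map H.subtype, orderOf y = 7 ∧
      Nat.card (centralizer ({y} : Set T)) = Nat.card (centralizer ({x} : Set T)) := by
    intro x hxH hx
    have hx' : orderOf (⟨x, hxH⟩ : H) = 7 := by rw [Subgroup.orderOf_mk, hx]
    have hxp : IsPGroup 7 (zpowers (⟨x, hxH⟩ : H)) := IsPGroup.of_card (n := 1) (by rw [Nat.card_zpowers, hx', pow_one])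
    obtain ⟨P, hxP'⟩ := hxp.exists_le_sylow
    have hxP : (⟨x, hxH⟩ : H) ∈ (P : Subgroup H) := hxP' (mem_zpowers _)
    obtain ⟨g, hg⟩ := MulAction.exists_smul_eq H P A
    have hgx : g * ⟨x, hxH⟩ * g⁻¹ ∈ (A : Subgroup H) := by
      rw [← hg, Sylow.coe_subgroup_smul]
      exact ⟨_, hxP, rfl⟩
    refine ⟨g * x * (g : T)⁻¹, ⟨_, hgx, rfl⟩, ?_, card_centralizer_conj _ _⟩
    rw [← hx]
    exact orderOf_injective (MulAut.conj (g : T)).toMonoidHom (MulAut.conj (g : T)).injective x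
  obtain ⟨a', haA, ha', hac'⟩ := key a haH ha
  obtain ⟨b', hbA, hb', hbc'⟩ := key b hbH hb
  rw [← hac'] at hac
  rw [← hbc'] at hbc
  obtain ⟨k, hk⟩ := (IsPGroup.iff_card).1 A.isPGroup'
  by_cases hk3 : 3 ≤ k
  · have h1 : 7 ^ 3 ∣ Nat.card A := by rw [hk]; exact pow_dvd_pow 7 hk3
    have h2 := h1.trans (Subgroup.card_subgroup_dvd_card (A : Subgroup H))
    simpa only [_root_.Nat.reducePow] using h2
  exfalso
  -- `A` is commutative
  have hAc : ∀ x ∈ (A : Subgroup H).map H.subtype, ∀ y ∈ (A : Subgroup H).map H.subtype, x * y = y * x := by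
    have h1 : ∀ x y : (A : Subgroup H), x * y = y * x := by
      have hk2 : k = 0 ∨ k = 1 ∨ k = 2 := by omega
      rcases hk2 with rfl | rfl | rfl
      · have h2 : Subsingleton (A : Subgroup H) := (Nat.card_eq_one_iff_unique.1 (by simpa only [_root_.Subgroup.card_eq_one, _root_.pow_zero] using hk)).1
        intro x y
        exact Subsingleton.elim _ _
      · have h2 : IsCyclic (A : Subgroup H) := isCyclic_of_prime_card (p := 7) (by simpa only [_root_.pow_one] using hk)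
        intro x y
        exact (IsCyclic.isMulCommutative (α := (A : Subgroup H))).is_comm.comm x y
      · exact (IsPGroup.isMulCommutative_of_card_eq_prime_sq (p := 7) hk).is_comm.comm
    rintro _ ⟨x, hx, rfl⟩ _ ⟨y, hy, rfl⟩
    have h3 := h1 ⟨x, hx⟩ ⟨y, hy⟩
    exact congrArg (fun z : (A : Subgroup H) => ((z : H) : T)) h3
  have hAp : IsPGroup 7 ((A : Subgroup H).map H.subtype) := A.isPGroup'.map H.subtype
  obtain ⟨P, hAP⟩ := hAp.exists_le_sylow
  have haP := hAP haA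
  have hbP := hAP hbA
  obtain ⟨w, hwP, hw, hwc, hPc, -⟩ := exists_center hna (card_sylow h3 S.nd P)
  -- the centralizer of `w`
  have hwd : 343 ∣ Nat.card (centralizer ({w} : Set T)) := by
    have h1 : (P : Subgroup T) ≤ centralizer ({w} : Set T) := fun g hg => mem_centralizer_singleton_iff.2 (hwc g hg)
    have h2 := Subgroup.card_dvd_of_le h1
    rw [card_sylow h3 S.nd P] at h2
    simpa only [_root_.Nat.reducePow] using h2
  have hnw : ∀ x : T, orderOf x = 7 → ¬ 343 ∣ Nat.card (centralizer ({x} : Set T)) → x ∉ zpowers w := by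
    rintro x hx hxd ⟨i, hi⟩
    have hi' : w ^ i = x := hi
    have h1 : ¬ ((7 : ℕ) : ℤ) ∣ i := by
      intro h
      rw [(orderOf_dvd_iff_zpow_eq_one (x := w)).1 (by rw [hw]; exact h)] at hi'
      rw [← hi', orderOf_one] at hx
      norm_num at hx
    apply hxd
    rw [← hi', centralizer_zpow hw h1]
    exact hwd
  have haw : a' ∉ zpowers w := hnw a' ha' (by rcases hac with h | h <;> rw [h] <;> norm_num)
  have hbw : b' ∉ zpowers w := hnw b' hb' (by rcases hbc with h | h <;> rw [h] <;> norm_num)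
  have han : ¬ ∀ g ∈ (P : Subgroup T), g * a' = a' * g := by
    intro h
    have h1 : (P : Subgroup T) ≤ centralizer ({a'} : Set T) := fun g hg => mem_centralizer_singleton_iff.2 (h g hg)
    have h2 := Subgroup.card_dvd_of_le h1
    rw [card_sylow h3 S.nd P] at h2
    rcases hac with h | h <;> rw [h] at h2 <;> norm_num at h2
  obtain ⟨i, j, hij⟩ := three hna hw ha' hb' (hwc a' haP).symm (hwc b' hbP).symm (hAc a' haA b' hbA) haw
  have hj : ¬ ((7 : ℕ) : ℤ) ∣ j := by
    intro h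
    rw [(orderOf_dvd_iff_zpow_eq_one (x := a')).1 (by rw [ha']; exact h), mul_one] at hij
    exact hbw ⟨i, hij.symm⟩
  obtain ⟨g, hg, hgx⟩ := exists_conj_of (p := 7) hw hwc hPc haP han hj i
  have h5 : w ^ i * a' ^ j = a' ^ j * w ^ i := ((show Commute w a' from (hwc a' haP).symm).zpow_zpow i j).eq
  have h6 : Nat.card (centralizer ({b'} : Set T)) = Nat.card (centralizer ({a'} : Set T)) := by
    rw [hij, h5, ← hgx, card_centralizer_conj, centralizer_zpow ha' hj]
  rcases hac with h | h <;> rcases hbc with h' | h' <;> rw [h, h'] at h6 <;> norm_num at h6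

/-- **the pair of incompatible elements** -/
theorem inc (tab : OrderTable.{u}) (known : H257.El.Known.{u}) (S : TSit T) (h17 : Bad T 17 7) {a f b : T}
    (ha : orderOf a = 7) (hf : orderOf f = 4) (haf : a * f = f * a) (hb : orderOf b = 7)
    (hac : Nat.card (centralizer ({a} : Set T)) = 588 ∨ Nat.card (centralizer ({a} : Set T)) = 1176)
    (hbc : Nat.card (centralizer ({b} : Set T)) = 98 ∨ Nat.card (centralizer ({b} : Set T)) = 196) :
    Inc (a * f) b := by
  intro H hH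
  by_contra hcon
  rw [not_or] at hcon
  obtain ⟨⟨g, hg⟩, u, hu⟩ := And.intro (not_av hcon.1) (not_av hcon.2)
  have h3 : 7 ^ 3 ∣ Nat.card T := by rw [S.card]; norm_num
  have hna : NoAb 7 T := noAb_of S.nd ha (by rcases hac with h | h <;> rw [h] <;> norm_num)
  have horder : ∀ x y : T, orderOf (x * y * x⁻¹) = orderOf y := fun x y =>
    orderOf_injective (MulAut.conj x).toMonoidHom (MulAut.conj x).injective y
  have hc : Commute a f := haf
  have ha7 : a ^ 7 = 1 := by rw [← ha, pow_orderOf_eq_one]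
  have hf4 : f ^ 4 = 1 := by rw [← hf, pow_orderOf_eq_one]
  have haH : g * a * g⁻¹ ∈ H := by
    have h1 := H.pow_mem hg 8
    rw [conj_pow, hc.mul_pow, show 8 = 7 + 1 by norm_num, pow_succ a, ha7, one_mul,
      show 7 + 1 = 4 + 4 by norm_num, pow_add f, hf4, mul_one, mul_one] at h1
    exact h1
  have hfH : g * f * g⁻¹ ∈ H := by
    have h1 := H.pow_mem hg 21
    rw [conj_pow, hc.mul_pow, show 21 = 7 * 3 by norm_num, pow_mul a, ha7, one_pow, one_mul,
      show 7 * 3 = 4 * 5 + 1 by norm_num, pow_succ f, pow_mul f, hf4, one_pow, one_mul] at h1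
    exact h1
  have hac' : Nat.card (centralizer ({g * a * g⁻¹} : Set T)) = 588 ∨
      Nat.card (centralizer ({g * a * g⁻¹} : Set T)) = 1176 := by rw [card_centralizer_conj]; exact hac
  have hbc' : Nat.card (centralizer ({u * b * u⁻¹} : Set T)) = 98 ∨
      Nat.card (centralizer ({u * b * u⁻¹} : Set T)) = 196 := by rw [card_centralizer_conj]; exact hbc
  have h343 : 343 ∣ Nat.card H :=
    S.d343 H haH hu (by rw [horder, ha]) (by rw [horder, hb]) hac' hbc'
  have hHT : Nat.card H ∣ 4030387200 := by rw [← S.card]; exact Subgroup.card_subgroup_dvd_card H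
  have hK : KSit H := by
    refine ⟨h343, ?_, hna.subgroup H, ?_, ?_, ?_⟩
    · intro h
      exact absurd (h.trans hHT) (by norm_num)
    · intro x hx
      have h1 := card_centralizer_dvd H x
      rcases S.tri x (by rw [Subgroup.orderOf_coe, hx]) with h | (h | h) | (h | h)
      · exact Or.inl (h ▸ h1)
      · exact Or.inr ((h ▸ h1).trans (by norm_num))
      · exact Or.inr (h ▸ h1)
      · exact Or.inr ((h ▸ h1).trans (by norm_num))
      · exact Or.inr ((h ▸ h1).trans (by norm_num))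
    · refine ⟨⟨_, hu⟩, by rw [Subgroup.orderOf_mk, horder, hb], ?_⟩
      have h1 := card_centralizer_dvd H ⟨_, hu⟩
      rcases hbc' with h | h
      · exact (h ▸ h1).trans (by norm_num)
      · exact h ▸ h1
    · refine ⟨⟨_, haH⟩, ⟨_, hfH⟩, by rw [Subgroup.orderOf_mk, horder, ha], by rw [Subgroup.orderOf_mk, horder, hf], ?_⟩
      apply Subtype.ext
      show g * a * g⁻¹ * (g * f * g⁻¹) = g * f * g⁻¹ * (g * a * g⁻¹)
      calc g * a * g⁻¹ * (g * f * g⁻¹) = g * (a * f) * g⁻¹ := by group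
        _ = g * (f * a) * g⁻¹ := by rw [haf]
        _ = _ := by group
  have h17' : ¬ 17 ∣ Nat.card H := fun h => h17 H hH h ((by norm_num : (7 : ℕ) ∣ 343).trans h343)
  refine hK.false tab known ?_
  have h1 : (Nat.card H).Coprime 17 := ((Nat.Prime.coprime_iff_not_dvd (by norm_num)).2 h17').symm
  have h2 : Nat.card H ∣ 17 * 237081600 := by rw [show 17 * 237081600 = 4030387200 by norm_num]; exact hHT
  exact h1.dvd_of_dvd_mul_left h2

end TSit

/-- the factorisation of the order of the Held group -/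
def lHe : List (ℕ × ℕ) := [(2, 10), (3, 3), (5, 2), (7, 3), (17, 1)]

theorem noTwo_he (tab : OrderTable.{0}) (known : H257.El.Known.{0}) {T : Type} [Group T] [Finite T]
    (h : Spor.IsoHe T) : NoTwo T := by
  have hc := NotCT.Orders.he h
  obtain ⟨e⟩ := h
  have hfin : Finite Cfsg.Spor.He := finHe
  have hcent : ∀ x : T, Nat.card (centralizer ({x} : Set T)) = Nat.card (centralizer ({e x} : Set Cfsg.Spor.He)) :=
    fun x => Cfsg.Agent.H14.Tor.card_cent_equiv e x
  have S : TSit T := ⟨hc, fun x hx => by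
    rw [hcent]
    exact seven (by rw [MulEquiv.orderOf_eq, hx])⟩
  have hno : ∀ z : T, orderOf z ≠ 17 * 7 := by
    refine H257.El.noOrd_congr e fun z hz => ?_
    have h1 : orderOf (z ^ 7) = 17 := by
      rw [orderOf_pow_of_dvd (by norm_num) (by rw [hz]; norm_num), hz]
    have h2 := Cfsg.Agent.H436.HeFive.cent17 (z ^ 7) h1
    have h3 : orderOf z ∣ Nat.card (centralizer ({z ^ 7} : Set Cfsg.Spor.He)) :=
      Subgroup.orderOf_dvd_natCard _ (mem_centralizer_singleton_iff.2 ((Commute.refl z).pow_right 7).eq)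
    have h4 := h3.trans h2
    rw [hz] at h4
    norm_num at h4
  have h17 : Bad T 17 7 := bad_of_chk tab known (l := lHe) hc (r := 17) (p := 7) (by norm_num) (by norm_num) hno
    (by decide +kernel)
  obtain ⟨z, hz⟩ := exists_elt (T := T) (p := 17) (by norm_num) (by rw [hc]; norm_num)
  obtain ⟨a, had⟩ : ∃ a, a = e.symm Cfsg.Agent.CpAutHe.Seven.x0 := ⟨_, rfl⟩
  obtain ⟨b, hbd⟩ : ∃ b, b = e.symm Cfsg.Agent.CpAutHe.Seven.x1 := ⟨_, rfl⟩
  obtain ⟨f, hfd⟩ : ∃ f, f = e.symm (Cfsg.Agent.SporadicB.HePerm.wd [.b, .a]) := ⟨_, rfl⟩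
  have ha : orderOf a = 7 := by rw [had, MulEquiv.orderOf_eq, Cfsg.Agent.CpAutHe.Seven.order0]
  have hb : orderOf b = 7 := by rw [hbd, MulEquiv.orderOf_eq, Cfsg.Agent.CpAutHe.Seven.order1]
  have hf : orderOf f = 4 := by rw [hfd, MulEquiv.orderOf_eq, Cfsg.Agent.H492.IMHe.o4]
  have haf : a * f = f * a := by rw [had, hfd, ← map_mul, ← map_mul, comm_x0]
  have hac : Nat.card (centralizer ({a} : Set T)) = 588 ∨ Nat.card (centralizer ({a} : Set T)) = 1176 := by
    rw [hcent, had, MulEquiv.apply_symm_apply]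
    exact card_x0
  have hbc : Nat.card (centralizer ({b} : Set T)) = 98 ∨ Nat.card (centralizer ({b} : Set T)) = 196 := by
    rw [hcent, hbd, MulEquiv.apply_symm_apply]
    exact card_x1
  have h7af : 7 ∣ orderOf (a * f) := by
    rw [(show Commute a f from haf).orderOf_mul_eq_mul_orderOf_of_coprime (by rw [ha, hf]; norm_num), ha, hf]
    norm_num
  have h7b : 7 ∣ orderOf b := by rw [hb]
  exact noTwo_of_three (x := z) (y := a * f) (z := b) (inc_of_bad h17 hz h7af)
    (S.inc tab known h17 ha hf haf hb hac hbc) (inc_of_bad h17 hz h7b)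

end Cfsg.Agent.H725.Cov
end
end
end

-- part: H278/Cov/Red_mg
section
set_option linter.all false
open scoped Cfsg.Agent.FastGrp

-- part: H278/Cov/Red
section
/-!
# S2499: the reduction to the rows

`s2499_of` : the statement S2499 from `CovRows` (one row per family of simple groups).
-/

set_option autoImplicit false

namespace Cfsg.Agent.H278.Cov

open Cfsg Cfsg.Agent.OrdDiv Cfsg.Agent.H436

universe u

/-- the rows of the alternating and classical groups -/
structure ClRows : Prop where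
  alt : ∀ {n : ℕ}, 9 ≤ n → NoTwo ↥(alternatingGroup (Fin n))
  psl : ∀ {n : ℕ} {F : Type} [Field F] [Fintype F], 5 ≤ n → NoTwo (Matrix.ProjectiveSpecialLinearGroup (Fin n) F)
  psp : ∀ {m : ℕ} {F : Type} [Field F] [Fintype F], 2 ≤ m → Odd (Fintype.card F) → (m = 2 → 5 ≤ Fintype.card F) →
    (m = 3 → ¬ 3 ∣ Fintype.card F) → NoTwo (PSp m F)
  psu : ∀ {n q : ℕ} {F : Type} [Field F] [Fintype F], Fintype.card F = q ^ 2 → 5 ≤ n → NoTwo (PSU n F q)
  psu3 : ∀ {q : ℕ} {F : Type} [Field F] [Fintype F], Fintype.card F = q ^ 2 → 4 ≤ q → q ≠ 5 → ¬ 3 ∣ q →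
    NoTwo (PSU 3 F q)
  oodd : ∀ {m : ℕ} {F : Type} [Field F] [Fintype F], 3 ≤ m → Odd (Fintype.card F) →
    NoTwo (POmega F (quadFormOdd m F))
  oplus : ∀ {m : ℕ} {F : Type} [Field F] [Fintype F], 4 ≤ m → NoTwo (POmega F (quadFormPlus m F))
  ominus : ∀ {m : ℕ} {F : Type} [Field F] [Fintype F] {a b : F}, 4 ≤ m →
    (∀ z₁ z₂ : F, z₁ ^ 2 + a * z₁ * z₂ + b * z₂ ^ 2 = 0 → z₁ = 0 ∧ z₂ = 0) →
    NoTwo (POmega F (quadFormMinus (m - 1) F a b))

/-- the rows of the exceptional groups -/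
structure CovExc : Prop where
  g2 : ∀ {q : ℕ} {T : Type} [Group T] [Finite T], Odd q → IsNamed (.g2 q) T → NoTwo T
  f4 : ∀ {q : ℕ} {T : Type} [Group T] [Finite T], ¬ 3 ∣ q → IsNamed (.f4 q) T → NoTwo T
  e6 : ∀ {q : ℕ} {T : Type} [Group T] [Finite T], IsNamed (.e6 q) T → NoTwo T
  e7 : ∀ {q : ℕ} {T : Type} [Group T] [Finite T], IsNamed (.e7 q) T → NoTwo T
  e8 : ∀ {q : ℕ} {T : Type} [Group T] [Finite T], IsNamed (.e8 q) T → NoTwo T
  te6 : ∀ {q : ℕ} {T : Type} [Group T] [Finite T], IsNamed (.te6 q) T → NoTwo T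
  td4 : ∀ {q : ℕ} {T : Type} [Group T] [Finite T], IsNamed (.td4 q) T → NoTwo T
  sz : ∀ {q : ℕ} {T : Type} [Group T] [Finite T], IsNamed (.sz q) T → NoTwo T
  ree : ∀ {q : ℕ} {T : Type} [Group T] [Finite T], IsNamed (.ree q) T → NoTwo T
  tf4 : ∀ {q : ℕ} {T : Type} [Group T] [Finite T], IsNamed (.tf4 q) T → NoTwo T

/-- the rows of the sporadic groups -/
structure CovSpor : Prop where
  m12 : ∀ {T : Type} [Group T] [Finite T], Spor.IsoM12 T → NoTwo T
  m22 : ∀ {T : Type} [Group T] [Finite T], Spor.IsoM22 T → NoTwo T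
  m23 : ∀ {T : Type} [Group T] [Finite T], Spor.IsoM23 T → NoTwo T
  m24 : ∀ {T : Type} [Group T] [Finite T], Spor.IsoM24 T → NoTwo T
  j1 : ∀ {T : Type} [Group T] [Finite T], Spor.IsoJ1 T → NoTwo T
  j2 : ∀ {T : Type} [Group T] [Finite T], Spor.IsoJ2 T → NoTwo T
  j3 : ∀ {T : Type} [Group T] [Finite T], Spor.IsoJ3 T → NoTwo T
  j4 : ∀ {T : Type} [Group T] [Finite T], Spor.IsoJ4 T → NoTwo T
  co1 : ∀ {T : Type} [Group T] [Finite T], Spor.IsoCo1 T → NoTwo T
  co2 : ∀ {T : Type} [Group T] [Finite T], Spor.IsoCo2 T → NoTwo T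
  co3 : ∀ {T : Type} [Group T] [Finite T], Spor.IsoCo3 T → NoTwo T
  mcl : ∀ {T : Type} [Group T] [Finite T], Spor.IsoMcL T → NoTwo T
  hs : ∀ {T : Type} [Group T] [Finite T], Spor.IsoHS T → NoTwo T
  suz : ∀ {T : Type} [Group T] [Finite T], Spor.IsoSuz T → NoTwo T
  he : ∀ {T : Type} [Group T] [Finite T], Spor.IsoHe T → NoTwo T
  ru : ∀ {T : Type} [Group T] [Finite T], Spor.IsoRu T → NoTwo T
  on : ∀ {T : Type} [Group T] [Finite T], Spor.IsoON T → NoTwo T
  ly : ∀ {T : Type} [Group T] [Finite T], Spor.IsoLy T → NoTwo T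
  fi22 : ∀ {T : Type} [Group T] [Finite T], Spor.IsoFi22 T → NoTwo T
  fi23 : ∀ {T : Type} [Group T] [Finite T], Spor.IsoFi23 T → NoTwo T
  fi24 : ∀ {T : Type} [Group T] [Finite T], Spor.IsoFi24' T → NoTwo T
  hn : ∀ {T : Type} [Group T] [Finite T], Spor.IsoHN T → NoTwo T
  th : ∀ {T : Type} [Group T] [Finite T], Spor.IsoTh T → NoTwo T
  b : ∀ {T : Type} [Group T] [Finite T], Spor.IsoB T → NoTwo T
  m : ∀ {T : Type} [Group T] [Finite T], Spor.IsoM T → NoTwo T

/-- the conclusion of S2499 -/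
def Listed (G : Type u) [Group G] : Prop :=
  (∃ n : ℕ, (n = 5 ∨ n = 6 ∨ n = 7 ∨ n = 8) ∧ Nonempty (G ≃* alternatingGroup (Fin n))) ∨
    Cfsg.Spor.IsoM11 G ∨
    (∃ (F : Type) (_ : Field F) (_ : Fintype F) (a : ℕ), 2 ≤ a ∧ Fintype.card F = 2 ^ a ∧ Nonempty (G ≃* Cfsg.Lie.G2 F)) ∨
    (∃ a : ℕ, 1 ≤ a ∧ IsSimpleGroup G ∧ Nat.card G = (3 ^ a) ^ 24 * ((3 ^ a) ^ 12 - 1) * ((3 ^ a) ^ 8 - 1) * ((3 ^ a) ^ 6 - 1) * ((3 ^ a) ^ 2 - 1)) ∨
    Cfsg.IsTits G ∨
    (∃ (F : Type) (_ : Field F) (_ : Fintype F) (n : ℕ), ((n = 2 ∧ 4 ≤ Fintype.card F) ∨ n = 3 ∨ n = 4) ∧ Nonempty (G ≃* Matrix.ProjectiveSpecialLinearGroup (Fin n) F)) ∨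
    (∃ (F : Type) (_ : Field F) (_ : Fintype F) (q : ℕ), Fintype.card F = q ^ 2 ∧ ((∃ a : ℕ, 1 ≤ a ∧ q = 3 ^ a) ∨ q = 5) ∧ Nonempty (G ≃* Cfsg.PSU 3 F q)) ∨
    (∃ (F : Type) (_ : Field F) (_ : Fintype F) (q : ℕ), Fintype.card F = q ^ 2 ∧ Nonempty (G ≃* Cfsg.PSU 4 F q)) ∨
    (∃ (F : Type) (_ : Field F) (_ : Fintype F) (m a : ℕ), 2 ≤ m ∧ 1 ≤ a ∧ Fintype.card F = 2 ^ a ∧ ¬ (m = 2 ∧ a = 1) ∧ Nonempty (G ≃* Cfsg.PSp m F)) ∨
    (∃ (F : Type) (_ : Field F) (_ : Fintype F) (a : ℕ), 1 ≤ a ∧ Fintype.card F = 3 ^ a ∧ Nonempty (G ≃* Cfsg.PSp 3 F))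

theorem exists_pow_of_dvd {q p : ℕ} (hq : IsPrimePow q) (hp : p.Prime) (h : p ∣ q) : ∃ a, 1 ≤ a ∧ q = p ^ a := by
  obtain ⟨l, a, hl, ha, rfl⟩ := (isPrimePow_nat_iff _).1 hq
  have h1 := hp.dvd_of_dvd_pow h
  rw [(Nat.prime_dvd_prime_iff_eq hp hl).1 h1]
  exact ⟨a, ha, rfl⟩

/-- a named simple group is listed or is not covered by two classes of proper subgroups -/
theorem noTwo_or_listed (cl : ClRows) (hr : CovExc) (hsp : CovSpor) {G : Type u} [Group G] [Finite G]
    (hs : IsSimpleGroup G) {T : Type} [Group T] [Finite T] (e : T ≃* G) {g : Grp} (h : IsNamed g T) :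
    NoTwo T ∨ Listed G := by
  obtain ⟨hre, hcond, -, hord⟩ := id h
  cases g with
  | alt n =>
    obtain ⟨f⟩ := hre
    by_cases hn : 9 ≤ n
    · exact Or.inl ((cl.alt hn).congr f.symm)
    · right; left
      have h5 : 5 ≤ n := hcond
      exact ⟨n, by omega, ⟨e.symm.trans f⟩⟩
  | psl n q =>
    obtain ⟨F, i1, i2, rfl, ⟨f⟩⟩ := hre
    by_cases hn : 5 ≤ n
    · exact Or.inl ((cl.psl hn).congr f.symm)
    · right
      obtain ⟨h1, h2, -⟩ := hcond
      refine Or.inr (Or.inr (Or.inr (Or.inr (Or.inr (Or.inl ⟨F, i1, i2, n, ?_, ⟨e.symm.trans f⟩⟩)))))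
      have : n = 2 ∨ n = 3 ∨ n = 4 := by omega
      rcases this with h | h | h
      · exact Or.inl ⟨h, h2 h⟩
      · exact Or.inr (Or.inl h)
      · exact Or.inr (Or.inr h)
  | psp m q =>
    obtain ⟨F, i1, i2, rfl, ⟨f⟩⟩ := hre
    obtain ⟨h1, h2, h3⟩ := hcond
    by_cases hev : 2 ∣ Fintype.card F
    · right
      obtain ⟨a, ha, haq⟩ := exists_pow_of_dvd h3 Nat.prime_two hev
      refine Or.inr (Or.inr (Or.inr (Or.inr (Or.inr (Or.inr (Or.inr (Or.inr (Or.inl
        ⟨F, i1, i2, m, a, h1, ha, haq, ?_, ⟨e.symm.trans f⟩⟩))))))))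
      rintro ⟨rfl, rfl⟩
      have := h2 rfl
      omega
    · have hodd : Odd (Fintype.card F) := by
        rw [← Nat.not_even_iff_odd, even_iff_two_dvd]; exact hev
      by_cases h4 : m = 2 ∧ Fintype.card F = 3
      · right
        obtain ⟨rfl, h4⟩ := h4
        obtain ⟨K, j1, j2, hK, -⟩ : ∃ (K : Type) (_ : Field K) (_ : Fintype K), Fintype.card K = 4 ∧ True := by
          have : Fact (Nat.Prime 2) := ⟨Nat.prime_two⟩
          letI : Fintype (GaloisField 2 2) := Fintype.ofFinite _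
          refine ⟨GaloisField 2 2, inferInstance, inferInstance, ?_, trivial⟩
          rw [← Nat.card_eq_fintype_card, GaloisField.card 2 2 (by norm_num)]
          norm_num
        obtain ⟨f'⟩ := S0822.result (F := K) (K := F) hK h4
        exact Or.inr (Or.inr (Or.inr (Or.inr (Or.inr (Or.inr (Or.inr (Or.inl
          ⟨K, j1, j2, 2, by rw [hK]; norm_num, ⟨(e.symm.trans f).trans f'.symm⟩⟩)))))))
      · by_cases h5 : m = 3 ∧ 3 ∣ Fintype.card F
        · right
          obtain ⟨rfl, h5⟩ := h5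
          obtain ⟨a, ha, haq⟩ := exists_pow_of_dvd h3 Nat.prime_three h5
          exact Or.inr (Or.inr (Or.inr (Or.inr (Or.inr (Or.inr (Or.inr (Or.inr (Or.inr
            ⟨F, i1, i2, a, ha, haq, ⟨e.symm.trans f⟩⟩))))))))
        · left
          refine (cl.psp h1 hodd (fun hm => ?_) (fun hm h => h5 ⟨hm, h⟩)).congr f.symm
          have h6 := h2 hm
          have h7 : Fintype.card F ≠ 3 := fun h => h4 ⟨hm, h⟩
          obtain ⟨k, hk⟩ := hodd
          (clear * - h6 h7 hk; omega)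
  | psu n q =>
    obtain ⟨F, i1, i2, hF, ⟨f⟩⟩ := hre
    obtain ⟨h1, h2, h3⟩ := hcond
    by_cases hn : 5 ≤ n
    · exact Or.inl ((cl.psu hF hn).congr f.symm)
    · have : n = 3 ∨ n = 4 := by omega
      rcases this with rfl | rfl
      · by_cases h4 : q = 5
        · right
          exact Or.inr (Or.inr (Or.inr (Or.inr (Or.inr (Or.inr (Or.inl
            ⟨F, i1, i2, q, hF, Or.inr h4, ⟨e.symm.trans f⟩⟩))))))
        · by_cases h5 : 3 ∣ q
          · right
            obtain ⟨a, ha, haq⟩ := exists_pow_of_dvd h3 Nat.prime_three h5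
            exact Or.inr (Or.inr (Or.inr (Or.inr (Or.inr (Or.inr (Or.inl
              ⟨F, i1, i2, q, hF, Or.inl ⟨a, ha, haq⟩, ⟨e.symm.trans f⟩⟩))))))
          · left
            have h6 : 2 ≤ q := h3.two_le
            have h7 : q ≠ 2 := fun h => h2 ⟨rfl, h⟩
            have h8 : q ≠ 3 := fun h => h5 (by rw [h])
            exact (cl.psu3 hF (by omega) h4 h5).congr f.symm
      · right
        exact Or.inr (Or.inr (Or.inr (Or.inr (Or.inr (Or.inr (Or.inr (Or.inl
          ⟨F, i1, i2, q, hF, ⟨e.symm.trans f⟩⟩)))))))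
  | oodd m q =>
    obtain ⟨F, i1, i2, rfl, ⟨f⟩⟩ := hre
    exact Or.inl ((cl.oodd hcond.1 hcond.2.1).congr f.symm)
  | oplus m q =>
    obtain ⟨F, i1, i2, rfl, ⟨f⟩⟩ := hre
    exact Or.inl ((cl.oplus hcond.1).congr f.symm)
  | ominus m q =>
    obtain ⟨F, i1, i2, a, b, rfl, hab, ⟨f⟩⟩ := hre
    exact Or.inl ((cl.ominus hcond.1 hab).congr f.symm)
  | g2 q =>
    by_cases hev : 2 ∣ q
    · right
      obtain ⟨F, i1, i2, rfl, ⟨f⟩⟩ := hre
      obtain ⟨a, ha, haq⟩ := exists_pow_of_dvd hcond.2 Nat.prime_two hev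
      obtain ⟨f'⟩ := H638.G2Iso.equiv (F := F)
      have h3 := hcond.1
      have h4 : a ≠ 1 := by
        rintro rfl
        omega
      exact Or.inr (Or.inr (Or.inl ⟨F, i1, i2, a, by omega, haq, ⟨(e.symm.trans f).trans f'.symm⟩⟩))
    · left
      refine hr.g2 ?_ h
      rw [← Nat.not_even_iff_odd, even_iff_two_dvd]; exact hev
  | f4 q =>
    by_cases h3 : 3 ∣ q
    · right
      obtain ⟨a, ha, rfl⟩ := exists_pow_of_dvd hcond Nat.prime_three h3
      refine Or.inr (Or.inr (Or.inr (Or.inl ⟨a, ha, hs, ?_⟩)))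
      rw [← Nat.card_congr e.toEquiv, hord]
      have h4 : ordN (.f4 (3 ^ a)) = (3 ^ a) ^ 24 * (((3 ^ a) ^ 2 - 1) * ((3 ^ a) ^ 6 - 1) * ((3 ^ a) ^ 8 - 1) *
          ((3 ^ a) ^ 12 - 1)) / 1 := rfl
      rw [h4, Nat.div_one]
      ring
    · exact Or.inl (hr.f4 h3 h)
  | e6 q => exact Or.inl (hr.e6 h)
  | e7 q => exact Or.inl (hr.e7 h)
  | e8 q => exact Or.inl (hr.e8 h)
  | te6 q => exact Or.inl (hr.te6 h)
  | td4 q => exact Or.inl (hr.td4 h)
  | sz q => exact Or.inl (hr.sz h)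
  | ree q => exact Or.inl (hr.ree h)
  | tf4 q => exact Or.inl (hr.tf4 h)
  | tits =>
    right
    refine Or.inr (Or.inr (Or.inr (Or.inr (Or.inl ⟨hs, ?_⟩))))
    rw [← Nat.card_congr e.toEquiv, hord]
    decide
  | m11 =>
    right
    obtain ⟨f⟩ := hre
    exact Or.inr (Or.inl ⟨e.symm.trans f⟩)
  | m12 => exact Or.inl (hsp.m12 hre)
  | m22 => exact Or.inl (hsp.m22 hre)
  | m23 => exact Or.inl (hsp.m23 hre)
  | m24 => exact Or.inl (hsp.m24 hre)
  | j1 => exact Or.inl (hsp.j1 hre)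
  | j2 => exact Or.inl (hsp.j2 hre)
  | j3 => exact Or.inl (hsp.j3 hre)
  | j4 => exact Or.inl (hsp.j4 hre)
  | co1 => exact Or.inl (hsp.co1 hre)
  | co2 => exact Or.inl (hsp.co2 hre)
  | co3 => exact Or.inl (hsp.co3 hre)
  | mcl => exact Or.inl (hsp.mcl hre)
  | hs => exact Or.inl (hsp.hs hre)
  | suz => exact Or.inl (hsp.suz hre)
  | he => exact Or.inl (hsp.he hre)
  | ru => exact Or.inl (hsp.ru hre)
  | on => exact Or.inl (hsp.on hre)
  | ly => exact Or.inl (hsp.ly hre)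
  | fi22 => exact Or.inl (hsp.fi22 hre)
  | fi23 => exact Or.inl (hsp.fi23 hre)
  | fi24 => exact Or.inl (hsp.fi24 hre)
  | hn => exact Or.inl (hsp.hn hre)
  | th => exact Or.inl (hsp.th hre)
  | b => exact Or.inl (hsp.b hre)
  | m => exact Or.inl (hsp.m hre)

/-- **S2499 from the rows.** -/
theorem s2499_of (tab : OrderTable.{0}) (hK : ∀ (X : Type) [Group X] [Finite X] [IsSimpleGroup X],
    Cfsg.IsKnownSimple' X) (cl : ClRows) (hr : CovExc) (hsp : CovSpor) {G : Type u} [Group G] [Finite G]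
    (hs : IsSimpleGroup G) (hna : ∃ a b : G, a * b ≠ b * a) (H K : Subgroup G) (hH : H ≠ ⊤) (hK' : K ≠ ⊤)
    (hcov : ∀ g : G, ∃ x : G, x * g * x⁻¹ ∈ H ∨ x * g * x⁻¹ ∈ K) : Listed G := by
  let e : Shrink.{0} G ≃* G := (Shrink.mulEquiv : Shrink.{0} G ≃* G)
  have hfin : Finite (Shrink.{0} G) := Finite.of_equiv G e.symm.toEquiv
  have hs' : IsSimpleGroup (Shrink.{0} G) := e.isSimpleGroup
  have hna' : ¬ IsMulCommutative (Shrink.{0} G) := by
    intro hcomm
    obtain ⟨a, b, hab⟩ := hna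
    apply hab
    apply e.symm.injective
    rw [map_mul, map_mul]
    exact hcomm.is_comm.comm _ _
  obtain ⟨g, hg⟩ := H278.El.Asm.named_of_simple tab hK hna'
  rcases noTwo_or_listed cl hr hsp hs e hg with h | h
  · exfalso
    obtain ⟨x, h1, h2⟩ := (h.congr e) H K hH hK'
    obtain ⟨y, h3 | h3⟩ := hcov x
    · exact h1 y h3
    · exact h2 y h3
  · exact h

end Cfsg.Agent.H278.Cov
end

-- part: H325/Cov/E7
section
/-!
# `E₇(q)` is not the union of the conjugates of two proper subgroups (helper325)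

Witnesses: generators of the tori of classes 7, 9, 14, 18 and an element of order `s`, a primitive prime divisor of
`p^(5f) - 1`.
-/

set_option autoImplicit false

namespace Cfsg.Agent.H325.Cov

open Cfsg Cfsg.Agent.OrdDiv Cfsg.Agent.H436 Cfsg.Agent.H902 Cfsg.Agent.H290.ElReg Cfsg.Agent.H290.ElTab
  Cfsg.Agent.H56.Exc Cfsg.Agent.H325.Loc Cfsg.Agent.H915.GN Cfsg.Agent.H264.FKS Cfsg.Agent.H325.Same Cfsg.Agent.H325.IsoExc
  Cfsg.Agent.H325.IsoFree Cfsg.Agent.H563.KG Cfsg.Agent.H278.Cov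

/-- the index of a subgroup whose order is divisible by `m / d` -/
theorem off_gen {G : Type*} [Group G] [Finite G] {H : Subgroup G} {m D d s v : ℕ} {K : ℤ} (hs : s.Prime)
    (hG : (D : ℤ) * Nat.card G = m * K) (hD : D ≠ 0) (hK : (K : ZMod s) = (v : ℕ)) (hv : ¬ s ∣ v) (hd : ¬ s ∣ d)
    (hm : m ∣ d * Nat.card H) : ¬ s ∣ H.index := by
  intro hi
  obtain ⟨a, ha⟩ := hm
  have hG0 : (Nat.card G : ℤ) ≠ 0 := by exact_mod_cast Nat.card_pos.ne'
  have hm0 : (m : ℤ) ≠ 0 := by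
    intro h
    rw [h, zero_mul] at hG
    exact (mul_ne_zero (by exact_mod_cast hD) hG0) hG
  have h1 : (D : ℤ) * H.index * a = d * K := by
    apply mul_left_cancel₀ hm0
    have h2 : (Nat.card G : ℤ) = H.index * Nat.card H := by exact_mod_cast (H.index_mul_card).symm
    have h3 : ((d * Nat.card H : ℕ) : ℤ) = m * a := by exact_mod_cast ha
    push_cast at h3
    calc (m : ℤ) * (D * H.index * a) = D * H.index * (m * a) := by ring
      _ = D * H.index * (d * Nat.card H) := by rw [h3]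
      _ = d * (D * (H.index * Nat.card H)) := by ring
      _ = d * (m * K) := by rw [← h2, hG]
      _ = m * (d * K) := by ring
  have h4 : (s : ℤ) ∣ d * K := h1 ▸ ((Int.natCast_dvd_natCast.2 hi).mul_left _).mul_right _
  rcases (Nat.prime_iff_prime_int.1 hs).dvd_or_dvd h4 with h5 | h5
  · exact hd (Int.natCast_dvd_natCast.1 h5)
  · rw [← ZMod.intCast_zmod_eq_zero_iff_dvd, hK, ZMod.natCast_eq_zero_iff] at h5
    exact hv h5

theorem orderOf_conj' {G : Type*} [Group G] (g x : G) : orderOf (g * x * g⁻¹) = orderOf x :=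
  orderOf_injective (MulAut.conj g).toMonoidHom (MulAut.conj g).injective x

theorem pick7 {a7 a9 a14 a18 az b7 b9 b14 b18 bz : Prop}
    (hA : (a9 ∨ a14) ∧ (a18 ∨ a7) ∧ (a14 ∨ a18) ∧ (a9 ∨ a18 ∨ az) ∧ (a7 ∨ a14 ∨ az))
    (hB : (b9 ∨ b14) ∧ (b18 ∨ b7) ∧ (b14 ∨ b18) ∧ (b9 ∨ b18 ∨ bz) ∧ (b7 ∨ b14 ∨ bz))
    (c7 : a7 → ¬ b7) (c9 : a9 → ¬ b9) (c18 : a18 → ¬ b18) (cz : az → ¬ bz) (h : ¬ a14) : False := by
  have h9 : a9 := hA.1.resolve_right h
  have h18 : a18 := hA.2.2.1.resolve_left h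
  have k9 := c9 h9
  have k18 := c18 h18
  have k7 : b7 := hB.2.1.resolve_left k18
  have kz : bz := (hB.2.2.2.1.resolve_left k9).resolve_left k18
  rcases hA.2.2.2.2 with h1 | h1 | h1
  · exact c7 h1 k7
  · exact h h1
  · exact cz h1 kz

/-- a generator of the torus, up to the factor `d` -/
theorem exists_gen {T : Type*} [Group T] {r m d : ℕ} (h : Cfsg.Agent.H129.CycCard.CycCard T r m d) :
    ∃ x : T, m ∣ d * orderOf x := by
  obtain ⟨C, hC, -, h2, -, -⟩ := h
  obtain ⟨x, hx⟩ := hC.exists_generator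
  refine ⟨(x : T), ?_⟩
  rwa [Subgroup.orderOf_coe, orderOf_eq_card_of_forall_mem_zpowers hx]

section

variable {F : Type} [Field F] [Fintype F] {q : ℕ}

theorem gen7 {c : ℕ} (hc : c = 7 ∨ c = 9 ∨ c = 14 ∨ c = 18) (hq : Fintype.card F = q) :
    ∃ x : ↥(Lie.chevE7.group F), M7 q c ∣ Nat.gcd 2 (q - 1) * orderOf x := by
  have hq1 : 1 ≤ q := by rw [← hq]; exact Fintype.card_pos
  have hq2 : 2 ≤ q := by rw [← hq]; exact Fintype.one_lt_card
  obtain ⟨r, hr⟩ := exists_prim hq2 (show 3 ≤ c by omega) (by omega)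
  have hlt : c < r := lt_of_prim hq2 (by omega) hr
  rcases hc with rfl | rfl | rfl | rfl
  · exact exists_gen (Cfsg.Agent.H129.CycCard.card_E7_7 hq (m := (q - 1) * Ph 7 q)
      (by rw [Nat.cast_mul, Nat.cast_sub hq1, cast_Ph7]; push_cast; ring) hr.prime (prim_dvd_7 hr) (by omega))
  · exact exists_gen (Cfsg.Agent.H129.CycCard.card_E7_9 hq (m := (q - 1) * Ph 9 q)
      (by rw [Nat.cast_mul, Nat.cast_sub hq1, cast_Ph9]; push_cast; ring) hr.prime (prim_dvd_9 hr) (by omega))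
  · exact exists_gen (Cfsg.Agent.H129.CycCard.card_E7_14 hq (m := (q + 1) * Ph 14 q)
      (by rw [Nat.cast_mul, cast_Ph14 _ hq1]; push_cast; ring) hr.prime (prim_dvd_14 hr) (by omega))
  · exact exists_gen (Cfsg.Agent.H129.CycCard.card_E7_18 hq (m := (q + 1) * Ph 18 q)
      (by rw [Nat.cast_mul, cast_Ph18 _ hq1]; push_cast; ring) hr.prime (prim_dvd_18 hr) (by omega))

theorem kap7 {c : ℕ} (hc : c = 7 ∨ c = 9 ∨ c = 14 ∨ c = 18) (hq : Fintype.card F = q) :
    ∃ K : ℤ, ((Nat.gcd 2 (q - 1) : ℕ) : ℤ) * Nat.card ↥(Lie.chevE7.group F) = (M7 q c : ℕ) * K ∧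
      ∀ s, Prim q c s → (K : ZMod s) = (E7 c : ℕ) := by
  have hq1 : 1 ≤ q := by rw [← hq]; exact Fintype.card_pos
  rcases hc with rfl | rfl | rfl | rfl
  · refine ⟨(q : ℤ) ^ 63 * ((q : ℤ) ^ 2 - 1) * ((q : ℤ) ^ 6 - 1) * ((q : ℤ) ^ 8 - 1) * ((q : ℤ) ^ 10 - 1) *
      ((q : ℤ) ^ 12 - 1) * ((q : ℤ) ^ 7 + 1) * ((q : ℤ) ^ 18 - 1), ?_, fun s hs => ?_⟩
    · have hm : (((q - 1) * Ph 7 q : ℕ) : ℤ) = (q : ℤ) ^ 7 - 1 := by
        rw [Nat.cast_mul, Nat.cast_sub hq1, cast_Ph7]; push_cast; ring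
      show _ = (((q - 1) * Ph 7 q : ℕ) : ℤ) * _
      rw [ord_E7 hq, hm]; ring
    · push_cast
      exact Kap.kap_E7_7 _ (prim_phi_7 hs)
  · refine ⟨(q : ℤ) ^ 63 * ((q : ℤ) ^ 2 - 1) * ((q : ℤ) ^ 6 - 1) * ((q : ℤ) ^ 8 - 1) * ((q : ℤ) ^ 10 - 1) *
      ((q : ℤ) ^ 12 - 1) * ((q : ℤ) ^ 14 - 1) * ((q : ℤ) ^ 2 + (q : ℤ) + 1) * ((q : ℤ) ^ 9 + 1), ?_, fun s hs => ?_⟩
    · have hm : (((q - 1) * Ph 9 q : ℕ) : ℤ) = (1 + (q : ℤ) ^ 3 + (q : ℤ) ^ 6) * ((q : ℤ) - 1) := by
        rw [Nat.cast_mul, Nat.cast_sub hq1, cast_Ph9]; push_cast; ring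
      show _ = (((q - 1) * Ph 9 q : ℕ) : ℤ) * _
      rw [ord_E7 hq, hm]; ring
    · push_cast
      exact Kap.kap_E7_9 _ (prim_phi_9 hs)
  · refine ⟨(q : ℤ) ^ 63 * ((q : ℤ) ^ 2 - 1) * ((q : ℤ) ^ 6 - 1) * ((q : ℤ) ^ 8 - 1) * ((q : ℤ) ^ 10 - 1) *
      ((q : ℤ) ^ 12 - 1) * ((q : ℤ) ^ 7 - 1) * ((q : ℤ) ^ 18 - 1), ?_, fun s hs => ?_⟩
    · have hm : (((q + 1) * Ph 14 q : ℕ) : ℤ) = (q : ℤ) ^ 7 + 1 := by
        rw [Nat.cast_mul, cast_Ph14 _ hq1]; push_cast; ring
      show _ = (((q + 1) * Ph 14 q : ℕ) : ℤ) * _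
      rw [ord_E7 hq, hm]; ring
    · push_cast
      exact Kap.kap_E7_14 _ (prim_phi_14 hs)
  · refine ⟨(q : ℤ) ^ 63 * ((q : ℤ) ^ 2 - 1) * ((q : ℤ) ^ 6 - 1) * ((q : ℤ) ^ 8 - 1) * ((q : ℤ) ^ 10 - 1) *
      ((q : ℤ) ^ 12 - 1) * ((q : ℤ) ^ 14 - 1) * ((q : ℤ) ^ 2 - (q : ℤ) + 1) * ((q : ℤ) ^ 9 - 1), ?_, fun s hs => ?_⟩
    · have hm : (((q + 1) * Ph 18 q : ℕ) : ℤ) = (1 - (q : ℤ) ^ 3 + (q : ℤ) ^ 6) * ((q : ℤ) + 1) := by
        rw [Nat.cast_mul, cast_Ph18 _ hq1]; push_cast; ring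
      show _ = (((q + 1) * Ph 18 q : ℕ) : ℤ) * _
      rw [ord_E7 hq, hm]; ring
    · push_cast
      exact Kap.kap_E7_18 _ (prim_phi_18 hs)

/-- the index of a subgroup containing a conjugate of the generator -/
theorem off7 {c : ℕ} (hc : c = 7 ∨ c = 9 ∨ c = 14 ∨ c = 18) (hq : Fintype.card F = q)
    {x : ↥(Lie.chevE7.group F)} (hx : M7 q c ∣ Nat.gcd 2 (q - 1) * orderOf x) {B : Subgroup ↥(Lie.chevE7.group F)}
    {g : ↥(Lie.chevE7.group F)} (hg : g * x * g⁻¹ ∈ B) : ∀ s, Prim q c s → ¬ s ∣ B.index := by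
  intro s hs
  have hfin : Finite ↥(Lie.chevE7.group F) := inferInstance
  have hq2 : 2 ≤ q := by rw [← hq]; exact Fintype.one_lt_card
  have hlt : c < s := lt_of_prim hq2 (by omega) hs
  have hsp := hs.prime
  obtain ⟨K, h1, h2⟩ := kap7 (F := F) hc hq
  refine off_gen hsp h1 (Nat.gcd_ne_zero_left (by norm_num)) (h2 s hs) (fun h => ?_)
    (d := Nat.gcd 2 (q - 1)) (fun h => ?_) (hx.trans (mul_dvd_mul_left _ ?_))
  · have h3 : s ≤ 7 := le_seven hsp (n := E7 c) (by unfold E7; split <;> omega) h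
    omega
  · have := Nat.le_of_dvd (by norm_num) (h.trans (Nat.gcd_dvd_left _ _))
    omega
  · rw [← orderOf_conj' g x, ← Subgroup.orderOf_mk _ hg]
    exact orderOf_dvd_natCard _

theorem ncl_dvd_order {c : ℕ} (hc : c = 7 ∨ c = 9 ∨ c = 14 ∨ c = 18) (hq2 : 2 ≤ q) {n : ℕ}
    (hx : M7 q c ∣ Nat.gcd 2 (q - 1) * n) : ncl c q ∣ n := by
  have hq1 : 1 ≤ q := by omega
  have hcl : Cls c := by unfold Cls; omega
  have h1 : ncl c q ∣ M7 q c := by
    refine (ncl_dvd_Ph c q).trans ?_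
    rcases hc with rfl | rfl | rfl | rfl <;> exact Dvd.intro_left _ rfl
  refine Nat.Coprime.dvd_of_dvd_mul_left ?_ (h1.trans hx)
  refine Nat.Coprime.coprime_dvd_right (Nat.gcd_dvd_left _ _) ?_
  refine ((Nat.Prime.coprime_iff_not_dvd Nat.prime_two).2 fun h => ?_).symm
  have := lt_of_prim hq2 (by omega) (prim_of_dvd hcl hq1 Nat.prime_two h)
  omega

/-- **`E₇(q)` is not the union of the conjugates of two proper subgroups.** -/
theorem noTwo_chevE7 (tb : OrderTable.{0}) (hcyc : CycFixSolv.{0}) (hcf : CF) : NoTwo ↥(Lie.chevE7.group F) := by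
  have hfin : Finite ↥(Lie.chevE7.group F) := inferInstance
  obtain ⟨p, f, _, hp, hf, hq⟩ := _root_.Cfsg.Agent.H563.KG.exists_pf F
  have hq2 : 2 ≤ p ^ f := hp.two_le.trans (Nat.le_self_pow (by omega) p)
  have hq1 : 1 ≤ p ^ f := by omega
  obtain ⟨s, hs⟩ := exists_prim hp.two_le (show 3 ≤ f * 5 by omega) (by omega)
  obtain ⟨x7, h7⟩ := gen7 (F := F) (c := 7) (by omega) hq
  obtain ⟨x9, h9⟩ := gen7 (F := F) (c := 9) (by omega) hq
  obtain ⟨x14, h14⟩ := gen7 (F := F) (c := 14) (by omega) hq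
  obtain ⟨x18, h18⟩ := gen7 (F := F) (c := 18) (by omega) hq
  have hsG : s ∣ Nat.card ↥(Lie.chevE7.group F) := by
    have h1 : s ∣ (p ^ f) ^ 10 - 1 := by
      rw [← pow_mul]
      exact hs.dvd ⟨2, by ring⟩
    have h2 : s ∣ num (.e7 (p ^ f)) := by
      refine h1.trans ?_
      show _ ∣ (p ^ f) ^ 63 * (((p ^ f) ^ 2 - 1) * ((p ^ f) ^ 6 - 1) * ((p ^ f) ^ 8 - 1) * ((p ^ f) ^ 10 - 1) *
        ((p ^ f) ^ 12 - 1) * ((p ^ f) ^ 14 - 1) * ((p ^ f) ^ 18 - 1))
      refine Dvd.dvd.mul_left ?_ _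
      refine Dvd.dvd.mul_right (Dvd.dvd.mul_right (Dvd.dvd.mul_right (Dvd.intro_left _ rfl) _) _) _
    have hT := named_e7 (F := F) tb
    rw [hq] at hT
    rw [← hT.eq] at h2
    refine (hs.prime.dvd_mul.1 h2).resolve_left fun h3 => ?_
    have h4 := Nat.le_of_dvd (by norm_num) (h3.trans (Nat.gcd_dvd_left 2 (p ^ f - 1)))
    have h5 : f * 5 < s := lt_of_prim hp.two_le (by omega) hs
    omega
  have := Fact.mk hs.prime
  obtain ⟨z, hz⟩ := exists_prime_orderOf_dvd_card' s hsG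
  have key : ∀ B : Subgroup ↥(Lie.chevE7.group F), B ≠ ⊤ → (Av x9 B ∨ Av x14 B) ∧ (Av x18 B ∨ Av x7 B) ∧
      (Av x14 B ∨ Av x18 B) ∧ (Av x9 B ∨ Av x18 B ∨ Av z B) ∧ (Av x7 B ∨ Av x14 B ∨ Av z B) := by
    intro B hB
    have o7 : ¬ Av x7 B → ∀ s, Prim (p ^ f) 7 s → ¬ s ∣ B.index := fun h => by
      obtain ⟨g, hg⟩ := not_av h
      exact off7 (by omega) hq h7 hg
    have o9 : ¬ Av x9 B → ∀ s, Prim (p ^ f) 9 s → ¬ s ∣ B.index := fun h => by
      obtain ⟨g, hg⟩ := not_av h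
      exact off7 (by omega) hq h9 hg
    have o14 : ¬ Av x14 B → ∀ s, Prim (p ^ f) 14 s → ¬ s ∣ B.index := fun h => by
      obtain ⟨g, hg⟩ := not_av h
      exact off7 (by omega) hq h14 hg
    have o18 : ¬ Av x18 B → ∀ s, Prim (p ^ f) 18 s → ¬ s ∣ B.index := fun h => by
      obtain ⟨g, hg⟩ := not_av h
      exact off7 (by omega) hq h18 hg
    have oz : ¬ Av z B → s ∣ Nat.card B := fun h => by
      obtain ⟨g, hg⟩ := not_av h
      rw [← hz, ← orderOf_conj' g z, ← Subgroup.orderOf_mk _ hg]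
      exact orderOf_dvd_natCard _
    have off2 : ∀ {c d : ℕ}, (∀ s, Prim (p ^ f) c s → ¬ s ∣ B.index) → (∀ s, Prim (p ^ f) d s → ¬ s ∣ B.index) →
        Off (p ^ f) [c, d] B := by
      intro c d h1 h2 e he
      simp only [List.mem_cons, List.not_mem_nil, or_false] at he
      rcases he with rfl | rfl
      · exact h1
      · exact h2
    refine ⟨?_, ?_, ?_, ?_, ?_⟩
    · by_contra hcon
      push Not at hcon
      exact hB (K_E7a tb hcyc hcf B (by rw [hq]; exact off2 (o9 hcon.1) (o14 hcon.2)))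
    · by_contra hcon
      push Not at hcon
      exact hB (K_E7b tb hcyc hcf B (by rw [hq]; exact off2 (o18 hcon.1) (o7 hcon.2)))
    · by_contra hcon
      push Not at hcon
      obtain ⟨g, hg⟩ := not_av hcon.1
      obtain ⟨g', hg'⟩ := not_av hcon.2
      refine hB (K_E7e tb hcyc hcf hp hf hq B (off2 (o14 hcon.1) (o18 hcon.2)) (x := ⟨_, hg⟩) (y := ⟨_, hg'⟩) ?_ ?_)
      · rw [Subgroup.orderOf_mk, orderOf_conj']
        exact ncl_dvd_order (by omega) hq2 h14
      · rw [Subgroup.orderOf_mk, orderOf_conj']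
        exact ncl_dvd_order (by omega) hq2 h18
    · by_contra hcon
      push Not at hcon
      exact hB (K_E7c tb hcyc hcf hp hf hq hs B (off2 (o9 hcon.1) (o18 hcon.2.1)) (oz hcon.2.2))
    · by_contra hcon
      push Not at hcon
      exact hB (K_E7d tb hcyc hcf hp hf hq hs B (off2 (o7 hcon.1) (o14 hcon.2.1)) (oz hcon.2.2))
  intro H K hH hK
  by_contra hcon
  push Not at hcon
  have c7 := hcon x7
  have c9 := hcon x9
  have c14 := hcon x14
  have c18 := hcon x18
  have cz := hcon z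
  by_cases h : Av x14 H
  · exact pick7 (key K hK) (key H hH) (fun a b => c7 b a) (fun a b => c9 b a) (fun a b => c18 b a)
      (fun a b => cz b a) (c14 h)
  · exact pick7 (key H hH) (key K hK) c7 c9 c18 cz h

end

/-- **`E₇(q)`.** -/
theorem noTwo_e7 (tb : OrderTable.{0}) (hcyc : CycFixSolv.{0}) (hcf : CF) {q : ℕ} {T : Type*} [Group T]
    (h : IsNamed (.e7 q) T) : NoTwo T := by
  obtain ⟨F, _, _, rfl, ⟨e⟩⟩ := h.real
  exact (noTwo_chevE7 (F := F) tb hcyc hcf).congr e.symm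

end Cfsg.Agent.H325.Cov
end

-- part: H325/Cov/E7F
section
/-!
# `E₇(q)` is not the union of the conjugates of two proper subgroups, without hypotheses (helper325)
-/

set_option autoImplicit false

namespace Cfsg.Agent.H325.Cov

open Cfsg.Agent.H436 Cfsg.Agent.H563.KG Cfsg.Agent.H278.Cov

/-- **`E₇(q)`, all `q`.** -/
theorem noTwo_e7' {q : ℕ} {T : Type*} [Group T] (h : IsNamed (.e7 q) T) : NoTwo T :=
  noTwo_e7 Cfsg.Agent.OrdDiv.table cycFixSolv (fun _ _ _ _ => Cfsg.Agent.S0000.result) h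

end Cfsg.Agent.H325.Cov
end

-- part: H406/Cov/Asm
section
/-!
# `F₄(q)`, `p ≥ 5`, is not the union of the conjugates of two proper subgroups: assembly (helper406)

Witnesses: generators of the tori of orders `q⁴ - q² + 1` and `q⁴ + 1`, and a regular unipotent element.
-/

set_option autoImplicit false

namespace Cfsg.Agent.H406.Cov

open Cfsg Cfsg.Agent.OrdDiv Cfsg.Agent.H436 Cfsg.Agent.H902 Cfsg.Agent.H902.Names Cfsg.Agent.H915.GN
  Cfsg.Agent.H290.ElReg Cfsg.Agent.H264.GN Cfsg.Agent.H264.FKS Cfsg.Agent.H56.Exc Cfsg.Agent.H325.Loc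
open Cfsg.Agent.H563.KG hiding mod_of_prim
open Cfsg.Agent.ChevalleyStructure.Elts Cfsg.Agent.ChevalleyStructure.RootVec
  Cfsg.Agent.ChevalleyStructure.RootVecTab Cfsg.Agent.H610.ChevRegular Cfsg.Agent.H610.OddRegLie Cfsg.Lie
open Cfsg.Agent.H278.Cov

/-- the index of a subgroup containing a full cyclic torus -/
theorem off_one {G : Type*} [Group G] [Finite G] {r m e : ℕ} (hb : Big G r m e) {x : G} (hx : orderOf x = m)
    (hrm : r ∣ m) {B : Subgroup G} (hxB : x ∈ B) : ¬ r ∣ B.index := by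
  have hr := hb.prime
  have := Fact.mk hr
  have hm0 : 0 < m := hx ▸ orderOf_pos x
  have hy : orderOf (x ^ (m / r)) = r := by
    rw [orderOf_pow_of_dvd (Nat.div_pos (Nat.le_of_dvd hm0 hrm) hr.pos).ne' (by rw [hx]; exact Nat.div_dvd_of_dvd hrm),
      hx, Nat.div_div_self hrm hm0.ne']
  set y := x ^ (m / r) with hyd
  have hle : Subgroup.zpowers x ≤ Subgroup.centralizer {y} := by
    rw [Subgroup.zpowers_le, Subgroup.mem_centralizer_singleton_iff]
    exact (Commute.pow_right (Commute.refl x) _).eq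
  have hC : Subgroup.zpowers x = Subgroup.centralizer {y} := by
    apply Subgroup.eq_of_le_of_card_ge hle
    rw [Nat.card_zpowers, hx]
    exact Nat.le_of_dvd hm0 (hb.card y hy)
  have hyp : IsPGroup r (Subgroup.zpowers y) := IsPGroup.of_card (n := 1) (by rw [Nat.card_zpowers, hy, pow_one])
  obtain ⟨P, hP⟩ := hyp.exists_le_sylow
  have hPc := hb.isCyclic_sylow P
  have hPB : (P : Subgroup G) ≤ B := by
    intro a ha
    have h1 : a ∈ Subgroup.centralizer {y} := by
      rw [Subgroup.mem_centralizer_singleton_iff]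
      let _ := IsCyclic.commGroup (α := ↥(P : Subgroup G))
      have h1 : (⟨a, ha⟩ : ↥(P : Subgroup G)) * ⟨y, hP (Subgroup.mem_zpowers y)⟩ =
        ⟨y, hP (Subgroup.mem_zpowers y)⟩ * ⟨a, ha⟩ := mul_comm _ _
      exact congrArg Subtype.val h1
    rw [← hC] at h1
    exact (Subgroup.zpowers_le.2 hxB) h1
  intro h
  exact P.not_dvd_index (h.trans (Subgroup.index_dvd_of_le hPB))

section Four

variable {F : Type} [Field F] [Fintype F] {p f e : ℕ}

/-- the torus generators -/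
theorem exists_torus (he : e = 12 ∨ e = 8) (hp : p.Prime) (hf : 1 ≤ f) (hq : Fintype.card F = p ^ f) :
    ∃ x : ↥(Lie.chevF4.group F), orderOf x = Ph e (p ^ f) := by
  have hq1 : 1 ≤ p ^ f := Nat.one_le_pow _ _ hp.pos
  have hq2 : 2 ≤ p ^ f := hp.two_le.trans (Nat.le_self_pow (by omega) p)
  obtain ⟨r, hr⟩ := exists_prim hq2 (show 3 ≤ e by omega) (by omega)
  have hlt := lt_of_prim hr
  have key : ∀ {m : ℕ}, Cfsg.Agent.H129.CycCard.CycCard ↥(Lie.chevF4.group F) r m 1 →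
      ∃ x : ↥(Lie.chevF4.group F), orderOf x = m := by
    rintro m ⟨C, hC, h1, h2, -, -⟩
    obtain ⟨x, hx⟩ := hC.exists_generator
    refine ⟨(x : ↥(Lie.chevF4.group F)), ?_⟩
    rw [Subgroup.orderOf_coe, orderOf_eq_card_of_forall_mem_zpowers hx]
    rw [one_mul] at h2
    exact Nat.dvd_antisymm h1 h2
  rcases he with rfl | rfl
  · exact key (Cfsg.Agent.H129.CycCard.card_F4_12 hq (m := Ph 12 (p ^ f)) (by rw [cast_Ph12 _ hq1]; ring) hr.prime
      (prim_dvd_12 hr))
  · exact key (Cfsg.Agent.H129.CycCard.card_F4_8 hq (m := Ph 8 (p ^ f)) (by rw [cast_Ph8]; ring) hr.prime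
      (prim_dvd_8 hr) (by omega))

theorem orderOf_conj1 {G : Type*} [Group G] (g x : G) : orderOf (g * x * g⁻¹) = orderOf x :=
  orderOf_injective (MulAut.conj g).toMonoidHom (MulAut.conj g).injective x

/-- **`F₄(q)`, `p ≥ 5`.** -/
theorem noTwo_chevF4_of (tb : OrderTable.{0}) (hcyc : CycFixSolv.{0})
    (hcf : ∀ (S : Type) [Group S] [Finite S] [IsSimpleGroup S], IsKnownSimple' S)
    (hnb1 : ∀ (K : Type) [Field K] [Fintype K] [CharP K p], NB p (PSp 4 K) ((Fintype.card K - 1) ^ 4))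
    (hnb2 : ∀ (K : Type) [Field K] [Fintype K] [CharP K p],
      NB p (POmega K (quadFormOdd 4 K)) ((Fintype.card K - 1) ^ 4))
    (hp : p.Prime) (h5 : 5 ≤ p) (hf : 1 ≤ f) [CharP F p] (hq : Fintype.card F = p ^ f)
    (hpiso : ∀ e, e = 12 ∨ e = 8 → ∀ r, Prim (p ^ f) e r → PIso p r ↥(Lie.chevF4.group F))
    (hK : ∀ B : Subgroup ↥(Lie.chevF4.group F), (∀ e ∈ [12, 8], ∀ r, Prim (p ^ f) e r → ¬ r ∣ B.index) → B = ⊤) :
    NoTwo ↥(Lie.chevF4.group F) := by
  have hD : InList Lie.chevF4 := by simp [InList]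
  have hfin : Finite ↥(Lie.chevF4.group F) := inferInstance
  have hq1 : 1 ≤ p ^ f := Nat.one_le_pow _ _ hp.pos
  obtain ⟨u, hu⟩ := exists_reg (F := F) hD
  obtain ⟨x, hx⟩ := exists_torus (F := F) (e := 12) (Or.inl rfl) hp hf hq
  obtain ⟨y, hy⟩ := exists_torus (F := F) (e := 8) (Or.inr rfl) hp hf hq
  have c12 : Cls 12 := by unfold Cls; omega
  have c8 : Cls 8 := by unfold Cls; omega
  have key : ∀ {e : ℕ}, (e = 12 ∨ e = 8) → ∀ {z : ↥(Lie.chevF4.group F)}, orderOf z = Ph e (p ^ f) →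
      Inc z (⟨u, posUnipotent_le_group hD F hu.1⟩ : ↥(Lie.chevF4.group F)) := by
    intro e he z hz H hH
    by_contra hcon
    push Not at hcon
    obtain ⟨g, hg⟩ := not_av hcon.1
    obtain ⟨g', hg'⟩ := not_av hcon.2
    exact hH (top_of_one tb hcyc hcf hnb1 hnb2 he hp h5 hf hq (hpiso e he) hu
      (x := g * z * g⁻¹) (by rw [orderOf_conj1, hz]) hg rfl hg')
  refine noTwo_of_three (x := x) (y := y) (z := ⟨u, posUnipotent_le_group hD F hu.1⟩) ?_ (key (Or.inr rfl) hy)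
    (key (Or.inl rfl) hx)
  intro H hH
  by_contra hcon
  push Not at hcon
  obtain ⟨g, hg⟩ := not_av hcon.1
  obtain ⟨g', hg'⟩ := not_av hcon.2
  refine hH (hK H fun e he r hr => ?_)
  simp only [List.mem_cons, List.not_mem_nil, or_false] at he
  rcases he with rfl | rfl
  · exact off_one (big_four hq hp (Or.inl rfl) hr) (by rw [orderOf_conj1, hx]) (dvd_Ph c12 hq1 hr) hg
  · exact off_one (big_four hq hp (Or.inr rfl) hr) (by rw [orderOf_conj1, hy]) (dvd_Ph c8 hq1 hr) hg'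

end Four

end Cfsg.Agent.H406.Cov
end

-- part: H406/Cov/Nrm
section
/-!
# The Sylow normalizer of `PSp_8(q)` and of `Ω_9(q)`, `p` the characteristic (helper406, for S2499)

* `nb_of_model` : a simple group modelled on a Witt frame: `|N(P)| = |P| |T|`;
* `norm_psp`, `norm_oodd` : `(q - 1)^4 |P| ≤ 2 |N(P)|` for `PSp_8(q)` and `Ω_9(q)`.
-/

set_option autoImplicit false

namespace Cfsg.Agent.H406.Cov

open QuadraticMap Cfsg Cfsg.Agent.LieClassical Cfsg.Agent.LieClassical.OrthCore Cfsg.Agent.LieClassical.OrthTrans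
open Cfsg.Agent.LieClassical.OrthSimple Cfsg.Agent.LieClassical.OrthFinite Cfsg.Agent.LieClassical.OrthForms
open Cfsg.Agent.ChevalleyStructure.CoxeterGeom Cfsg.Agent.Tits.Roots Cfsg.Agent.Nodes.TypeC
open Cfsg.Agent.Nodes.Comb Cfsg.Agent.Nodes.Reps Cfsg.Agent.Nodes.WittRoot Cfsg.Agent.Nodes.BNOf
open Cfsg.Agent.Nodes.WittRGD Cfsg.Agent.Nodes.RGDLib Cfsg.Agent.Nodes.WittModel
open Cfsg.Agent.TitsThree Cfsg.Agent.TitsThree.Siegel Cfsg.Agent.TitsThree.WittFrame
  Cfsg.Agent.TitsThree.WittWeyl Cfsg.Agent.TitsThree.FrameCN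
open Cfsg.Agent.FixBN
open scoped commutatorElement

/-! ### The normalizer of a Sylow subgroup -/

theorem nb_of_rgd {p : ℕ} [hp : Fact p.Prime] {K : Type*} [Group K] [Finite K] [IsSimpleGroup K] {l : ℕ} (hl : 0 < l)
    {M : CoxeterMatrix (Fin l)} {A : Fin l → Fin l → ℤ} {h : IsCartan M A} {T : Subgroup K} {n : Fin l → K}
    {X : (Fin l → ℤ) → Subgroup K} [Finite M.Group] (R : RGD M.toCoxeterSystem h p T n X)
    (hgen : RGD.B M.toCoxeterSystem h T X ⊔ NN M.toCoxeterSystem R.nsys = ⊤) {N : ℕ} (hN : N ≤ 2 * Nat.card ↥T) :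
    NB p K N := by
  have hne : (R.bnPair hgen).S.Nonempty := ⟨n ⟨0, hl⟩, ⟨0, hl⟩, rfl⟩
  have S := SplitRGD.split_of_rgd hp.out R hgen (Cfsg.Agent.Tits.OfBN.normalCore_eq_bot (R.bnPair hgen) hne)
  obtain ⟨Q, hQ⟩ := split_sylow S
  refine ⟨Q, ?_⟩
  have h2 : (Q : Set K) = ((RGD.Sup X (RGD.Pos M.toCoxeterSystem h) : Subgroup K) : Set K) := by
    rw [← hQ]; rfl
  rw [h2, S.normalizer_eq, hQ]
  have h3 : Nat.card ↥(R.bnPair hgen).B = _ := H35.Poin.card_B' R
  rw [h3]
  calc N * Nat.card ↥(RGD.Sup X (RGD.Pos M.toCoxeterSystem h)) ≤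
      (2 * Nat.card ↥T) * Nat.card ↥(RGD.Sup X (RGD.Pos M.toCoxeterSystem h)) := Nat.mul_le_mul_right _ hN
    _ = _ := by ring

/-- A group modelled on a Witt frame. -/
theorem nb_of_model {F : Type} [Field F] [Finite F] {V : Type*} [AddCommGroup V] [Module F V] [Finite V]
    {H : HForm F V} {n : ℕ} {Fr : Frame H (Fin n)} {K : Type*} [Group K] [Finite K] [IsSimpleGroup K] (M : Model Fr K)
    {p : ℕ} [Fact p.Prime] [CharP F p] (hA : Nodes.WittAll.AmbT Fr p M.I) {p0 : Fr.Adm} (hp0 : p0.c ≠ 0)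
    (hn : 0 < n) {N : ℕ} (hN : N ≤ 2 * Nat.card ↥(T M)) : NB p K N := by
  have hfin : Finite (CoxeterMatrix.B n).Group := finite_W (CoxeterMatrix.B n).toCoxeterSystem
  have R := Nodes.WittAll.rgdC_model M hA hp0 (CoxeterMatrix.B n).toCoxeterSystem
  exact nb_of_rgd hn R (NodeRGD.gen_of_top R (Nodes.WittModel.G1_eq_top M hn (CoxeterMatrix.B n).toCoxeterSystem)) hN

/-! ### Diagonal maps -/

section Diag

variable {ι F : Type*} [Field F]

/-- diagonal maps -/
def dg : (ι → Fˣ) →* ((ι → F) ≃ₗ[F] (ι → F)) where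
  toFun c :=
    { toFun := fun v x => (c x : F) * v x
      map_add' := fun v w => by funext x; exact mul_add _ _ _
      map_smul' := fun a v => by funext x; simp only [Pi.smul_apply, smul_eq_mul, RingHom.id_apply]; ring
      invFun := fun v x => ((c x)⁻¹ : Fˣ) * v x
      left_inv := fun v => by funext x; simp
      right_inv := fun v => by funext x; simp }
  map_one' := by ext v x; simp
  map_mul' c d := by ext v x; simp only [mul_assoc, _root_.Pi.mul_apply, _root_.Units.val_mul, _root_.mul_inv_rev, _root_.Units.val_inv_eq_inv_val, _root_.LinearEquiv.coe_mk, _root_.LinearMap.coe_mk, _root_.AddHom.coe_mk, _root_.LinearEquiv.mul_apply]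

@[simp] theorem dg_apply (c : ι → Fˣ) (v : ι → F) (x : ι) : dg c v x = c x * v x := rfl

theorem dg_single [DecidableEq ι] (c : ι → Fˣ) (j : ι) : dg c (Pi.single j (1 : F)) = (c j : F) • Pi.single j 1 := by
  funext x
  by_cases h : x = j
  · subst h; simp
  · simp [h]

/-- permutations of the coordinates -/
def pw (π : Equiv.Perm ι) : (ι → F) ≃ₗ[F] (ι → F) := LinearEquiv.funCongrLeft F F π

@[simp] theorem pw_apply (π : Equiv.Perm ι) (v : ι → F) (x : ι) : pw π v x = v (π x) := rfl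

theorem pw_dg (π : Equiv.Perm ι) (c : ι → Fˣ) : pw π * dg c * (pw π)⁻¹ = dg (fun x => c (π x)) := by
  rw [mul_inv_eq_iff_eq_mul]
  ext v x
  rfl

/-- a homomorphism whose kernel has at most 2 elements -/
theorem card_le_of_ker {D K : Type*} [Group D] [Finite D] [Group K] [Finite K] (f : D →* K) (z : D) (T : Subgroup K)
    (hT : ∀ d, f d ∈ T) (hk : ∀ d, f d = 1 → d = 1 ∨ d = z) : Nat.card D ≤ 2 * Nat.card ↥T := by
  have h1 : Nat.card ↥f.ker ≤ 2 := by
    have h2 : (f.ker : Set D) ⊆ {1, z} := fun d hd => hk d hd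
    have h3 := Set.ncard_le_ncard h2 (Set.toFinite _)
    exact h3.trans (Set.ncard_insert_le _ _ |>.trans (by rw [Set.ncard_singleton]))
  have h2 : Nat.card ↥f.range ≤ Nat.card ↥T := by
    refine Nat.card_le_card_of_injective (Subgroup.inclusion ?_) (Subgroup.inclusion_injective _)
    rintro _ ⟨d, rfl⟩
    exact hT d
  have h3 := f.ker.index_mul_card
  rw [Subgroup.index_ker] at h3
  rw [← h3, mul_comm]
  exact Nat.mul_le_mul h1 h2

end Diag

/-! ### Symplectic groups -/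

section Symplectic

open SpIdent SpGen

variable (F : Type) [Field F]

/-- the diagonal coordinates -/
def cSp (m : ℕ) : (Fin m → Fˣ) →* (Fin m ⊕ Fin m → Fˣ) where
  toFun s := Sum.elim (fun i => (s i)⁻¹) s
  map_one' := by funext x; rcases x with x | x <;> simp
  map_mul' s t := by funext x; rcases x with x | x <;> simp only [mul_comm, _root_.Pi.mul_apply, _root_.mul_inv_rev, _root_.Sum.elim_inl, _root_.Sum.elim_inr]

variable {F}

theorem dg_mem_sp {m : ℕ} (s : Fin m → Fˣ) : dg (cSp F m s) ∈ isos (_root_.Cfsg.Agent.TitsThree.SpIdent.form m F) := by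
  intro v w
  show sympForm m F _ _ = sympForm m F _ _
  rw [Cfsg.Agent.ClassicalGeometry.SympBasic.sympForm_eq_sum, Cfsg.Agent.ClassicalGeometry.SympBasic.sympForm_eq_sum]
  refine Finset.sum_congr rfl fun i _ => ?_
  have h1 : (cSp F m s (Sum.inr i) : F) * cSp F m s (Sum.inl i) = 1 := by
    show ((s i : Fˣ) : F) * ((s i)⁻¹ : Fˣ) = 1
    simp
  rw [dg_apply, dg_apply, dg_apply, dg_apply]
  linear_combination (v (Sum.inr i) * w (Sum.inl i) - v (Sum.inl i) * w (Sum.inr i)) * h1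

/-- the diagonal torus of `PSp` -/
noncomputable def torSp (F : Type) [Field F] (m : ℕ) : (Fin m → Fˣ) →* PSp m F where
  toFun s := toPSp ⟨dg (cSp F m s), dg_mem_sp s⟩
  map_one' := by
    have : (⟨dg (cSp F m 1), dg_mem_sp 1⟩ : isos (_root_.Cfsg.Agent.TitsThree.SpIdent.form m F)) = 1 := Subtype.ext (by simp only [_root_.map_one, _root_.OneMemClass.coe_one])
    rw [this, map_one]
  map_mul' s t := by
    rw [← map_mul]
    congr 1
    exact Subtype.ext (by simp)

theorem torSp_mem {m : ℕ} (s : Fin m → Fˣ) : torSp F m s ∈ T (KInstSp.model m F) := by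
  refine Subgroup.mem_map_of_mem _ (Subgroup.mem_subgroupOf.2 ⟨dg_mem_sp s, ?_⟩)
  rintro ⟨i, x⟩
  cases x
  · exact ⟨_, Units.ne_zero _, dg_single _ _⟩
  · exact ⟨_, Units.ne_zero _, dg_single _ _⟩

theorem torSp_ker {m : ℕ} (s : Fin m → Fˣ) (h : torSp F m s = 1) : s = 1 ∨ s = fun _ => -1 := by
  obtain ⟨a, ha, hv⟩ := exists_smul_of_toPSp_eq_one h
  have h1 : ∀ i, ((s i : Fˣ) : F) = a := by
    intro i
    have h2 := congrFun (hv (Pi.single (Sum.inr i) 1)) (Sum.inr i)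
    have h3 : dg (cSp F m s) (Pi.single (Sum.inr i) 1) (Sum.inr i) = s i := by
      rw [dg_apply]; simp [cSp]
    rw [h3] at h2
    simpa using h2
  have ha' : a * a = 1 := by rw [← ha]; ring
  rcases mul_self_eq_one_iff.1 ha' with h2 | h2
  · left; funext i; exact Units.ext ((h1 i).trans h2)
  · right; funext i; exact Units.ext ((h1 i).trans (by rw [h2]; simp))

/-- **The Sylow normalizer of `PSp_8(q)`.** -/
theorem norm_psp {p : ℕ} [Fact p.Prime] (K : Type) [Field K] [Fintype K] [CharP K p] :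
    NB p (PSp 4 K) ((Fintype.card K - 1) ^ 4) := by
  have hS : IsSimpleGroup (PSp 4 K) := Cfsg.Agent.S0270.result 4 (by norm_num) (by norm_num)
  have h10 : (SpIdent.adm 1 : (frame 4 K).Adm).c ≠ 0 := one_ne_zero
  refine nb_of_model (KInstSp.model 4 K) (Nodes.WittAll.AmbT.of_amb Cfsg.Agent.Nodes.WittU.amb_Sp p) h10 (by norm_num) ?_
  have h1 := card_le_of_ker (torSp K 4) (fun _ => -1) (T (KInstSp.model 4 K)) torSp_mem torSp_ker
  rwa [Nat.card_fun, Nat.card_eq_fintype_card (α := Fin 4), Fintype.card_fin, Nat.card_units,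
    Nat.card_eq_fintype_card] at h1

end Symplectic

/-! ### Orthogonal groups -/

section Orthogonal

open Cfsg.Agent.TitsThree.KSideO Cfsg.Agent.TitsThree.WBridge

variable {F : Type} [Field F]

/-- the diagonal coordinates -/
def cO (F : Type) [Field F] (m : ℕ) : (Fin m → Fˣ) →* (Unit ⊕ (Fin m ⊕ Fin m) → Fˣ) where
  toFun s := Sum.elim (fun _ => 1) (Sum.elim s fun i => (s i)⁻¹)
  map_one' := by funext x; rcases x with x | x | x <;> simp
  map_mul' s t := by funext x; rcases x with x | x | x <;> simp only [mul_comm, _root_.Pi.mul_apply, _root_.mul_inv_rev, _root_.Sum.elim_inl, _root_.mul_one, _root_.Sum.elim_inr]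

theorem dg_mem_O {m : ℕ} (s : Fin m → Fˣ) : dg (cO F m s) ∈ O (oddForm m F) := by
  rw [mem_O]
  intro v
  rw [coe_oddForm, quadFormOdd_apply, quadFormOdd_apply]
  have h1 : dg (cO F m s) v (Sum.inl ()) = v (Sum.inl ()) := by
    rw [dg_apply]
    show ((1 : Fˣ) : F) * _ = _
    simp
  rw [h1]
  refine congrArg _ (Finset.sum_congr rfl fun i _ => ?_)
  have h2 : (cO F m s (Sum.inr (Sum.inl i)) : F) * cO F m s (Sum.inr (Sum.inr i)) = 1 := by
    show ((s i : Fˣ) : F) * ((s i)⁻¹ : Fˣ) = 1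
    simp
  rw [dg_apply, dg_apply]
  linear_combination (v (Sum.inr (Sum.inl i)) * v (Sum.inr (Sum.inr i))) * h2

/-- a permutation of the hyperbolic planes -/
def pa {m : ℕ} (σ : Equiv.Perm (Fin m)) : Equiv.Perm (Unit ⊕ (Fin m ⊕ Fin m)) :=
  Equiv.sumCongr (Equiv.refl _) (Equiv.sumCongr σ σ)

theorem pa_mem_O {m : ℕ} (σ : Equiv.Perm (Fin m)) : (pw (pa σ) : _ ≃ₗ[F] _) ∈ O (oddForm m F) := by
  rw [mem_O]
  intro v
  rw [coe_oddForm, quadFormOdd_apply, quadFormOdd_apply]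
  refine congrArg₂ _ rfl ?_
  exact Equiv.sum_comp σ fun i => v (Sum.inr (Sum.inl i)) * v (Sum.inr (Sum.inr i))

/-- the exchange of the two halves of the frame -/
def pb (m : ℕ) : Equiv.Perm (Unit ⊕ (Fin m ⊕ Fin m)) :=
  Equiv.sumCongr (Equiv.refl _) (Equiv.sumComm _ _)

theorem pb_mem_O {m : ℕ} : (pw (pb m) : _ ≃ₗ[F] _) ∈ O (oddForm m F) := by
  rw [mem_O]
  intro v
  rw [coe_oddForm, quadFormOdd_apply, quadFormOdd_apply]
  refine congrArg₂ _ rfl (Finset.sum_congr rfl fun i _ => ?_)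
  exact mul_comm _ _

/-- the diagonal elements of `Ω` -/
def LO (F : Type) [Field F] (m : ℕ) : Subgroup (Fin m → Fˣ) :=
  (E (oddForm m F)).comap (dg.comp (cO F m))

theorem mem_LO {m : ℕ} {s : Fin m → Fˣ} : s ∈ LO F m ↔ dg (cO F m s) ∈ E (oddForm m F) := Iff.rfl

variable {m : ℕ} (hG : _root_.Cfsg.Agent.LieClassical.OrthTrans.Good (oddForm m F))

include hG in
theorem comm_mem {π : Equiv.Perm (Unit ⊕ (Fin m ⊕ Fin m))} (hπ : (pw π : _ ≃ₗ[F] _) ∈ O (oddForm m F))
    (s s' : Fin m → Fˣ) (h : ∀ x, cO F m s (π x) = cO F m s' x) : s * s'⁻¹ ∈ LO F m := by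
  rw [mem_LO, ← hG.commutator_eq_E]
  have h1 := Subgroup.commutator_mem_commutator (dg_mem_O s) hπ
  have h2 : dg (cO F m (s * s'⁻¹)) = ⁅dg (cO F m s), (pw π : _ ≃ₗ[F] _)⁆ := by
    rw [commutatorElement_def]
    have h3 : pw π * (dg (cO F m s))⁻¹ * (pw π)⁻¹ = (dg (cO F m s'))⁻¹ := by
      rw [← map_inv dg (cO F m s), pw_dg, ← map_inv dg (cO F m s')]
      congr 1
      funext x
      show (cO F m s (π x))⁻¹ = (cO F m s' x)⁻¹
      rw [h]
    rw [mul_assoc, mul_assoc, ← mul_assoc (pw π), h3, map_mul, map_mul, map_inv, map_inv]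
  rwa [h2]

include hG in
theorem sq_mem (s : Fin m → Fˣ) : s * s ∈ LO F m := by
  have h1 := comm_mem hG pb_mem_O s s⁻¹ fun x => by
    rcases x with x | x | x
    · rfl
    · rfl
    · show s x = (s⁻¹ x)⁻¹
      rw [Pi.inv_apply, inv_inv]
  rwa [inv_inv] at h1

include hG in
theorem move_mem (j k : Fin m) (u : Fˣ) : Pi.mulSingle j u * (Pi.mulSingle k u)⁻¹ ∈ LO F m := by
  have h0 : ∀ i, (Pi.mulSingle j u : Fin m → Fˣ) (Equiv.swap j k i) = (Pi.mulSingle k u : Fin m → Fˣ) i := by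
    intro i
    by_cases h1 : i = k
    · subst h1; simp
    · have h2 : Equiv.swap j k i ≠ j := by
        intro h
        apply h1
        have := congrArg (Equiv.swap j k) h
        rwa [Equiv.swap_apply_self, Equiv.swap_apply_left] at this
      rw [Pi.mulSingle_eq_of_ne h2, Pi.mulSingle_eq_of_ne h1]
  refine comm_mem hG (pa_mem_O (Equiv.swap j k)) _ _ fun x => ?_
  rcases x with x | x | x
  · rfl
  · exact h0 x
  · exact congrArg (·⁻¹) (h0 x)

include hG in
/-- **The diagonal elements of `Ω`.** -/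
theorem mem_LO_of (k : Fin m) {s : Fin m → Fˣ} {u : Fˣ} (hu : ∏ j, s j = u * u) : s ∈ LO F m := by
  have h1 : s = (∏ j, (Pi.mulSingle j (s j) * (Pi.mulSingle k (s j))⁻¹)) * ∏ j, Pi.mulSingle k (s j) := by
    rw [← Finset.prod_mul_distrib]
    simp only [inv_mul_cancel_right]
    exact (Finset.univ_prod_mulSingle s).symm
  have h2 : (∏ j, (Pi.mulSingle k (s j) : Fin m → Fˣ)) = Pi.mulSingle k u * Pi.mulSingle k u := by
    have h3 : (∏ j, (Pi.mulSingle k (s j) : Fin m → Fˣ)) = MonoidHom.mulSingle (fun _ => Fˣ) k (∏ j, s j) := by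
      rw [map_prod]; rfl
    rw [h3, hu, map_mul]; rfl
  rw [h1, h2]
  exact mul_mem (Subgroup.prod_mem _ fun j _ => move_mem hG j k _) (sq_mem hG _)

/-- a parametrisation -/
def psi (F : Type) [Field F] (k : Fin m) : (Fin m → Fˣ) →* (Fin m → Fˣ) where
  toFun t i := if i = k then t k * t k * (∏ j ∈ Finset.univ.erase k, t j)⁻¹ else t i
  map_one' := by funext i; simp only [_root_.Pi.one_apply, _root_.mul_one, _root_.Finset.prod_const_one, _root_.inv_one, _root_.ite_self]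
  map_mul' s t := by
    funext i
    by_cases h : i = k
    · subst h
      simp only [if_true, Pi.mul_apply, Finset.prod_mul_distrib, mul_inv]
      rw [mul_mul_mul_comm (s i) (t i) (s i) (t i), mul_mul_mul_comm]
    · simp only [h, ↓ _root_.reduceIte, _root_.Pi.mul_apply, _root_.Finset.mem_univ, _root_.Finset.prod_erase_eq_div, _root_.inv_div]

theorem psi_prod (k : Fin m) (t : Fin m → Fˣ) : ∏ j, psi F k t j = t k * t k := by
  rw [← Finset.mul_prod_erase _ _ (Finset.mem_univ k)]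
  have h1 : ∏ x ∈ Finset.univ.erase k, psi F k t x = ∏ x ∈ Finset.univ.erase k, t x :=
    Finset.prod_congr rfl fun x hx => if_neg (Finset.ne_of_mem_erase hx)
  have h2 : psi F k t k = t k * t k * (∏ j ∈ Finset.univ.erase k, t j)⁻¹ := if_pos rfl
  rw [h1, h2, inv_mul_cancel_right]

theorem psi_ker (k : Fin m) {t : Fin m → Fˣ} (h : psi F k t = 1) : t = 1 ∨ t = Pi.mulSingle k (-1) := by
  have h1 : ∀ i, i ≠ k → t i = 1 := fun i hi => by
    have h2 := congrFun h i
    rwa [show psi F k t i = t i from if_neg hi] at h2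
  have h3 : t k * t k = 1 := by
    rw [← psi_prod, h]; simp only [_root_.Pi.one_apply, _root_.Finset.prod_const_one]
  have h4 : (t k : F) * t k = 1 := by rw [← Units.val_mul, h3, Units.val_one]
  rcases mul_self_eq_one_iff.1 h4 with h5 | h5
  · left
    funext i
    by_cases hi : i = k
    · subst hi; exact Units.ext h5
    · exact h1 i hi
  · right
    funext i
    by_cases hi : i = k
    · subst hi
      rw [Pi.mulSingle_eq_same]
      exact Units.ext (h5.trans (by simp))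
    · rw [Pi.mulSingle_eq_of_ne hi]
      exact h1 i hi

/-- the torus of `Ω` -/
noncomputable def torO (k : Fin m) : (Fin m → Fˣ) →* Cfsg.POmega F ⇑(oddForm m F) where
  toFun t := toPOmega hG ⟨dg (cO F m (psi F k t)), mem_LO.1 (mem_LO_of hG k (psi_prod k t))⟩
  map_one' := by
    have : (⟨dg (cO F m (psi F k 1)), mem_LO.1 (mem_LO_of hG k (psi_prod k 1))⟩ : E (oddForm m F)) = 1 :=
      Subtype.ext (by simp only [_root_.map_one, _root_.OneMemClass.coe_one])
    rw [this, map_one]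
  map_mul' s t := by
    rw [← map_mul]
    congr 1
    exact Subtype.ext (by simp only [_root_.map_mul, _root_.MulMemClass.mk_mul_mk])

theorem torO_mem (k : Fin m) (t : Fin m → Fˣ) (hp : ∃ p : (toFrame (wodd m F)).Adm, p.c ≠ 0) :
    torO hG k t ∈ T (model (wodd m F) hG hp) := by
  refine Subgroup.mem_map_of_mem _ (Subgroup.mem_subgroupOf.2 ⟨mem_LO.1 (mem_LO_of hG k (psi_prod k t)), ?_⟩)
  rintro ⟨i, x⟩
  cases x
  · exact ⟨_, Units.ne_zero _, dg_single _ _⟩
  · exact ⟨_, Units.ne_zero _, dg_single _ _⟩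

theorem torO_ker (k : Fin m) (t : Fin m → Fˣ) (h : torO hG k t = 1) : t = 1 ∨ t = Pi.mulSingle k (-1) := by
  apply psi_ker
  obtain ⟨c, hc⟩ := scalar_of_center hG (center_of_toPOmega hG h)
  have hc1 : c = 1 := by
    have h2 := congrFun (hc (Pi.single (Sum.inl ()) 1)) (Sum.inl ())
    have h3 : dg (cO F m (psi F k t)) (Pi.single (Sum.inl ()) 1) (Sum.inl ()) = 1 := by
      rw [dg_apply]; simp [cO]
    rw [h3] at h2
    simpa using h2.symm
  funext i
  have h2 := congrFun (hc (Pi.single (Sum.inr (Sum.inl i)) 1)) (Sum.inr (Sum.inl i))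
  have h3 : dg (cO F m (psi F k t)) (Pi.single (Sum.inr (Sum.inl i)) 1) (Sum.inr (Sum.inl i)) = psi F k t i := by
    rw [dg_apply]; simp [cO]
  rw [h3, hc1] at h2
  exact Units.ext (by simpa using h2)

/-- **The Sylow normalizer of `Ω_9(q)`, `q` odd.** -/
theorem norm_oodd {p : ℕ} [Fact p.Prime] (K : Type) [Field K] [Fintype K] [CharP K p] (h2 : (2 : K) ≠ 0) :
    NB p (Cfsg.POmega K (Cfsg.quadFormOdd 4 K)) ((Fintype.card K - 1) ^ 4) := by
  rw [← coe_oddForm]
  have hG : _root_.Cfsg.Agent.LieClassical.OrthTrans.Good (oddForm 4 K) := by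
    apply good_of_finite (nondeg_oddForm 4 K h2)
    rw [Module.finrank_fintype_fun_eq_card, Fintype.card_sum, Fintype.card_sum, Fintype.card_fin,
      Fintype.card_unit]
    omega
  let d : Unit ⊕ (Fin 4 ⊕ Fin 4) → K := Pi.single (Sum.inl ()) 1
  have hd : d ∈ (wodd 4 K).V0 := fun j => by simp [d]
  let p0 : (toFrame (wodd 4 K)).Adm := ⟨d, -1, hd, by
    show (-1 : K) = -(oddForm 4 K) d
    rw [coe_oddForm, quadFormOdd_apply]
    simp [d]⟩
  have hp0 : p0.c ≠ 0 := by show -(1 : K) ≠ 0; simp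
  have hS : IsSimpleGroup (Cfsg.POmega K ⇑(oddForm 4 K)) := isSimpleGroup_POmega_of_good hG
  refine nb_of_model (model (wodd 4 K) hG ⟨p0, hp0⟩)
    (Nodes.WittAll.AmbT.of_amb (Cfsg.Agent.Nodes.WittInst.amb_O_of_two _ h2) p) hp0 (by norm_num) ?_
  have h1 := card_le_of_ker (torO hG 0) (Pi.mulSingle 0 (-1)) (T (model (wodd 4 K) hG ⟨p0, hp0⟩))
    (fun t => torO_mem hG 0 t _) (torO_ker hG 0)
  rwa [Nat.card_fun, Nat.card_eq_fintype_card (α := Fin 4), Fintype.card_fin, Nat.card_units,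
    Nat.card_eq_fintype_card] at h1

end Orthogonal

end Cfsg.Agent.H406.Cov
end

-- part: H406/Cov/F4
section
/-!
# `F₄(q)`, `p ≥ 5`, is not the union of the conjugates of two proper subgroups (helper406)

* `noTwo_f4` : from the order table, CFSG and the solvability of groups with an automorphism of prime order with cyclic
  centralizer (these are discharged in `F4F`).
-/

set_option autoImplicit false

namespace Cfsg.Agent.H406.Cov

open Cfsg Cfsg.Agent.OrdDiv Cfsg.Agent.H436 Cfsg.Agent.H56.Exc Cfsg.Agent.H563.KG Cfsg.Agent.H278.Cov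
  Cfsg.Agent.H325.IsoExc

/-- **`F₄(q)`, characteristic at least 5.** -/
theorem noTwo_f4 (tb : OrderTable.{0}) (hcyc : CycFixSolv.{0}) (hcf : CF) {q : ℕ} {T : Type*} [Group T]
    (h : IsNamed (.f4 q) T) {p f : ℕ} (hp : p.Prime) (h5 : 5 ≤ p) (hq : q = p ^ f) : NoTwo T := by
  obtain ⟨F, _, _, hF, ⟨e⟩⟩ := h.real
  have hf : 1 ≤ f := by
    rcases Nat.eq_zero_or_pos f with rfl | h1
    · have h2 : 1 < q := h.cond.one_lt
      rw [hq, pow_zero] at h2
      omega
    · exact h1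
  have := Fact.mk hp
  have := charP_of hp (hF.trans hq)
  have h2 : ∀ (K : Type) [Field K] [CharP K p], (2 : K) ≠ 0 := by
    intro K _ _ h0
    have h3 : ((2 : ℕ) : K) = 0 := by exact_mod_cast h0
    have h4 := Nat.le_of_dvd (by norm_num) ((CharP.cast_eq_zero_iff K p 2).1 h3)
    omega
  refine (noTwo_chevF4_of (F := F) tb hcyc hcf (fun K _ _ _ => norm_psp K) (fun K _ _ _ => norm_oodd K (h2 K))
    hp h5 hf (hF.trans hq)
    (fun e he r hr => piso_F4 (F := F) (p := p) he.symm (by rw [hF, hq]; exact hr))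
    (fun B hB => K_F4 tb hcyc hcf B (by rw [hF, hq]; exact hB))).congr e.symm

end Cfsg.Agent.H406.Cov
end

-- part: H406/Cov/F4F
section
/-!
# `F₄(q)`, `p ≥ 5`, is not the union of the conjugates of two proper subgroups, without hypotheses (helper406)
-/

set_option autoImplicit false

namespace Cfsg.Agent.H406.Cov

open Cfsg.Agent.H436 Cfsg.Agent.H563.KG Cfsg.Agent.H278.Cov

/-- **`F₄(q)`, characteristic at least 5.** -/
theorem noTwo_f4' {q : ℕ} {T : Type*} [Group T] (h : IsNamed (.f4 q) T) {p f : ℕ} (hp : p.Prime) (h5 : 5 ≤ p)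
    (hq : q = p ^ f) : NoTwo T :=
  noTwo_f4 Cfsg.Agent.OrdDiv.table cycFixSolv (fun _ _ _ _ => Cfsg.Agent.S0000.result) h hp h5 hq

end Cfsg.Agent.H406.Cov
end

-- part: H983/Cov/IncSix
section
/-!
# S2499, `G₂(q)`, `q` odd: the overgroups of `{y, u}`, `y` of order `q² - q + 1` (helper983)

* `inc6` : `q ≥ 5`: no proper subgroup contains an element `y` of order `q² - q + 1` and the regular unipotent
  element `u`.
-/

set_option autoImplicit false

namespace Cfsg.Agent.H983.Cov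

open Cfsg Cfsg.Lie Cfsg.Agent.OrdDiv Cfsg.Agent.H436 Cfsg.Agent.H902 Cfsg.Agent.H902.Names Cfsg.Agent.H915.GN
  Cfsg.Agent.H290.ElReg Cfsg.Agent.H264.FKS Cfsg.Agent.H563.KG Cfsg.Agent.H56.Exc
open Cfsg.Agent.H946.Num Cfsg.Agent.H946.Rad Cfsg.Agent.H983.KG2
open Subgroup

variable {p f : ℕ} {T : Type} [Group T] [Finite T] {u y : T} {B U : Subgroup T} {M : Subgroup T}

theorem eq_of_pow_eq {p f l : ℕ} (hp : p.Prime) (hl : l.Prime) (hf : 1 ≤ f) (h : p ^ f = l) : p = l ∧ f = 1 := by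
  have hd : p ∣ l := by rw [← h]; exact dvd_pow_self p (by omega)
  have hpl := (Nat.prime_dvd_prime_iff_eq hp hl).1 hd
  subst hpl
  exact ⟨rfl, Nat.pow_right_injective hp.two_le (h.trans (pow_one p).symm)⟩

/-- the condition on elementary abelian normal subgroups, class 6 -/
theorem noEl6 (D : ClsD T p (N6 (p ^ f)) (c6 (p ^ f))) (R : RU (p ^ f) p u B U) (hf : 1 ≤ f)
    (h5q : 5 ≤ p ^ f) (hT : Nat.card T = OL .G2 (p ^ f)) (hyo : orderOf y = N6 (p ^ f)) (hyM : y ∈ M)
    (huM : u ∈ M) : NoEl p (c6 (p ^ f)) M := by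
  obtain ⟨k, hk⟩ := R.order D.hp
  have ho := odd_of (f := f) D.hp D.h2
  by_cases h : 14 < c6 (p ^ f)
  · exact D.noEl h (y := ⟨y, hyM⟩) (u := ⟨u, huM⟩) (by rw [Subgroup.orderOf_mk, hyo])
      (by rw [Subgroup.orderOf_mk, hk]) (R.cent_sub huM)
  · have h1 := @le_c6 (p ^ f)
    have h7 : p ^ f < 7 := by
      by_contra h7
      obtain ⟨r, hr⟩ : ∃ r, p ^ f = 7 + r := ⟨p ^ f - 7, by omega⟩
      rw [hr] at h1 h
      nlinarith only [h, h1]
    have h5 : p ^ f = 5 := by omega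
    obtain ⟨hp5, -⟩ := eq_of_pow_eq D.hp (by norm_num) hf h5
    subst hp5
    rw [h5] at D hT hyo ⊢
    have e1 : N6 5 = 21 := by decide
    have e2 : c6 5 = 7 := by decide
    rw [e1, e2] at D
    rw [e1] at hyo
    rw [e2]
    refine noEl_five D ?_ (y := ⟨y, hyM⟩) (u := ⟨u, huM⟩) (by rw [Subgroup.orderOf_mk, hyo])
      (by rw [Subgroup.orderOf_mk, hk]) (R.cent_sub huM)
    rw [hT]
    decide

variable {S : Subgroup M} {g : Grp}

omit [Finite T] in
/-- `p ≤ 5`: `p²` divides the order of `u` -/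
theorem RU.sq_dvd (R : RU (p ^ f) p u B U) (hp : p.Prime) (h5 : p ≤ 5) : p ^ 2 ∣ orderOf u := by
  obtain ⟨k, hk⟩ := R.order hp
  rw [hk]
  apply pow_dvd_pow
  by_contra hcon
  have hk1 : k ≤ 1 := by omega
  apply R.ord h5
  have h7 : p ^ k ∣ p ^ 1 := pow_dvd_pow p hk1
  rw [pow_one] at h7
  exact orderOf_dvd_iff_pow_eq_one.1 (hk ▸ h7)

/-- `p` divides the order of `S` -/
theorem Core.p_dvd (C : Core f p (N6 (p ^ f)) (c6 (p ^ f)) u M S g) (D : ClsD T p (N6 (p ^ f)) (c6 (p ^ f)))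
    (R : RU (p ^ f) p u B U) (hp : p.Prime) (h2 : p ≠ 2) (hf : 1 ≤ f) (h3q : 3 ≤ p ^ f)
    (hT : Nat.card T = OL .G2 (p ^ f)) : p ∣ Nat.card S := by
  by_cases h5 : 5 ≤ p
  · obtain ⟨v, hv⟩ := C.uS (C.coprime hp h5)
    obtain ⟨k, hk⟩ := R.order hp
    have hvo : orderOf v = p ^ k := by
      rw [← hk, ← hv, Subgroup.orderOf_coe, Subgroup.orderOf_coe]
    have hk0 : k ≠ 0 := by
      rintro rfl
      rw [pow_zero, orderOf_eq_one_iff] at hk
      exact R.ne_one hp hf h3q hT hk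
    have h6 : orderOf v ∣ Nat.card S := _root_.orderOf_dvd_natCard v
    rw [hvo] at h6
    exact (dvd_pow_self p hk0).trans h6
  · have h3 : p = 3 := by
      have := hp.two_le
      have h4 : p ≠ 4 := by rintro rfl; revert hp; norm_num
      omega
    have hm : p ^ f % 3 = 0 := by
      rw [h3]
      exact Nat.mod_eq_zero_of_dvd (dvd_pow_self 3 (by omega))
    obtain ⟨r, hr, hrc⟩ : ∃ r, r.Prime ∧ r ∣ c6 (p ^ f) := Nat.exists_prime_and_dvd D.c1
    obtain ⟨e, n, hie, he0, hc, hn⟩ := C.cnt (N6_eq hm) r hr hrc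
    have h6 : S.index ∣ 6 := (Dvd.intro _ rfl).trans hie
    obtain ⟨v, hv⟩ := C.uM
    have h7 : p ^ 2 ∣ Nat.card M := by
      have h8 := R.sq_dvd hp (by omega)
      rw [← hv, Subgroup.orderOf_coe] at h8
      exact h8.trans (_root_.orderOf_dvd_natCard v)
    rw [← S.card_mul_index] at h7
    have h8 : p ^ 2 ∣ Nat.card S * 6 := h7.trans (Nat.mul_dvd_mul_left _ h6)
    rw [h3] at h8 ⊢
    have h9 : 3 * 3 ∣ 3 * (2 * Nat.card S) := by
      have e : 3 * (2 * Nat.card S) = Nat.card S * 6 := by ring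
      rw [e]; exact h8
    have h10 := Nat.dvd_of_mul_dvd_mul_left (by norm_num) h9
    exact (Nat.prime_three.dvd_mul.1 h10).resolve_left (by norm_num)

/-- `q = 5` -/
theorem Core.five (C : Core f p (N6 (p ^ f)) (c6 (p ^ f)) u M S g) (R : RU (p ^ f) p u B U) (hp : p.Prime)
    (hf : 1 ≤ f) (h5 : p ^ f = 5) : 25 ∣ Nat.card S := by
  obtain ⟨hp5, -⟩ := eq_of_pow_eq hp (by norm_num) hf h5
  obtain ⟨v, hv⟩ := C.uS (C.coprime hp (by omega))
  have h6 := R.sq_dvd hp (by omega)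
  rw [← hv, Subgroup.orderOf_coe, Subgroup.orderOf_coe, hp5] at h6
  exact h6.trans (_root_.orderOf_dvd_natCard v)

/-- cross characteristic -/
theorem Core.no_cross6 (C : Core f p (N6 (p ^ f)) (c6 (p ^ f)) u M S g) (D : ClsD T p (N6 (p ^ f)) (c6 (p ^ f)))
    (R : RU (p ^ f) p u B U) (hp : p.Prime) (h2 : p ≠ 2) (hf : 1 ≤ f) (h5q : 5 ≤ p ^ f)
    (hT : Nat.card T = OL .G2 (p ^ f))
    {l : ℕ} (hl : l.Prime) (hpl : p ≠ l) (hch : HasChar l g) : False := by
  obtain ⟨X, f₁, h1, h2', -⟩ := exists_lie hl C.named hch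
  obtain ⟨F, _, hcF, hFth⟩ := D.fth
  have hlF : (l : F) ≠ 0 := by
    intro h
    exact hpl ((Nat.prime_dvd_prime_iff_eq hp hl).1 ((CharP.cast_eq_zero_iff F p l).1 h))
  have := C.simp
  have h3 := lb_le C.na (by norm_num) ((hFth.sub M.subtype M.subtype_injective).sub S.subtype S.subtype_injective)
    h1 C.named.real h2' hlF
  rcases cross6 h2' h3 hp h2 hf hpl C.cS C.dvd (C.p_dvd D R hp h2 hf (by omega) hT) with ⟨h, -⟩ | ⟨h5, rfl, rfl, rfl⟩
  · omega
  · have h4 := h2'.eq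
    have e1 : Art.dd (.L 4) (2 ^ 1) = 1 := by decide
    have e2 : (2 ^ 1) ^ Art.NN (.L 4) * Art.num (.L 4) (2 ^ 1) = 20160 := by decide
    rw [e1, e2, one_mul] at h4
    have h6 := C.five R hp hf h5
    rw [h4] at h6
    norm_num at h6

/-- `U₃(q)` -/
theorem Core.no_u3' (C : Core f p (N6 (p ^ f)) (c6 (p ^ f)) u M S g)
    (D : ClsD T p (N6 (p ^ f)) (c6 (p ^ f)))
    (R : RU (p ^ f) p u B U) (hp : p.Prime) (h2 : p ≠ 2) (hf : 1 ≤ f) (h3q : 3 ≤ p ^ f)
    (hT : Nat.card T = OL .G2 (p ^ f)) (hg : g = .psu 3 (p ^ f)) : False := by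
  by_cases h5 : 5 ≤ p
  · exact C.no_u3 R hp h2 hf h3q hT hg (C.coprime hp h5)
  · have h3 : p = 3 := by
      have := hp.two_le
      have h4 : p ≠ 4 := by rintro rfl; revert hp; norm_num
      omega
    refine C.no_u3 R hp h2 hf h3q hT hg ?_
    have hm : p ^ f % 3 = 0 := by
      rw [h3]
      exact Nat.mod_eq_zero_of_dvd (dvd_pow_self 3 (by omega))
    obtain ⟨r, hr, hrc⟩ : ∃ r, r.Prime ∧ r ∣ c6 (p ^ f) := Nat.exists_prime_and_dvd D.c1
    obtain ⟨e, n, hie, he0, hc, hn⟩ := C.cnt (N6_eq hm) r hr hrc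
    have h6 : S.index ∣ 2 := by
      refine cnt_u3 h3q hm ?_ hc hn (hrc.trans (c6_dvd _)) (D.seven r hr hrc) hie
      rw [← hg]
      exact C.named.eq
    rw [h3]
    exact Nat.Coprime.coprime_dvd_left h6 (by norm_num)

/-- **The overgroups of `{y, u}`, `y` of order `q² - q + 1`.** -/
theorem inc6 (hnm : ∀ (S : Type) [Group S] [Finite S] [IsSimpleGroup S], ¬ IsMulCommutative S → ∃ g, IsNamed g S)
    (hC : CharSix) (hK : KillRee) (hp : p.Prime) (h2 : p ≠ 2) (hf : 1 ≤ f) (h5q : 5 ≤ p ^ f)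
    (hT : IsNamed (.g2 (p ^ f)) T) (R : RU (p ^ f) p u B U) (hM : M ≠ ⊤) (hyo : orderOf y = N6 (p ^ f))
    (hyM : y ∈ M) (huM : u ∈ M) : False := by
  have D0 := dat_of hT hp hf
  have D := Dat.cls6 D0 hT h2
  have h3q := D0.h3q
  have hTc := D0.card
  obtain ⟨S, g, C⟩ := D.core hnm R hf h3q hTc hyo hyM huM (noEl6 D R hf h5q hTc hyo hyM huM)
  have hnS := C.nm
  have hsS := C.simp
  rcases Cfsg.Agent.H192.Singer.cases_name C.named.cond with ⟨m, rfl⟩ | hsp | ⟨l, hl, hch⟩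
  · obtain ⟨e'⟩ := C.named.real
    exact alt6 C.named.cond h3q (odd_of hp h2) C.big e' C.cS C.dvd (C.five R hp hf)
  · have h1 : Nat.card S = ordN g := C.named.ord
    have hcS := C.cS
    have hd := C.dvd
    rw [h1] at hcS hd
    exact spor6 (Cfsg.Agent.H192.Singer.spor_mem hsp) h3q (odd_of hp h2) hcS hd
  · by_cases hpl : p = l
    · subst hpl
      have hq : 1 ≤ p ^ f := by omega
      rcases hC hp h2 hf C.named.cond hch C.named.eq (Cfsg.Agent.H264.FKS.IsNamed.card_dvd hT S)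
          (fun s hs => (dvd_c6 hq hs).trans C.cS) with h | h | h | h
      · subst h
        exact hM (eq_top_of_name hT C.named)
      · subst h
        obtain ⟨r3, p3, -⟩ := exists_cl hp hf h3q (Or.inl rfl)
        exact H325.Same.kill_psl2 hp C.named p3 (((D0.iso r3 p3).sub M).sub S)
      · exact C.no_u3' D R hp h2 hf h3q hTc h
      · subst h
        obtain ⟨z, hz⟩ := C.z
        have hp3 : p = 3 := by
          obtain ⟨F, _, _, m, hm, -, hq3, -⟩ := C.named.real
          have h3 : p ∣ 3 ^ (2 * m + 1) := by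
            rw [← hq3]
            exact dvd_pow_self p (by omega)
          exact (Nat.prime_dvd_prime_iff_eq hp Nat.prime_three).1 (hp.dvd_of_dvd_pow h3)
        subst hp3
        exact hK hf C.named z hz
    · exact C.no_cross6 D R hp h2 hf h5q hTc hl hpl hch

end Cfsg.Agent.H983.Cov
end

-- part: H983/Cov/Main
section
/-!
# S2499, `G₂(q)`, `q` odd: assembly (helper983)

* `inc_of` : incompatibility of the classes of `y` and `u` from the statement on overgroups;
* `inc36` : elements of order `q² + q + 1` and `q² - q + 1`, `q ≥ 5`;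
* `noTwo_chevG2` : `G₂(q)`, `q ≥ 5` odd; `noTwo_g2_of` : all odd `q ≥ 3`, from the tasks.
-/

set_option autoImplicit false

namespace Cfsg.Agent.H983.Cov

open Cfsg Cfsg.Lie Cfsg.Agent.OrdDiv Cfsg.Agent.H436 Cfsg.Agent.H902 Cfsg.Agent.H902.Names Cfsg.Agent.H915.GN
  Cfsg.Agent.H290.ElReg Cfsg.Agent.H264.FKS Cfsg.Agent.H563.KG Cfsg.Agent.H56.Exc
open Cfsg.Agent.H946.Num Cfsg.Agent.H946.Rad Cfsg.Agent.H983.KG2
open Cfsg.Agent.H278.Cov (Av NoTwo Inc not_av noTwo_of_three)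
open Subgroup

section

variable {G : Type*} [Group G]

/-- incompatibility with a fixed representative of one class -/
theorem inc_of {y u : G} {n : ℕ} (hy : orderOf y = n)
    (h : ∀ M : Subgroup G, M ≠ ⊤ → ∀ z : G, orderOf z = n → z ∈ M → u ∈ M → False) : Inc y u := by
  intro H hH
  by_contra hcon
  push Not at hcon
  obtain ⟨g, hg⟩ := not_av hcon.1
  obtain ⟨k, hk⟩ := not_av hcon.2
  have hn : H.map (MulAut.conj k⁻¹).toMonoidHom ≠ ⊤ := by
    intro ht
    apply hH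
    rw [eq_top_iff]
    intro x _
    have h1 : k⁻¹ * x * k ∈ H.map (MulAut.conj k⁻¹).toMonoidHom := by rw [ht]; trivial
    obtain ⟨w, hw, hwx⟩ := h1
    have h2 : k⁻¹ * w * k⁻¹⁻¹ = k⁻¹ * x * k := hwx
    have h3 : w = x := by simpa only [_root_.inv_inv, _root_.mul_left_inj, _root_.mul_right_inj] using h2
    rwa [← h3]
  refine h _ hn (k⁻¹ * (g * y * g⁻¹) * k) ?_ ⟨_, hg, ?_⟩ ⟨_, hk, ?_⟩
  · have h1 : orderOf ((MulAut.conj (k⁻¹ * g)).toMonoidHom y) = orderOf y :=
      orderOf_injective _ (MulAut.conj (k⁻¹ * g)).injective y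
    rw [← hy, ← h1]
    congr 1
    change k⁻¹ * (g * y * g⁻¹) * k = k⁻¹ * g * y * (k⁻¹ * g)⁻¹
    group
  · change k⁻¹ * (g * y * g⁻¹) * k⁻¹⁻¹ = k⁻¹ * (g * y * g⁻¹) * k
    rw [inv_inv]
  · change k⁻¹ * (k * u * k⁻¹) * k⁻¹⁻¹ = u
    group

end

/-- the primes of the classes do not divide the index of a subgroup containing the torus -/
theorem not_dvd_index {q : ℕ} (hq : 1 ≤ q) {m i : ℕ} (hT : m * i = OL .G2 q) :
    (N3 q ∣ m → ∀ r, Prim q 3 r → ¬ r ∣ i) ∧ (N6 q ∣ m → ∀ r, Prim q 6 r → ¬ r ∣ i) := by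
  have hO : OL .G2 q = q ^ 6 * ((q ^ 2 - 1) * ((q ^ 2 - 1) * (N3 q * N6 q))) := by
    rw [six_factor]
    rfl
  have n3 : N3 q ≠ 0 := by unfold N3; omega
  have n6 : N6 q ≠ 0 := by unfold N6; omega
  constructor
  · rintro ⟨k, rfl⟩ r hr h
    have h1 : k * i = q ^ 6 * ((q ^ 2 - 1) * ((q ^ 2 - 1) * N6 q)) := by
      apply Nat.eq_of_mul_eq_mul_left (Nat.pos_of_ne_zero n3)
      rw [← mul_assoc, hT, hO]
      ring
    have h2 : r ∣ q ^ 6 * ((q ^ 2 - 1) * ((q ^ 2 - 1) * N6 q)) := h1 ▸ h.mul_left k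
    have h3 : ¬ r ∣ q ^ 2 - 1 := hr.not_dvd_sub (by norm_num)
    rcases hr.prime.dvd_mul.1 h2 with h4 | h4
    · exact hr.not_dvd_pow _ h4
    rcases hr.prime.dvd_mul.1 h4 with h4 | h4
    · exact h3 h4
    rcases hr.prime.dvd_mul.1 h4 with h4 | h4
    · exact h3 h4
    · exact three_of hr.prime (prim_N3 hq hr) h4
  · rintro ⟨k, rfl⟩ r hr h
    have h1 : k * i = q ^ 6 * ((q ^ 2 - 1) * ((q ^ 2 - 1) * N3 q)) := by
      apply Nat.eq_of_mul_eq_mul_left (Nat.pos_of_ne_zero n6)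
      rw [← mul_assoc, hT, hO]
      ring
    have h2 : r ∣ q ^ 6 * ((q ^ 2 - 1) * ((q ^ 2 - 1) * N3 q)) := h1 ▸ h.mul_left k
    have h3 : ¬ r ∣ q ^ 2 - 1 := hr.not_dvd_sub (by norm_num)
    rcases hr.prime.dvd_mul.1 h2 with h4 | h4
    · exact hr.not_dvd_pow _ h4
    rcases hr.prime.dvd_mul.1 h4 with h4 | h4
    · exact h3 h4
    rcases hr.prime.dvd_mul.1 h4 with h4 | h4
    · exact h3 h4
    · exact three_of hr.prime h4 (prim_N6 hq hr)

variable {p f : ℕ}

section

variable (hnm : ∀ (S : Type) [Group S] [Finite S] [IsSimpleGroup S], ¬ IsMulCommutative S → ∃ g, IsNamed g S)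

include hnm

/-- **The classes 3 and 6.** -/
theorem inc36 (hp : p.Prime) (hf : 1 ≤ f) (h5q : 5 ≤ p ^ f) {F : Type} [Field F] [Fintype F]
    (hF : Fintype.card F = p ^ f) {x y : ↥(chevG2.group F)} (hx : orderOf x = N3 (p ^ f))
    (hy : orderOf y = N6 (p ^ f)) : Inc x y := by
  refine inc_of hx fun M hM z hz hzM hyM => hM ?_
  have hT : IsNamed (.g2 (p ^ f)) ↥(chevG2.group F) := named_g2 hF (by omega) (hp.isPrimePow.pow (by omega))
  have D := dat_of hT hp hf
  have hc : Nat.card M * M.index = OL .G2 (p ^ f) := by rw [M.card_mul_index, D.card]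
  obtain ⟨k3, k6⟩ := not_dvd_index (q := p ^ f) (by omega) hc
  have h3 : N3 (p ^ f) ∣ Nat.card M := by
    rw [← hz, ← Subgroup.orderOf_mk z hzM]
    exact _root_.orderOf_dvd_natCard _
  have h6 : N6 (p ^ f) ∣ Nat.card M := by
    rw [← hy, ← Subgroup.orderOf_mk y hyM]
    exact _root_.orderOf_dvd_natCard _
  rcases kfull_chevG2' hnm hp (by omega) (by omega) hF M (fun r hr => by
    rcases hr with hr | hr
    · exact k3 h3 r hr
    · exact k6 h6 r hr) with h | ⟨h, -⟩
  · exact h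
  · omega

/-- **`G₂(q)`, `q ≥ 5` odd.** -/
theorem noTwo_chevG2 (hRU : ExRU) (h3 : CharThree) (h6 : CharSix) (hK1 : KillG2) (hK2 : KillL2) (hK3 : KillRee)
    (hp : p.Prime) (h2 : p ≠ 2) (hf : 1 ≤ f) (h5q : 5 ≤ p ^ f) {F : Type} [Field F] [Fintype F]
    (hF : Fintype.card F = p ^ f) : NoTwo ↥(chevG2.group F) := by
  have hT : IsNamed (.g2 (p ^ f)) ↥(chevG2.group F) := named_g2 hF (by omega) (hp.isPrimePow.pow (by omega))
  obtain ⟨u, B, U, R⟩ := hRU hp h2 hf hF
  obtain ⟨x, hx⟩ := exists_y3 hF hp hf (by omega)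
  obtain ⟨y, hy⟩ := exists_y6 hF hp hf (by omega)
  refine noTwo_of_three (inc36 hnm hp hf h5q hF hx hy) (z := u) ?_ ?_
  · exact inc_of hy fun M hM z hz hzM huM => inc6 hnm h6 hK3 hp h2 hf h5q hT R hM hz hzM huM
  · exact inc_of hx fun M hM z hz hzM huM => inc3 hnm h3 hK1 hK2 hp h2 hf hT R hM hz hzM huM

/-- **`G₂(q)`, `q` odd.** -/
theorem noTwo_g2_of (hRU : ExRU) (h3 : CharThree) (h6 : CharSix) (hK1 : KillG2) (hK2 : KillL2) (hK3 : KillRee)
    (hQ : GTwoThree) {q : ℕ} (ho : q % 2 = 1) {T : Type*} [Group T] (hT : IsNamed (.g2 q) T) : NoTwo T := by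
  obtain ⟨F, _, _, hF, ⟨e⟩⟩ := hT.real
  have hc : 3 ≤ q ∧ IsPrimePow q := hT.cond
  obtain ⟨p, f, hp, hf, rfl⟩ := (isPrimePow_nat_iff _).1 hc.2
  have h2 : p ≠ 2 := by
    rintro rfl
    have : 2 ∣ 2 ^ f := dvd_pow_self 2 (by omega)
    omega
  refine NoTwo.congr ?_ e.symm
  by_cases h5 : 5 ≤ p ^ f
  · exact noTwo_chevG2 hnm hRU h3 h6 hK1 hK2 hK3 hp h2 hf h5 hF
  · exact hQ (by rw [hF]; omega)

end

end Cfsg.Agent.H983.Cov
end

-- part: H725/Cov/Th
section
/-!
# S2499: the Thompson group (helper725)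

Elements of orders 19, 31, 13.
-/

set_option autoImplicit false

namespace Cfsg.Agent.H725.Cov

open Cfsg Subgroup Cfsg.Agent.OrdDiv Cfsg.Agent.H278.Cov Cfsg.Agent.H455.Cov

/-- elements of the same prime order `p`, where `p ^ 2` does not divide the order -/
theorem exists_conj_zpowers {X : Type*} [Group X] [Finite X] {p : ℕ} (hp : p.Prime) (h2 : ¬ p ^ 2 ∣ Nat.card X)
    {a b : X} (ha : orderOf a = p) (hb : orderOf b = p) : ∃ g : X, g * b * g⁻¹ ∈ zpowers a := by
  have hpf : Fact p.Prime := ⟨hp⟩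
  have key : ∀ c : X, orderOf c = p → ∃ P : Sylow p X, (P : Subgroup X) = zpowers c := by
    intro c hc
    have hcard : Nat.card (zpowers c) = p := by rw [Nat.card_zpowers, hc]
    have hP : IsPGroup p (zpowers c) := by
      rw [IsPGroup.iff_card]
      exact ⟨1, by rw [hcard, pow_one]⟩
    obtain ⟨P, hP⟩ := hP.exists_le_sylow
    refine ⟨P, (Subgroup.eq_of_le_of_card_ge hP ?_).symm⟩
    obtain ⟨k, hk⟩ := (IsPGroup.iff_card).1 P.isPGroup'
    have h3 : p ^ k ∣ Nat.card X := hk ▸ Subgroup.card_subgroup_dvd_card _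
    have h4 : k ≤ 1 := by
      by_contra h
      exact h2 ((pow_dvd_pow p (by omega : 2 ≤ k)).trans h3)
    rw [hcard, hk]
    calc p ^ k ≤ p ^ 1 := Nat.pow_le_pow_right hp.pos h4
      _ = p := pow_one p
  obtain ⟨P, hP⟩ := key a ha
  obtain ⟨Q, hQ⟩ := key b hb
  obtain ⟨g, hg⟩ := MulAction.exists_smul_eq X Q P
  refine ⟨g, ?_⟩
  rw [← hP, ← hg, Sylow.coe_subgroup_smul]
  have h1 : b ∈ (Q : Subgroup X) := by rw [hQ]; exact mem_zpowers b
  exact ⟨b, h1, rfl⟩

/-- elements of order 13 which are conjugate to their fifth powers, and elements of order 31 -/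
theorem ncomm {X : Type*} [Group X] [Finite X] (h31 : ¬ 31 ^ 2 ∣ Nat.card X)
    (na : ∀ x t : X, orderOf x = 31 → orderOf t = 2 → x * t ≠ t * x) {x h u : X} (hx : orderOf x = 13)
    (hh : h * x = x ^ 5 * h) (hu : orderOf u = 31) : x * u ≠ u * x := by
  intro hxu
  have hhx : h * x * h⁻¹ = x ^ 5 := by rw [hh]; group
  -- the conjugate of `u` commutes with `x ^ 5`, hence with `x`
  have h1 : Commute (x ^ 5) (h * u * h⁻¹) := by
    rw [← hhx]
    show h * x * h⁻¹ * (h * u * h⁻¹) = h * u * h⁻¹ * (h * x * h⁻¹)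
    calc h * x * h⁻¹ * (h * u * h⁻¹) = h * (x * u) * h⁻¹ := by group
      _ = h * (u * x) * h⁻¹ := by rw [hxu]
      _ = _ := by group
  have h2 : x = (x ^ 5) ^ 8 := by
    rw [← pow_mul, show 5 * 8 = 13 * 3 + 1 by norm_num, pow_add, pow_mul, ← hx, pow_orderOf_eq_one, one_pow, one_mul,
      pow_one]
  have h3 : Commute x (h * u * h⁻¹) := by
    rw [h2]
    exact h1.pow_left 8
  -- in the centralizer of `x`
  have hcu : orderOf (h * u * h⁻¹) = 31 := by
    rw [← hu]
    exact orderOf_injective (MulAut.conj h).toMonoidHom (MulAut.conj h).injective u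
  have hC : ¬ 31 ^ 2 ∣ Nat.card (centralizer ({x} : Set X)) := fun hd =>
    h31 (hd.trans (Subgroup.card_subgroup_dvd_card _))
  obtain ⟨c, hc⟩ := exists_conj_zpowers (X := centralizer ({x} : Set X)) (p := 31) (by norm_num) hC
    (a := ⟨u, mem_centralizer_singleton_iff.2 hxu.symm⟩)
    (b := ⟨h * u * h⁻¹, mem_centralizer_singleton_iff.2 h3.symm⟩)
    (by rw [Subgroup.orderOf_mk, hu]) (by rw [Subgroup.orderOf_mk, hcu])
  have hcx : (c : X) * x = x * c := mem_centralizer_singleton_iff.1 c.2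
  obtain ⟨k, hk⟩ := mem_zpowers_iff.1 hc
  have hk' : u ^ k = (c : X) * (h * u * h⁻¹) * (c : X)⁻¹ := congrArg Subtype.val hk
  set n : X := (c : X) * h with hn
  have hnu : n * u * n⁻¹ = u ^ k := by rw [hk', hn]; group
  have hnx : n * x * n⁻¹ = x ^ 5 := by
    have h4 : (c : X) * x ^ 5 = x ^ 5 * c := (Commute.pow_right hcx 5)
    calc n * x * n⁻¹ = (c : X) * (h * x * h⁻¹) * (c : X)⁻¹ := by rw [hn]; group
      _ = x ^ 5 := by rw [hhx, h4]; group
  -- powers of `n`
  have hpow : ∀ (y : X) (j : ℤ), n * y * n⁻¹ = y ^ j → ∀ m : ℕ, n ^ m * y * (n ^ m)⁻¹ = y ^ (j ^ m) := by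
    intro y j hy m
    induction m with
    | zero => simp
    | succ m ih =>
      calc n ^ (m + 1) * y * (n ^ (m + 1))⁻¹ = n * (n ^ m * y * (n ^ m)⁻¹) * n⁻¹ := by
            rw [pow_succ']; group
        _ = n * y ^ (j ^ m) * n⁻¹ := by rw [ih]
        _ = (n * y * n⁻¹) ^ (j ^ m) := by rw [conj_zpow]
        _ = y ^ (j ^ (m + 1)) := by rw [hy, ← zpow_mul, pow_succ']
  have hwu : n ^ 30 * u * (n ^ 30)⁻¹ = u := by
    rw [hpow u k hnu 30]
    have h5 : ¬ (31 : ℤ) ∣ k := by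
      intro hd
      obtain ⟨m, rfl⟩ := hd
      have h6 : u ^ (31 * m : ℤ) = 1 := by
        rw [zpow_mul, show (31 : ℤ) = ((31 : ℕ) : ℤ) by norm_num, zpow_natCast, ← hu, pow_orderOf_eq_one, one_zpow]
      rw [h6] at hnu
      have h7 : u = 1 := by
        have h8 := congrArg (fun z => n⁻¹ * z * n) hnu
        simpa [mul_assoc] using h8
      rw [h7, orderOf_one] at hu
      norm_num at hu
    have h6 : k ^ 30 ≡ 1 [ZMOD 31] := by
      have : Fact (Nat.Prime 31) := ⟨by norm_num⟩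
      have h7 := ZMod.pow_card_sub_one_eq_one (p := 31) (a := (k : ZMod 31)) (by
        rw [Ne, ZMod.intCast_zmod_eq_zero_iff_dvd]
        exact h5)
      refine (ZMod.intCast_eq_intCast_iff (k ^ 30) 1 31).1 ?_
      push_cast
      exact h7
    have h8 : u ^ (k ^ 30) = u ^ (1 : ℤ) := by
      rw [zpow_eq_zpow_iff_modEq, hu]
      exact h6
    rw [h8, zpow_one]
  have hnx' : n * x * n⁻¹ = x ^ (5 : ℤ) := by
    rw [hnx]
    norm_cast
  have hwx : n ^ 30 * x * (n ^ 30)⁻¹ = x⁻¹ := by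
    rw [hpow x 5 hnx' 30]
    have h8 : x ^ ((5 : ℤ) ^ 30) = x ^ (-1 : ℤ) := by
      rw [zpow_eq_zpow_iff_modEq, hx]
      decide
    rw [h8, zpow_neg_one]
  -- `w = n ^ 30` has even order
  set w : X := n ^ 30 with hw
  have h2w : 2 ∣ orderOf w := by
    by_contra hodd
    obtain ⟨m, hm⟩ : Odd (orderOf w) := by
      rw [← Nat.not_even_iff_odd, even_iff_two_dvd]
      exact hodd
    have h9 : w ^ 2 * x * (w ^ 2)⁻¹ = x := by
      calc w ^ 2 * x * (w ^ 2)⁻¹ = w * (w * x * w⁻¹) * w⁻¹ := by rw [pow_two]; group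
        _ = w * x⁻¹ * w⁻¹ := by rw [hwx]
        _ = (w * x * w⁻¹)⁻¹ := by group
        _ = x := by rw [hwx, inv_inv]
    have h10 : Commute (w ^ 2) x := mul_inv_eq_iff_eq_mul.1 h9
    have h11 : Commute w x := by
      have h12 : w = (w ^ 2) ^ (m + 1) := by
        rw [← pow_mul, show 2 * (m + 1) = orderOf w + 1 by omega, pow_succ, pow_orderOf_eq_one, one_mul]
      rw [h12]
      exact h10.pow_left _
    have h13 : x⁻¹ = x := by
      rw [← hwx, h11.eq]
      group
    have h14 : x ^ 2 = 1 := by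
      rw [pow_two]
      nth_rewrite 1 [← h13]
      exact inv_mul_cancel x
    have h15 := orderOf_dvd_of_pow_eq_one h14
    rw [hx] at h15
    norm_num at h15
  have hwu' : Commute w u := mul_inv_eq_iff_eq_mul.1 hwu
  have hpos := orderOf_pos w
  refine na u (w ^ (orderOf w / 2)) hu ?_ (hwu'.pow_left _).eq.symm
  rw [orderOf_pow_of_dvd (by omega) (Nat.div_dvd_of_dvd h2w)]
  obtain ⟨j, hj⟩ := h2w
  rw [hj, Nat.mul_div_cancel_left _ (by norm_num), Nat.mul_div_cancel _ (by omega)]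

/-- the Thompson group has no elements of order 403 -/
theorem noOrd_31_13 (z : Spor.Th) : orderOf z ≠ 31 * 13 := by
  have hfin : Finite Spor.Th := KFacts.Th.Main.finite
  have hcard : Nat.card Spor.Th = 90745943887872000 := KFacts.Th.Main.ctx.card
  obtain ⟨x, h, hx, hh, -⟩ := H303.MaxTh.exists_Th
  have na : ∀ x t : Spor.Th, orderOf x = 31 → orderOf t = 2 → x * t ≠ t * x := by
    have h1 : H393.Iso.NA 31 Spor.Th := H393.Iso.NA.of_card fun t ht => by
      rw [MonsterX.ThOneClass.card_centralizer ht]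
      norm_num
    exact h1
  refine H257.El.noOrd_of_noComm (by norm_num) (by norm_num) (fun u y hu hy huy => ?_) z
  obtain ⟨g, hg⟩ := exists_conj_zpowers (p := 13) (by norm_num) (by rw [hcard]; norm_num) hy hx
  have h1 : Commute u (g * x * g⁻¹) := by
    obtain ⟨k, hk⟩ := mem_zpowers_iff.1 hg
    rw [← hk]
    exact Commute.zpow_right huy k
  have h2 : x * (g⁻¹ * u * g) = g⁻¹ * u * g * x := by
    calc x * (g⁻¹ * u * g) = g⁻¹ * ((g * x * g⁻¹) * u) * g := by group
      _ = g⁻¹ * (u * (g * x * g⁻¹)) * g := by rw [h1.eq]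
      _ = _ := by group
  refine ncomm (by rw [hcard]; norm_num) na hx hh (u := g⁻¹ * u * g) ?_ h2
  rw [← hu]
  have := orderOf_injective (MulAut.conj g⁻¹).toMonoidHom (MulAut.conj g⁻¹).injective u
  simpa only [_root_.map_inv, _root_.MulEquiv.toMonoidHom_eq_coe, _root_.MonoidHom.coe_coe, _root_.MulAut.inv_apply, _root_.MulAut.conj_symm_apply] using this

/-- the factorisation of the order of the Thompson group -/
def lTh : List (ℕ × ℕ) := [(2, 15), (3, 10), (5, 3), (7, 2), (13, 1), (19, 1), (31, 1)]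

theorem noTwo_th (tab : OrderTable.{0}) (known : H257.El.Known.{0}) {T : Type} [Group T] [Finite T]
    (h : Spor.IsoTh T) : NoTwo T := by
  have hc := NotCT.Orders.th h
  obtain ⟨e⟩ := h
  have h19 : ∀ w : ℕ, w.Prime → 19 ≠ w → ∀ z : T, orderOf z ≠ 19 * w := fun w hw hne =>
    H257.El.noOrd_of_cent (by norm_num) (H537.Cop.SC.congr e H981.SCTh.sc_th) hw hne
  refine noTwo_of_miss (a := 19) (W := [31, 13]) (by norm_num) (by rw [hc]; norm_num) ?_ ?_ ?_
  · intro w hw
    simp only [List.mem_cons, List.not_mem_nil, or_false] at hw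
    rw [hc]
    rcases hw with rfl | rfl <;> norm_num
  · refine bad_of_chkW tab known (l := lTh) hc (by norm_num) ?_ ?_ (by decide +kernel)
    · intro w hw
      simp only [List.mem_cons, List.not_mem_nil, or_false] at hw
      rcases hw with rfl | rfl <;> norm_num
    · intro w hw
      simp only [List.mem_cons, List.not_mem_nil, or_false] at hw
      rcases hw with rfl | rfl <;> exact h19 _ (by norm_num) (by norm_num)
  · exact (bad_of_chk tab known (l := lTh) hc (r := 31) (p := 13) (by norm_num) (by norm_num)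
      (H257.El.noOrd_congr e noOrd_31_13) (by decide +kernel)).miss

end Cfsg.Agent.H725.Cov
end

private theorem dce_5026a2a195c7 : _root_.True := by
  try have : _root_.True := by simp only [_root_.Cfsg.Agent.H406.Cov.cSp.eq_1]
  try have : _root_.True := by simp only [_root_.Cfsg.Agent.H406.Cov.cO.eq_1]
  exact _root_.True.intro
end
end
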